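import Cfsg.Agent.Lib.Transfer.ConjRankFour.Flat

/-!
Simple groups with five class sizes: the shape of the divisibility order on the sizes when the number of
minimal sizes is not three.
-/

set_option autoImplicit false
set_option linter.style.haveILetI false
set_option linter.unusedSectionVars false
set_option maxHeartbeats 1000000

universe u

namespace Cfsg.Agent.Transfer.ConjRankFive

open Cfsg Cfsg.Agent Cfsg.Agent.Transfer.ClassDisconnected Cfsg.Agent.Transfer.ConjRankThree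
  Cfsg.Agent.Transfer.ConjRankFour

variable {G : Type u} [Group G] [Finite G]

/-- The class sizes of the nontrivial elements. -/
def sizes (G : Type u) [Group G] : Set ℕ := {m : ℕ | ∃ w : G, w ≠ 1 ∧ m = cix w}

/-- The minimal class sizes. -/
def mins (G : Type u) [Group G] : Set ℕ := {a | a ∈ sizes G ∧ ∀ c ∈ sizes G, c ∣ a → c = a}

/-- Non-abelian, five class sizes, the number of minimal ones not three. -/
structure Ctx (G : Type u) [Group G] : Prop where
  hna : ¬ IsMulCommutative G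
  five : (sizes G).ncard = 5
  heads : (mins G).ncard ≠ 3

/-- At most one size is a proper multiple of another. -/
def OneTop (G : Type u) [Group G] : Prop :=
  ∀ u v u' v' : G, Below u v → Below u' v' → cix v = cix v'

/-- Five sizes, two of them minimal and coprime. -/
structure Two (G : Type u) [Group G] (a b c d e : ℕ) : Prop where
  hna : ¬ IsMulCommutative G
  mem : ∀ w : G, w ≠ 1 → cix w = a ∨ cix w = b ∨ cix w = c ∨ cix w = d ∨ cix w = e
  exA : ∃ w : G, w ≠ 1 ∧ cix w = a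
  exB : ∃ w : G, w ≠ 1 ∧ cix w = b
  exC : ∃ w : G, w ≠ 1 ∧ cix w = c
  exD : ∃ w : G, w ≠ 1 ∧ cix w = d
  exE : ∃ w : G, w ≠ 1 ∧ cix w = e
  cop : a.Coprime b
  upC : a ∣ c ∨ b ∣ c
  upD : a ∣ d ∨ b ∣ d
  upE : a ∣ e ∨ b ∣ e
  nd : [a, b, c, d, e].Nodup
  ha : 1 < a
  hb : 1 < b

theorem sizes_finite (X : Ctx G) : (sizes G).Finite := Set.finite_of_ncard_ne_zero (by rw [X.five]; norm_num)

theorem exists_min {m : ℕ} (h : m ∈ sizes G) : ∃ a ∈ mins G, a ∣ m := by
  induction m using Nat.strong_induction_on with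
  | _ m ih =>
    by_cases hm : m ∈ mins G
    · exact ⟨m, hm, dvd_rfl⟩
    simp only [mins, Set.mem_setOf_eq, not_and, not_forall] at hm
    obtain ⟨c, hc, hcm, hne⟩ := hm h
    have hpos : 0 < m := by obtain ⟨w, -, rfl⟩ := h; exact cix_pos w
    obtain ⟨a, ha, hac⟩ := ih c (lt_of_le_of_ne (Nat.le_of_dvd hpos hcm) hne) hc
    exact ⟨a, ha, hac.trans hcm⟩

variable [IsSimpleGroup G]

/-- The case division. -/
theorem Ctx.oneTop_or_two (X : Ctx G) : OneTop G ∨ ∃ a b c d e : ℕ, Two G a b c d e := by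
  classical
  have hfin := sizes_finite X
  have hsub : mins G ⊆ sizes G := fun a ha => ha.1
  have hle : (mins G).ncard ≤ 5 := X.five ▸ Set.ncard_le_ncard hsub hfin
  have hdvd : ∀ r : ℕ, r.Prime → ¬ ∀ m ∈ mins G, r ∣ m := fun r hr h => by
    obtain ⟨w, hw, hnd⟩ := exists_not_dvd (G := G) hr
    obtain ⟨a, ha, had⟩ := exists_min (G := G) ⟨w, hw, rfl⟩
    exact hnd ((h a ha).trans had)
  by_cases h4 : 4 ≤ (mins G).ncard
  · left
    have h1 : (sizes G \ mins G).ncard ≤ 1 := by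
      rw [Set.ncard_diff hsub (hfin.subset hsub), X.five]; omega
    intro u v u' v' B B'
    refine (Set.ncard_le_one (hfin.subset Set.diff_subset)).1 h1 _ ⟨⟨v, B.hv, rfl⟩, fun hm => ?_⟩ _
      ⟨⟨v', B'.hv, rfl⟩, fun hm => ?_⟩
    · exact B.ne (hm.2 _ ⟨u, B.hu, rfl⟩ B.dvd)
    · exact B'.ne (hm.2 _ ⟨u', B'.hu, rfl⟩ B'.dvd)
  right
  have h2 : (mins G).ncard = 2 := by
    have := X.heads
    rcases (by omega : (mins G).ncard = 0 ∨ (mins G).ncard = 1 ∨ (mins G).ncard = 2) with h | h | h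
    · exfalso
      obtain ⟨w, hw, -⟩ := exists_not_dvd (G := G) Nat.prime_two
      obtain ⟨a, ha, -⟩ := exists_min (G := G) ⟨w, hw, rfl⟩
      rw [(Set.ncard_eq_zero (hfin.subset hsub)).1 h] at ha
      exact ha
    · exfalso
      obtain ⟨a, ha⟩ := Set.ncard_eq_one.1 h
      obtain ⟨w, hw, rfl⟩ := (ha.symm ▸ Set.mem_singleton a : a ∈ mins G).1
      obtain ⟨r, hr, hra⟩ := Nat.exists_prime_and_dvd (cix_ne_one X.hna hw)
      refine hdvd r hr fun m hm => ?_
      rw [ha, Set.mem_singleton_iff] at hm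
      exact hm ▸ hra
    · exact h
  obtain ⟨a, b, hab, hm⟩ := Set.ncard_eq_two.1 h2
  have ha : a ∈ mins G := hm.symm ▸ Set.mem_insert a _
  have hb : b ∈ mins G := hm.symm ▸ Set.mem_insert_of_mem a rfl
  have hrest : (sizes G \ {a, b}).ncard = 3 := by
    rw [← hm, Set.ncard_diff hsub (hfin.subset hsub), X.five, h2]
  obtain ⟨c, d, e, hcd, hce, hde, hr⟩ := Set.ncard_eq_three.1 hrest
  have hc : c ∈ sizes G \ {a, b} := hr.symm ▸ Or.inl rfl
  have hd : d ∈ sizes G \ {a, b} := hr.symm ▸ Or.inr (Or.inl rfl)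
  have he : e ∈ sizes G \ {a, b} := hr.symm ▸ Or.inr (Or.inr rfl)
  have hup : ∀ m ∈ sizes G, a ∣ m ∨ b ∣ m := fun m hm' => by
    obtain ⟨n, hn, hnm⟩ := exists_min hm'
    rw [hm] at hn
    rcases hn with rfl | rfl
    exacts [Or.inl hnm, Or.inr hnm]
  have ha' : a ∈ sizes G := ha.1
  obtain ⟨x, hx, hxa⟩ := id ha'
  obtain ⟨y, hy, hyb⟩ := id hb.1
  obtain ⟨wc, hwc, hwc'⟩ := id hc.1
  obtain ⟨wd, hwd, hwd'⟩ := id hd.1
  obtain ⟨we, hwe, hwe'⟩ := id he.1
  refine ⟨a, b, c, d, e, X.hna, fun w hw => ?_, ⟨x, hx, hxa.symm⟩, ⟨y, hy, hyb.symm⟩, ⟨wc, hwc, hwc'.symm⟩,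
    ⟨wd, hwd, hwd'.symm⟩, ⟨we, hwe, hwe'.symm⟩, ?_, hup c hc.1, hup d hd.1, hup e he.1, ?_,
    hxa ▸ one_lt_cix X.hna hx, hyb ▸ one_lt_cix X.hna hy⟩
  · by_cases h : cix w ∈ ({a, b} : Set ℕ)
    · rcases h with h | h
      · exact Or.inl h
      · exact Or.inr (Or.inl h)
    · have h' : cix w ∈ sizes G \ {a, b} := ⟨⟨w, hw, rfl⟩, h⟩
      rw [hr] at h'
      rcases h' with h' | h' | h'
      exacts [Or.inr (Or.inr (Or.inl h')), Or.inr (Or.inr (Or.inr (Or.inl h'))),
        Or.inr (Or.inr (Or.inr (Or.inr h')))]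
  · refine Nat.coprime_of_dvd fun r hr' h1 h3 => hdvd r hr' fun m hm' => ?_
    rw [hm] at hm'
    rcases hm' with rfl | rfl
    exacts [h1, h3]
  · have hac := fun h : a = c => hc.2 (Or.inl h.symm)
    have hbc := fun h : b = c => hc.2 (Or.inr h.symm)
    have had := fun h : a = d => hd.2 (Or.inl h.symm)
    have hbd := fun h : b = d => hd.2 (Or.inr h.symm)
    have hae := fun h : a = e => he.2 (Or.inl h.symm)
    have hbe := fun h : b = e => he.2 (Or.inr h.symm)
    simp only [List.nodup_cons, List.mem_cons, List.not_mem_nil, or_false, not_or, List.nodup_nil, and_true,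
      not_false_eq_true]
    exact ⟨⟨hab, hac, had, hae⟩, ⟨hbc, hbd, hbe⟩, ⟨hcd, hce⟩, hde⟩

omit [IsSimpleGroup G] in
theorem OneTop.flat (O : OneTop G) : Flat G := fun u v w B B' => O u v u w B B'

theorem OneTop.good (O : OneTop G) (hna : ¬ IsMulCommutative G) {t : G} (ht : orderOf t = 2) : Good t :=
  O.flat.good ⟨hna, fun {u v w n} B B' h => absurd (O u v w n B B') h⟩ ht

namespace Two

variable {a b c d e : ℕ} (T : Two G a b c d e)

include T

omit [Finite G] [IsSimpleGroup G] in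
theorem swap : Two G b a c d e where
  hna := T.hna
  mem w hw := by rcases T.mem w hw with h | h | h | h | h <;> tauto
  exA := T.exB
  exB := T.exA
  exC := T.exC
  exD := T.exD
  exE := T.exE
  cop := T.cop.symm
  upC := T.upC.symm
  upD := T.upD.symm
  upE := T.upE.symm
  nd := (List.Perm.swap b a [c, d, e]).nodup_iff.1 T.nd
  ha := T.hb
  hb := T.ha

omit [Finite G] [IsSimpleGroup G] in
theorem rot : Two G a b d e c where
  hna := T.hna
  mem w hw := by rcases T.mem w hw with h | h | h | h | h <;> tauto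
  exA := T.exA
  exB := T.exB
  exC := T.exD
  exD := T.exE
  exE := T.exC
  cop := T.cop
  upC := T.upD
  upD := T.upE
  upE := T.upC
  nd := by
    have := T.nd
    simp only [List.nodup_cons, List.mem_cons, List.not_mem_nil, or_false, not_or, List.nodup_nil, and_true,
      not_false_eq_true] at this ⊢
    tauto
  ha := T.ha
  hb := T.hb

omit [Finite G] [IsSimpleGroup G] in
theorem perm : Two G a b d c e where
  hna := T.hna
  mem w hw := by rcases T.mem w hw with h | h | h | h | h <;> tauto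
  exA := T.exA
  exB := T.exB
  exC := T.exD
  exD := T.exC
  exE := T.exE
  cop := T.cop
  upC := T.upD
  upD := T.upC
  upE := T.upE
  nd := by
    have := T.nd
    simp only [List.nodup_cons, List.mem_cons, List.not_mem_nil, or_false, not_or, List.nodup_nil, and_true,
      not_false_eq_true] at this ⊢
    exact ⟨⟨this.1.1, this.1.2.2.1, this.1.2.1, this.1.2.2.2⟩, ⟨this.2.1.2.1, this.2.1.1, this.2.1.2.2⟩,
      ⟨Ne.symm this.2.2.1.1, this.2.2.2⟩, this.2.2.1.2⟩
  ha := T.ha
  hb := T.hb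

omit [IsSimpleGroup G] in
theorem not_a_dvd_b : ¬ a ∣ b := fun h => T.ha.ne' (Nat.eq_one_of_dvd_coprimes T.cop dvd_rfl h)

omit [IsSimpleGroup G] in
theorem not_b_dvd_a : ¬ b ∣ a := T.swap.not_a_dvd_b

omit [IsSimpleGroup G] in
theorem up {w : G} (hw : w ≠ 1) : a ∣ cix w ∨ b ∣ cix w := by
  rcases T.mem w hw with h | h | h | h | h <;> rw [h]
  exacts [Or.inl dvd_rfl, Or.inr dvd_rfl, T.upC, T.upD, T.upE]

omit [IsSimpleGroup G] in
/-- An element whose class size divides `a` has class size `a`. -/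
theorem of_dvd_a {w : G} (hw : w ≠ 1) (h : cix w ∣ a) : cix w = a :=
  Nat.dvd_antisymm h ((T.up hw).resolve_right fun hb => T.not_b_dvd_a (hb.trans h))

omit [IsSimpleGroup G] in
theorem ne_one_a {w : G} (h : cix w = a) : w ≠ 1 := ne_one_of_cix (by rw [h]; exact T.ha.ne')

theorem ncomm {x y : G} (hx : cix x = a) (hy : cix y = b) : ¬ Commute x y :=
  ConjRankFour.not_commute T.hna (T.ne_one_a hx) (T.swap.ne_one_a hy) (by rw [hx, hy]; exact T.cop)

/-- An element of prime order and class size `a`. -/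
theorem exists_x : ∃ (x : G) (p : ℕ), p.Prime ∧ orderOf x = p ∧ cix x = a := by
  obtain ⟨x, hx1, hx⟩ := T.exA
  obtain ⟨j, p, k, hp, hjk, hjc⟩ := exists_primary_noncentral (not_mem_center T.hna hx1)
  obtain ⟨i, hio, -, hle⟩ := exists_root hp (fun h1 => hjc (by rw [h1]; exact one_mem _) : x ^ j ≠ 1) hjk
  refine ⟨i, p, hp, hio, T.of_dvd_a (fun e => hp.ne_one (by rw [← hio, e, orderOf_one])) ?_⟩
  exact (Subgroup.index_dvd_of_le hle).trans (hx ▸ cix_pow_dvd x j)

theorem exists_prime_ne (p : ℕ) : ∃ r : ℕ, r.Prime ∧ r ∣ a ∧ r ≠ p := by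
  by_contra hc
  push Not at hc
  obtain ⟨q, hq, hqa⟩ := Nat.exists_prime_and_dvd T.ha.ne'
  obtain ⟨x, hx1, hx⟩ := T.exA
  have ha : a = q ^ a.primeFactorsList.length := Nat.eq_prime_pow_of_unique_prime_dvd
    (by have := T.ha; omega) fun {l} hl hla => (hc l hl hla).trans (hc q hq hqa).symm
  exact card_not_prime T.hna (Char.simple_prime_pow_class q _ hq x hx1 (show cix x = _ from hx.trans ha))

omit [IsSimpleGroup G] in
theorem inf_index {x y : G} (hx : cix x = a) (hy : cix y = b) :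
    (Subgroup.centralizer ({x} : Set G) ⊓ Subgroup.centralizer ({y} : Set G)).index = a * b := by
  rw [Grp.HallConv.index_inf_of_coprime (show (cix x).Coprime (cix y) by rw [hx, hy]; exact T.cop)]
  show cix x * cix y = _
  rw [hx, hy]

end Two

end Cfsg.Agent.Transfer.ConjRankFive
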