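import Cfsg.Agent.Lib.Transfer.ConjRankFive.LocFalse
import Cfsg.Agent.Lib.Grp.Real
import Cfsg.Agent.S4034
import Cfsg.Agent.Lib.Transfer.QBaer.Basic

/-!
For odd `a` some centraliser of class size `b` is nilpotent.
-/

set_option autoImplicit false
set_option linter.style.haveILetI false
set_option linter.unusedSectionVars false
set_option maxHeartbeats 1000000

universe u

namespace Cfsg.Agent.Transfer.ConjRankFive

open scoped IsMulCommutative
open Cfsg Cfsg.Agent Cfsg.Agent.Transfer.ClassDisconnected Cfsg.Agent.Transfer.ConjRankThree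
  Cfsg.Agent.Transfer.ConjRankFour

/-- An abelian `r`-complement and `r`-power class sizes of the `r`-elements give nilpotency. -/
theorem nilpotent_of_powers {R : Type u} [Group R] [Finite R] {r : ℕ} (hr : r.Prime) (A : Subgroup R)
    (hA : IsMulCommutative A) (hAr : ¬ r ∣ Nat.card A) {j : ℕ} (hj : A.index = r ^ j)
    (h : ∀ (v : R) (i : ℕ), orderOf v = r ^ i → ∃ n, cix v = r ^ n) : Group.IsNilpotent R := by
  haveI := Fact.mk hr
  obtain ⟨Q⟩ : Nonempty (Sylow r R) := inferInstance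
  have hAQ : A ⊔ (Q : Subgroup R) = ⊤ := by
    refine Subgroup.eq_top_of_card_eq _ (Nat.dvd_antisymm (A ⊔ (Q : Subgroup R)).card_subgroup_dvd_card ?_)
    rw [← A.card_mul_index, hj]
    refine (((hr.coprime_iff_not_dvd).2 hAr).symm.pow_right j).mul_dvd_of_dvd_of_dvd
      (Subgroup.card_dvd_of_le le_sup_left) ?_
    exact (Q.pow_dvd_card_of_pow_dvd_card (hj ▸ A.index_dvd_card)).trans (Subgroup.card_dvd_of_le le_sup_right)
  -- `A` centralises the Sylow subgroup
  have hcen : ∀ p ∈ A, ∀ q ∈ (Q : Subgroup R), Commute q p := by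
    intro p hp q hq
    suffices hq' : q ∈ Subgroup.centralizer ({p} : Set R) from mem_cent.1 hq'
    have hpq : Subgroup.zpowers p ≤ A := Subgroup.zpowers_le.2 hp
    suffices hall : ∀ (p' : R) (s i : ℕ), s.Prime → p' ∈ A → orderOf p' = s ^ i →
        (Q : Subgroup R) ≤ Subgroup.centralizer ({p'} : Set R) by
      refine mem_cent.2 (Commute.symm (mem_cent.1 ?_))
      refine mem_of_primary (Subgroup.centralizer ({q} : Set R)) fun n s i hs hn => ?_
      exact mem_cent.2 (mem_cent.1 (hall (p ^ n) s i hs (pow_mem hp n) hn hq)).symm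
    intro p' s i hs hp' hp'o
    haveI := Fact.mk hs
    by_cases hp1 : p' = 1
    · rw [hp1]; exact fun g _ => mem_cent.2 (Commute.one_right g)
    have hsr : s ≠ r := by
      intro e
      have hi : i ≠ 0 := fun h0 => hp1 (orderOf_eq_one_iff.1 (by rw [hp'o, h0, pow_zero]))
      exact hAr (e ▸ (dvd_pow_self s hi).trans (hp'o ▸ A.orderOf_dvd_natCard hp'))
    refine (Subgroup.subgroupOf_eq_top).1 (Grp.eq_top_of_conj_cover _ fun v => ?_)
    obtain ⟨l, hl⟩ := IsPGroup.iff_orderOf.1 Q.isPGroup' v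
    rw [← Subgroup.orderOf_coe] at hl
    obtain ⟨n, hn⟩ := h _ l hl
    -- a fixed point of `p'` in the class
    have hfix : ∃ g : R, Commute p' (g * v * g⁻¹) := by
      by_cases hex : ∃ g : R, Commute p' (g * v * g⁻¹)
      · exact hex
      exfalso
      push Not at hex
      set X : Set R := cl (v : R)
      letI : MulAction (Subgroup.zpowers p') X :=
        { smul := fun g x => ⟨(g : R) * x * (g : R)⁻¹, IsConj.trans x.2 (isConj_iff.2 ⟨g, rfl⟩)⟩
          one_smul := fun x => Subtype.ext (by show (1 : R) * x * 1⁻¹ = x; group)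
          mul_smul := fun g g' x => Subtype.ext (by
            show ((g * g' : Subgroup.zpowers p') : R) * x * _ = _
            show _ = (g : R) * ((g' : R) * x * (g' : R)⁻¹) * (g : R)⁻¹
            simp [mul_assoc]) }
      have hsX : ¬ s ∣ Nat.card X := by
        rw [Nat.card_coe_set_eq, ncard_cl, hn]
        exact fun hd => hsr ((Nat.prime_dvd_prime_iff_eq hs hr).1 (hs.dvd_of_dvd_pow hd))
      obtain ⟨⟨x, hx⟩, hxf⟩ := (IsPGroup.of_card (p := s) (n := i)
        (by rw [Nat.card_zpowers, hp'o]) : IsPGroup s (Subgroup.zpowers p')).nonempty_fixed_point_of_prime_not_dvd_card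
          X hsX
      obtain ⟨g, rfl⟩ := isConj_iff.1 hx
      refine hex g (mul_inv_eq_iff_eq_mul.1 ?_)
      exact congrArg Subtype.val (hxf ⟨p', Subgroup.mem_zpowers p'⟩)
    obtain ⟨g, hg⟩ := hfix
    -- moved into `Q` by an element of `Q`
    have hsup : Subgroup.centralizer ({(v : R)} : Set R) ⊔ (Q : Subgroup R) = ⊤ := by
      refine Subgroup.eq_top_of_card_eq _ (Nat.dvd_antisymm (Subgroup.card_subgroup_dvd_card _) ?_)
      rw [← A.card_mul_index, hj]
      refine (((hr.coprime_iff_not_dvd).2 hAr).symm.pow_right j).mul_dvd_of_dvd_of_dvd ?_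
        ((Q.pow_dvd_card_of_pow_dvd_card (hj ▸ A.index_dvd_card)).trans (Subgroup.card_dvd_of_le le_sup_right))
      refine Dvd.dvd.trans ?_ (Subgroup.card_dvd_of_le le_sup_left)
      refine ((((hr.coprime_iff_not_dvd).2 hAr).symm.pow_right n)).dvd_of_dvd_mul_right ?_
      rw [← hn, card_mul_cix]
      exact A.card_subgroup_dvd_card
    -- `R = Q C(v)` as sets
    obtain ⟨q', hq', c, hc, rfl⟩ : ∃ q' ∈ (Q : Subgroup R), ∃ c ∈ Subgroup.centralizer ({(v : R)} : Set R),
        g = q' * c := by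
      by_contra hno
      push Not at hno
      classical
      set C := Subgroup.centralizer ({(v : R)} : Set R) with hC
      -- counting the product set
      have hcop : ((Q : Subgroup R).index).Coprime C.index := by
        rw [show C.index = r ^ n from hn]
        exact ((hr.coprime_iff_not_dvd).2 Q.not_dvd_index).symm.pow_right n
      obtain ⟨p, hp, hc⟩ := QBaer.exists_mem_of_coprime_index hcop g
      exact hno p hp _ hc (mul_inv_cancel_left p g).symm
    refine ⟨⟨q', hq'⟩, ?_⟩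
    rw [Subgroup.mem_subgroupOf]
    refine mem_cent.2 (Commute.symm ?_)
    have e : q' * c * (v : R) * (q' * c)⁻¹ = q' * v * q'⁻¹ := by
      calc q' * c * (v : R) * (q' * c)⁻¹ = q' * (c * v * c⁻¹) * q'⁻¹ := by group
        _ = q' * v * q'⁻¹ := by rw [(mem_cent.1 hc).eq, mul_inv_cancel_right]
    rw [e] at hg
    exact hg
  -- both factors are normal
  have hcomm : ∀ p ∈ A, ∀ g : R, g * p * g⁻¹ = p := by
    intro p hp g
    have hg : g ∈ Subgroup.centralizer ({p} : Set R) := by
      have hle : A ⊔ (Q : Subgroup R) ≤ Subgroup.centralizer ({p} : Set R) := sup_le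
        (fun p' hp' => mem_cent.2 (congrArg Subtype.val (hA.is_comm.comm ⟨p', hp'⟩ ⟨p, hp⟩)))
        fun q hq => mem_cent.2 (hcen p hp q hq)
      exact hle (hAQ ▸ Subgroup.mem_top g)
    rw [(mem_cent.1 hg).eq, mul_inv_cancel_right]
  haveI : A.Normal := ⟨fun p hp g => by rw [hcomm p hp g]; exact hp⟩
  haveI : (Q : Subgroup R).Normal := ⟨fun q hq g => by
    have hg : g ∈ A ⊔ (Q : Subgroup R) := hAQ ▸ Subgroup.mem_top g
    obtain ⟨p, hp, q', hq', rfl⟩ := Subgroup.mem_sup_of_normal_left.1 hg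
    have h1 : q' * q * q'⁻¹ ∈ (Q : Subgroup R) := mul_mem (mul_mem hq' hq) (inv_mem hq')
    have h2 : p * (q' * q * q'⁻¹) * p⁻¹ = q' * q * q'⁻¹ := by
      rw [(hcen p hp _ h1).symm.eq, mul_inv_cancel_right]
    rw [show p * q' * q * (p * q')⁻¹ = p * (q' * q * q'⁻¹) * p⁻¹ by group, h2]
    exact h1⟩
  haveI : Group.IsNilpotent A := CommGroup.isNilpotent (G := A)
  haveI : Group.IsNilpotent (Q : Subgroup R) := Q.isPGroup'.isNilpotent
  have := Grp.isNilpotent_sup_normal A (Q : Subgroup R) inferInstance inferInstance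
  haveI : Group.IsNilpotent (⊤ : Subgroup R) := hAQ ▸ this
  exact nilpotent_of_mulEquiv (Subgroup.topEquiv (G := R))

variable {G : Type u} [Group G] [Finite G] [IsSimpleGroup G]

namespace Split

variable {a b c d e : ℕ} (S : Split G a b c d e)

include S

/-- An element of order a power of the prime of `k` with class size `b`. -/
theorem exists_y (hodd : ¬ 2 ∣ a) : ∃ (k r m : ℕ) (y : G) (i : ℕ), e = b * k ∧ 1 < k ∧ k ∣ a ∧ r.Prime ∧
    k = r ^ m ∧ orderOf y = r ^ i ∧ cix y = b := by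
  obtain ⟨k, hk, hk1, hka⟩ := S.exists_k
  obtain ⟨y, r₀, hr₀, hyo, hy⟩ := S.T.swap.exists_x
  haveI := S.solvable_of_odd (K := Subgroup.centralizer ({y} : Set G)) (S.T.card_B hy ▸ hodd)
  obtain ⟨l, hl, hlk⟩ := Nat.exists_prime_and_dvd (by omega : k ≠ 1)
  have hpow : k = l ^ k.primeFactorsList.length := Nat.eq_prime_pow_of_unique_prime_dvd (by omega) fun {q} hq hqk => by
    by_contra hne
    exact S.no_two_primes hk hka hy hr₀ (i := 1) (by rw [hyo, pow_one]) hq hl hne hqk hlk
  by_cases hlr : l = r₀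
  · exact ⟨k, l, _, y, 1, hk, hk1, hka, hl, hpow, by rw [pow_one, hyo, hlr], hy⟩
  · obtain ⟨z, hzo, hz, -⟩ := S.central_of_dvd hk hka hy hr₀ (i := 1) (by rw [hyo, pow_one]) hl hlk hlr
    exact ⟨k, l, _, z, 1, hk, hk1, hka, hl, hpow, by rw [pow_one, hzo], hz⟩

/-- An abelian `r`-complement in the centraliser of an `r`-element of class size `b`. -/
theorem complement {k r m : ℕ} (hk : e = b * k) (hr : r.Prime) (hm : k = r ^ m) {y : G} {i : ℕ}
    (hyo : orderOf y = r ^ i) (hy : cix y = b) :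
    ∃ A : Subgroup (Subgroup.centralizer ({y} : Set G)), IsMulCommutative A ∧ ¬ r ∣ Nat.card A ∧
      ∃ j : ℕ, A.index = r ^ j := by
  refine (Cfsg.Agent.S4034.result hr).1 fun g hg => ?_
  rcases S.kappa hk hy g (by rw [hyo, Subgroup.orderOf_coe]; exact hg.symm.pow_left i) with ⟨h, -⟩ | ⟨h, -⟩
  · exact ⟨0, by rw [Cfsg.Agent.S4033.class_ncard, pow_zero]; exact h⟩
  · exact ⟨m, by rw [Cfsg.Agent.S4033.class_ncard, ← hm]; exact h⟩

/-- An `l`-element of class size `b`, `l` not the prime of `k`, has nilpotent centraliser. -/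
theorem nilpotent_of_primary {k r m : ℕ} (hk : e = b * k) (hka : k ∣ a) (hr : r.Prime) (hm : k = r ^ m)
    (hrk : r ∣ k) {α : G} {l i : ℕ} (hl : l.Prime) (hlr : l ≠ r) (hαo : orderOf α = l ^ i) (hα : cix α = b) :
    Group.IsNilpotent (Subgroup.centralizer ({α} : Set G)) := by
  obtain ⟨z, hzo, hz, hzC⟩ := S.central_of_dvd hk hka hα hl hαo hr hrk hlr.symm
  obtain ⟨A, hA, hAr, j, hj⟩ := S.complement hk hr hm (i := 1) (by rw [hzo, pow_one]) hz
  haveI : Group.IsNilpotent (Subgroup.centralizer ({z} : Set G)) := by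
    refine nilpotent_of_powers hr A hA hAr hj fun v n hv => ?_
    have key : cix (⟨(v : G), hzC ▸ v.2⟩ : Subgroup.centralizer ({α} : Set G)) = cix v := cix_congr hzC.symm rfl
    rcases S.kappa hk hα ⟨(v : G), hzC ▸ v.2⟩ (by
      show (orderOf α).Coprime (orderOf (v : G))
      rw [hαo, Subgroup.orderOf_coe, hv]
      exact (((Nat.coprime_primes hl hr).2 hlr).pow_left i).pow_right n) with ⟨h, -⟩ | ⟨h, -⟩
    · exact ⟨0, by rw [pow_zero, ← key]; exact h⟩
    · exact ⟨m, by rw [← hm, ← key]; exact h⟩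
  exact nilpotent_of_mulEquiv (MulEquiv.subgroupCongr hzC)

/-- Some centraliser of class size `b` is nilpotent. -/
theorem exists_nilpotent (hodd : ¬ 2 ∣ a) :
    ∃ y : G, cix y = b ∧ Group.IsNilpotent (Subgroup.centralizer ({y} : Set G)) := by
  by_contra hno
  push Not at hno
  obtain ⟨k, r, m, y, i, hk, hk1, hka, hr, hm, hyo, hy⟩ := S.exists_y hodd
  have hm0 : m ≠ 0 := fun h => by rw [hm, h, pow_zero] at hk1; omega
  have hrk : r ∣ k := hm ▸ dvd_pow_self r hm0
  haveI := Fact.mk hr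
  set R := Subgroup.centralizer ({y} : Set G) with hR
  obtain ⟨A₀, hA₀, hA₀r, j, hj⟩ := S.complement hk hr hm hyo hy
  set A := A₀.map R.subtype with hA
  have hAR : A ≤ R := Subgroup.map_subtype_le _
  have hcA : Nat.card A = Nat.card A₀ := Subgroup.card_map_of_injective R.subtype_injective
  have hfull : a = Nat.card A * r ^ j := by
    rw [hcA, ← hj, A₀.card_mul_index]; exact (S.T.card_B hy).symm
  have hcop : (Nat.card A).Coprime r := hcA ▸ ((hr.coprime_iff_not_dvd).2 hA₀r).symm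
  have hAc : ∀ p ∈ A, ∀ q ∈ A, Commute p q := by
    rintro _ ⟨p, hp, rfl⟩ _ ⟨q, hq, rfl⟩
    have : Commute p q := congrArg Subtype.val (hA₀.is_comm.comm ⟨p, hp⟩ ⟨q, hq⟩)
    exact this.map R.subtype
  have hAne : A ≠ ⊥ := by
    intro h
    rw [h, Subgroup.card_bot, one_mul] at hfull
    obtain ⟨s, hs, hsa, hsr⟩ := S.T.exists_prime_ne r
    exact hsr ((Nat.prime_dvd_prime_iff_eq hs hr).1 (hs.dvd_of_dvd_pow (hfull ▸ hsa)))
  -- the centralisers of primary elements of `A`
  have hprim : ∀ α ∈ A, α ≠ 1 → ∀ s n : ℕ, s.Prime → orderOf α = s ^ n →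
      Subgroup.centralizer ({α} : Set G) = Subgroup.centralizer (A : Set G) ∧
        (∀ p ∈ Subgroup.centralizer ({α} : Set G), ∀ q ∈ Subgroup.centralizer ({α} : Set G), Commute p q) ∧
        Nat.card (Subgroup.centralizer ({α} : Set G)) * k = a := by
    intro α hα hα1 s n hs hαo
    set C := Subgroup.centralizer ({α} : Set G) with hC
    have hn : n ≠ 0 := fun h => hα1 (orderOf_eq_one_iff.1 (by rw [hαo, h, pow_zero]))
    have hsA : s ∣ Nat.card A := (dvd_pow_self s hn).trans (hαo ▸ A.orderOf_dvd_natCard hα)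
    have hsr : s ≠ r := fun h => hs.ne_one (Nat.eq_one_of_dvd_coprimes hcop hsA h.dvd)
    have hb : b ∣ cix α := (S.T.b_side hα1 fun h => hs.ne_one (Nat.eq_one_of_dvd_coprimes h
      (hαo ▸ dvd_pow_self s hn) (hsA.trans (Dvd.intro _ hfull.symm)))).1
    have hαe : cix α = e := (S.sizes_b hα1 hb).resolve_left fun h =>
      hno α h (S.nilpotent_of_primary hk hka hr hm hrk hs hsr hαo h)
    have hco : (orderOf α).Coprime (orderOf y) := by
      rw [hαo, hyo]; exact (((Nat.coprime_primes hs hr).2 hsr).pow_left n).pow_right i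
    have hAC : A ≤ C := fun p hp => mem_cent.2 (hAc p hp α hα)
    have hCR : C ≤ R := (S.maxE hαe).le hα1 (mem_cent.1 (hAR hα)) hco
    have hcard : Nat.card C * k = a := by
      have h := card_mul_cix α
      rw [hαe, hk, S.T.card_eq] at h
      exact Nat.eq_of_mul_eq_mul_right (by have := S.T.hb; omega : 0 < b)
        ((by ring : Nat.card C * k * b = Nat.card C * (b * k)).trans h)
    obtain ⟨P⟩ : Nonempty (Sylow r C) := inferInstance
    set P' := (P : Subgroup C).map C.subtype with hP'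
    have hPcen : ∀ p ∈ P', C ≤ Subgroup.centralizer ({p} : Set G) := by
      rintro _ ⟨p, hp, rfl⟩
      obtain ⟨l, hl⟩ := IsPGroup.iff_orderOf.1 P.isPGroup' ⟨p, hp⟩
      rw [Subgroup.orderOf_mk, ← Subgroup.orderOf_coe] at hl
      refine (S.maxE hαe).le hα1 (mem_cent.1 p.2).symm ?_
      rw [hαo, Subgroup.coe_subtype, hl]
      exact (((Nat.coprime_primes hs hr).2 hsr).pow_left n).pow_right l
    have hsup : A ⊔ P' = C := by
      refine Subgroup.eq_of_le_of_card_ge (sup_le hAC (Subgroup.map_subtype_le _)) (Nat.le_of_dvd Nat.card_pos ?_)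
      have hCa : Nat.card C ∣ Nat.card A * r ^ j := hfull ▸ Dvd.intro _ hcard
      obtain ⟨l, hl⟩ := Subgroup.card_dvd_of_le hAC
      have hlr : l ∣ r ^ j := Nat.dvd_of_mul_dvd_mul_left Nat.card_pos (hl ▸ hCa)
      obtain ⟨l', -, hl'⟩ := (Nat.dvd_prime_pow hr).1 hlr
      rw [hl, hl']
      refine (hcop.pow_right l').mul_dvd_of_dvd_of_dvd (Subgroup.card_dvd_of_le le_sup_left) ?_
      refine Dvd.dvd.trans ?_ (Subgroup.card_dvd_of_le (le_sup_right : P' ≤ A ⊔ P'))
      rw [hP', Subgroup.card_map_of_injective C.subtype_injective]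
      exact P.pow_dvd_card_of_pow_dvd_card (hl' ▸ Dvd.intro_left _ hl.symm)
    have hab : ∀ p ∈ C, ∀ q ∈ C, Commute p q := by
      intro p hp q hq
      have h1 : C ≤ Subgroup.centralizer ({q} : Set G) := by
        rw [← hsup]
        refine sup_le (fun u hu => ?_) fun u hu => mem_cent.2 (mem_cent.1 (hPcen u hu hq)).symm
        refine mem_cent.2 (Commute.symm (mem_cent.1 ?_))
        have h2 : C ≤ Subgroup.centralizer ({u} : Set G) := by
          rw [← hsup]
          exact sup_le (fun u' hu' => mem_cent.2 (hAc u' hu' u hu))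
            fun u' hu' => mem_cent.2 (mem_cent.1 (hPcen u' hu' (hAC hu))).symm
        exact h2 hq
      exact mem_cent.1 (h1 hp)
    refine ⟨le_antisymm (fun g hg => Subgroup.mem_centralizer_iff.2 fun p hp => (hab p (hAC hp) g hg).eq)
      fun g hg => mem_cent.2 (Subgroup.mem_centralizer_iff.1 hg α hα).symm, hab, hcard⟩
  obtain ⟨α, hα, hα1⟩ := A.bot_or_exists_ne_one.resolve_left hAne
  have hroot : ∀ β ∈ A, β ≠ 1 → ∃ (β' : G) (s : ℕ), β' ∈ A ∧ β' ≠ 1 ∧ s.Prime ∧ orderOf β' = s ^ 1 ∧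
      Subgroup.centralizer ({β} : Set G) ≤ Subgroup.centralizer ({β'} : Set G) := by
    intro β hβ hβ1
    obtain ⟨s, hs, hsβ⟩ := Nat.exists_prime_and_dvd (fun h => hβ1 (orderOf_eq_one_iff.1 h) : orderOf β ≠ 1)
    have ho : orderOf (β ^ (orderOf β / s)) = s := orderOf_pow_orderOf_div (orderOf_pos β).ne' hsβ
    exact ⟨_, s, pow_mem hβ _, fun h => hs.ne_one (by rw [← ho, h, orderOf_one]), hs, by rw [pow_one, ho],
      centralizer_le_pow β _⟩
  obtain ⟨β', s, hβ', hβ'1, hs, hβ'o, -⟩ := hroot α hα hα1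
  obtain ⟨hT, hTc, hTk⟩ := hprim β' hβ' hβ'1 s 1 hs hβ'o
  refine Loc.false' (A := A) (k := k) (r := r) (a := a) (b := b) (c := c) (d := d) (e := e)
    { S := S
      odd := hodd
      hr := hr
      hk := hk
      hk1 := hk1
      hkr := ⟨m, hm⟩
      ne := hAne
      cop := hcop
      full := ⟨j, hfull⟩
      cent := fun β hβ hβ1 => by
        refine le_antisymm ?_ fun g hg => mem_cent.2 (Subgroup.mem_centralizer_iff.1 hg β hβ).symm
        obtain ⟨β', s, hβ', hβ'1, hs, hβ'o, hle⟩ := hroot β hβ hβ1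
        exact hle.trans (hprim β' hβ' hβ'1 s 1 hs hβ'o).1.le
      comm := fun p hp q hq => hTc p (hT.ge hp) q (hT.ge hq)
      le := fun p hp => Subgroup.mem_centralizer_iff.2 fun q hq => (hAc q hq p hp).eq
      cardT := by rw [← hT]; exact hTk
      exY := ⟨y, Subgroup.mem_centralizer_iff.2 fun p hp => (mem_cent.1 (hAR hp)).eq, ⟨i, hyo⟩, hy⟩ }

end Split

end Cfsg.Agent.Transfer.ConjRankFive
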