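import Cfsg.Agent.Lib.Char.TIStar
import Cfsg.Agent.Lib.Char.CohDescent
import Cfsg.Agent.Lib.Transfer.ConjRankThree.TIChar

/-!
A factorisation `G = C(x) R` with `R` a nilpotent TI subgroup containing the centralisers of its nontrivial
elements, with normaliser of odd order: `x` is isolated.
-/

set_option autoImplicit false
set_option linter.style.haveILetI false
set_option linter.unusedSectionVars false
set_option maxHeartbeats 2000000

open scoped ComplexConjugate

universe u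

namespace Cfsg.Agent.Transfer.ConjRankFive

open Cfsg Cfsg.Agent Cfsg.Agent.Char

variable {G : Type u} [Group G] [Fintype G] [IsSimpleGroup G]

/-- A nontrivial irreducible character takes its degree only at the identity. -/
theorem eq_one_of_apply_eq (hna : ¬ IsMulCommutative G) {ψ : IrrCharacter G}
    (hψ : (ψ : G → ℂ) ≠ fun _ => 1) {x : G} (hx : (ψ : G → ℂ) x = (ψ : G → ℂ) 1) : x = 1 := by
  by_contra hx1
  obtain ⟨n, ρ, hρ, he⟩ := ψ.2
  haveI := hρ
  have hn : ‖ρ.character x‖ = (Module.finrank ℂ (Fin n → ℂ) : ℝ) := by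
    rw [he, hx, ← he, Representation.char_one, Complex.norm_natCast]
  obtain ⟨ω, hω⟩ := (norm_character_eq_iff ρ x).1 hn
  have hker : (MonoidHom.ker ρ).Normal := MonoidHom.normal_ker _
  rcases hker.eq_bot_or_eq_top with hb | ht
  · refine hna ⟨⟨comm_of_central_ne_one hx1 (Subgroup.mem_center_iff.2 fun g => ?_)⟩⟩
    refine ((MonoidHom.ker_eq_bot_iff (ρ : G →* ((Fin n → ℂ) →ₗ[ℂ] (Fin n → ℂ)))).1 hb) ?_
    rw [map_mul, map_mul, hω]
    exact LinearMap.ext fun v => by simp
  · refine hψ (irr_const_eq_one ψ.2 fun g => ?_)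
    have hg : ρ g = 1 := MonoidHom.mem_ker.1 (ht ▸ Subgroup.mem_top g)
    rw [← he, Representation.character, Representation.character, hg, map_one ρ]

/-- `x` is isolated in its centraliser. -/
theorem cc_isolated (hna : ¬ IsMulCommutative G) (R : Subgroup G) {x : G} (hx : x ≠ 1) (hR1 : R ≠ ⊥)
    (hnil : Group.IsNilpotent R)
    (hC : ∀ w ∈ R, w ≠ 1 → Subgroup.centralizer ({w} : Set G) ≤ R)
    (hTI : ∀ g : G, g ∉ Subgroup.normalizer (R : Set G) → ∀ k ∈ R, g * k * g⁻¹ ∈ R → k = 1)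
    (hlt : R < Subgroup.normalizer (R : Set G))
    (hodd : Odd (Nat.card ↥(Subgroup.normalizer (R : Set G))))
    (hcard : Nat.card R * Nat.card (Subgroup.centralizer ({x} : Set G)) = Nat.card G)
    (hco : (Nat.card R).Coprime (Nat.card (Subgroup.centralizer ({x} : Set G))))
    {u : G} (hu : u⁻¹ * x * u ∈ Subgroup.centralizer ({x} : Set G)) :
    u ∈ Subgroup.centralizer ({x} : Set G) := by
  classical
  set H := Subgroup.centralizer ({x} : Set G) with hH
  set N := Subgroup.normalizer (R : Set G) with hN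
  letI : Fintype N := Fintype.ofFinite _
  letI : Fintype H := Fintype.ofFinite _
  set K := FrobTI.KN R with hK
  letI : Fintype K := Fintype.ofFinite _
  set a := Nat.card R with ha
  set e := K.index with he
  have hidx : H.index = a := by
    have h1 := H.index_mul_card
    rw [← hcard] at h1
    exact Nat.eq_of_mul_eq_mul_right Nat.card_pos h1
  have ha1 : 1 < a := by
    have := (Nat.card_pos : 0 < Nat.card R)
    by_contra hle
    exact hR1 (Subgroup.eq_bot_of_card_eq _ (by omega : Nat.card R = 1))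
  have he0 : 0 < e := Nat.pos_of_ne_zero Subgroup.index_ne_zero_of_finite
  have hKcard : Nat.card K = a :=
    Nat.card_congr (Subgroup.subgroupOfEquivOfLe (Subgroup.le_normalizer)).toEquiv
  have hNcard : Nat.card N = a * e := by rw [← hKcard]; exact (K.card_mul_index).symm
  have hfix := FrobTI.fix_of_centralizer R hC
  have hCN : ∀ k ∈ K, k ≠ 1 → Subgroup.centralizer ({k} : Set N) ≤ K := fun k hk hk1 n hn =>
    hfix k hk hk1 n (Subgroup.mem_centralizer_singleton_iff.1 hn)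
  obtain ⟨star, D⟩ := KerSets.exists_star R hTI hlt hC hR1 hodd
  let Rel : Finset (IrrCharacter N) :=
    Finset.univ.filter fun φ => FrobTI.NonTriv K (φ : N → ℂ)
  have hmemRel : ∀ {φ : IrrCharacter N}, φ ∈ Rel → FrobTI.NonTriv K (φ : N → ℂ) := fun hφ =>
    (Finset.mem_filter.1 hφ).2
  have hmemS : ∀ {φ : IrrCharacter N}, φ ∈ Rel → (φ : N → ℂ) ∈ {χ : N → ℂ |
      IsIrrCharacter N χ ∧ FrobTI.NonTriv K χ} := fun {φ} hφ => ⟨φ.2, hmemRel hφ⟩
  have hvan : ∀ φ ∈ Rel, ∀ n : N, (n : G) ∉ R → (φ : N → ℂ) n = 0 := fun φ hφ n hn =>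
    FrobTI.vanish K hfix φ.2 (hmemRel hφ) hn
  choose f hf using fun φ : IrrCharacter N => IsIrr.one_eq_pos φ.2
  have hf1 : ∀ φ : IrrCharacter N, (φ : N → ℂ) 1 = (f φ : ℂ) := fun φ => (hf φ).2
  -- two members of least degree
  obtain ⟨ξ, ξ', hξR, hξ'R, hne, hfξ, hfξ'⟩ : ∃ ξ ξ' : IrrCharacter N, ξ ∈ Rel ∧ ξ' ∈ Rel ∧ ξ ≠ ξ' ∧
      f ξ = e ∧ f ξ' = e := by
    haveI : Group.IsNilpotent K :=
      nilpotent_of_mulEquiv (Subgroup.subgroupOfEquivOfLe (Subgroup.le_normalizer : R ≤ N)).symm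
    have hK1 : (⊥ : Subgroup N) < K := bot_lt_iff_ne_bot.2 fun h => by
      rw [h, Subgroup.card_bot] at hKcard
      omega
    obtain ⟨φ, hφ, hdg⟩ := Descent.exists_degree_index K (A := (⊥ : Subgroup N)) hK1
    rw [KerSets.inducedIrrAbove_eq K hCN, Finset.mem_coe] at hφ
    obtain ⟨hφi, hφn, -⟩ := KerSets.mem_TT.1 hφ
    obtain ⟨hφi', hφn', -⟩ := KerSets.mem_TT.1 (KerSets.conjFun_mem hφ)
    have h1 : (φ : N → ℂ) 1 = (e : ℂ) := by rw [KerSets.dg_spec hφi, hdg]
    refine ⟨⟨φ, hφi⟩, ⟨_, hφi'⟩, Finset.mem_filter.2 ⟨Finset.mem_univ _, hφn⟩,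
      Finset.mem_filter.2 ⟨Finset.mem_univ _, hφn'⟩,
      fun h => KerSets.conjFun_ne hodd hφ (congrArg Subtype.val h).symm, ?_, ?_⟩
    · have h2 := hf1 ⟨φ, hφi⟩
      exact Nat.cast_injective (h2.symm.trans h1)
    · refine Nat.cast_injective ((hf1 ⟨_, hφi'⟩).symm.trans ?_)
      show conj (φ 1) = _
      rw [h1, map_natCast]
  -- divisibility of the degrees
  have hdvd : ∀ φ ∈ Rel, e ∣ f φ := by
    intro φ hφ
    have hmem : (φ : N → ℂ) ∈ KerSets.TT K ⊥ :=
      KerSets.mem_TT.2 ⟨φ.2, hmemRel hφ, KerSets.not_nonTriv_bot _⟩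
    have h1 := KerSets.index_dvd_dg K hCN le_rfl bot_le hmem
    have h2 := (KerSets.dg_spec φ.2).symm.trans (hf1 φ)
    rwa [Nat.cast_injective h2] at h1
  -- the permutation character
  set π := indFun H (fun _ => (1 : ℂ)) with hπ
  have hπc : IsCharacter G π := isCharacter_indFun H IsChar.one
  have hπ1 : π 1 = (a : ℂ) := by rw [hπ, indFun_one_eq, hidx, mul_one]
  have hπR : ∀ k ∈ R, k ≠ 1 → π k = 0 := by
    intro k hk hk1
    refine indFun_eq_zero_of_not_conj H _ fun y hy => absurd ?_ hk1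
    have h1 : orderOf k ∣ a := R.orderOf_dvd_natCard hk
    have h2 : orderOf k ∣ Nat.card H := by
      have := H.orderOf_dvd_natCard hy
      rwa [show y⁻¹ * k * y = MulAut.conj y⁻¹ k by simp, MulEquiv.orderOf_eq] at this
    exact orderOf_eq_one_iff.1 (Nat.eq_one_of_dvd_coprimes hco h1 h2)
  obtain ⟨m, hm, hπdec⟩ := IsChar.exists_decomp_inner hπc
  let one : IrrCharacter G := ⟨fun _ => 1, isIrr_one⟩
  have hm1 : m one = 1 := by
    have h1 := hm one
    rw [hπ, classInner_indFun H _ (IsIrr.classFun one.2)] at h1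
    have h2 : classInner (fun _ : H => (1 : ℂ)) (fun h : H => (one : G → ℂ) h) = 1 :=
      classInner_self_irr isIrr_one
    rw [h2] at h1
    exact_mod_cast h1.symm
  choose k hk hkdec using fun ψ : IrrCharacter G =>
    IsChar.exists_decomp_inner (IsChar.res (IsIrr.isCharacter ψ.2) N)
  choose d hd using fun ψ : IrrCharacter G => IsIrr.one_eq_pos ψ.2
  have hdtot : ∑ ψ ∈ Finset.univ.erase one, m ψ * d ψ + 1 = a := by
    have h1 := congrFun hπdec 1
    rw [sum_irr_apply, hπ1, Finset.sum_congr rfl fun ψ _ => by rw [(hd ψ).2, ← Nat.cast_mul],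
      ← Nat.cast_sum] at h1
    have h2 : a = ∑ ψ, m ψ * d ψ := by exact_mod_cast h1
    have h3 : d one = 1 := by
      have h4 : ((d one : ℕ) : ℂ) = ((1 : ℕ) : ℂ) := by rw [← (hd one).2, Nat.cast_one]
      exact Nat.cast_injective h4
    rw [← Finset.add_sum_erase _ _ (Finset.mem_univ one), hm1, h3] at h2
    omega
  have hk1 : ∀ φ ∈ Rel, k one φ = 0 := by
    intro φ hφ
    have h1 := hk one φ
    have hne1 : (fun _ : N => (1 : ℂ)) ≠ (φ : N → ℂ) := by
      intro hc
      obtain ⟨z, -, hz⟩ := hmemRel hφ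
      exact hz (by rw [← hc])
    rw [show classInner (fun n : N => (one : G → ℂ) n) (φ : N → ℂ) = 0 from
      classInner_irr_ne isIrr_one φ.2 hne1] at h1
    exact_mod_cast h1.symm
  have hsum : ∀ φ ∈ Rel, e * ∑ ψ, m ψ * k ψ φ = f φ := by
    intro φ hφ
    have hsplit : classInner (fun n : N => π n) (φ : N → ℂ) = ((∑ ψ, m ψ * k ψ φ : ℕ) : ℂ) := by
      have h1 : (fun n : N => π n) =
          ∑ ψ : IrrCharacter G, (m ψ : ℂ) • (fun n : N => (ψ : G → ℂ) n) := by
        funext n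
        simp [hπdec, Finset.sum_apply]
      rw [h1, classInner_sum_left, Nat.cast_sum]
      refine Finset.sum_congr rfl fun ψ _ => ?_
      rw [classInner_smul_left, hk, Nat.cast_mul]
    have hval : (e : ℂ) * classInner (fun n : N => π n) (φ : N → ℂ) = (f φ : ℂ) := by
      rw [classInner, Finset.sum_eq_single (1 : N)]
      · rw [Subgroup.coe_one, hπ1, hf1, hNcard, map_natCast, Nat.cast_mul]
        have : (a : ℂ) ≠ 0 := Nat.cast_ne_zero.2 (by omega)
        have : (e : ℂ) ≠ 0 := Nat.cast_ne_zero.2 he0.ne'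
        field_simp
      · intro n _ hn
        by_cases hnR : (n : G) ∈ R
        · rw [hπR n hnR (fun h => hn (Subtype.ext h)), zero_mul]
        · rw [hvan φ hφ n hnR, map_zero, mul_zero]
      · exact fun h => absurd (Finset.mem_univ _) h
    rw [hsplit] at hval
    exact_mod_cast hval
  -- every nonprincipal character has a member in its restriction
  have hex : ∀ ψ, ψ ≠ one → ∃ φ ∈ Rel, k ψ φ ≠ 0 := by
    intro ψ hψ
    by_contra hno
    push Not at hno
    obtain ⟨r₀, hr₀, hr₀1⟩ := R.bot_or_exists_ne_one.resolve_left hR1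
    have hr₀N : r₀ ∈ N := Subgroup.le_normalizer hr₀
    refine hr₀1 (eq_one_of_apply_eq hna (fun h => hψ (Subtype.ext h)) ?_)
    have h1 := congrFun (hkdec ψ) ⟨r₀, hr₀N⟩
    have h2 := congrFun (hkdec ψ) 1
    rw [sum_irr_apply] at h1 h2
    simp only [Subgroup.coe_one] at h2
    rw [h1, h2]
    refine Finset.sum_congr rfl fun φ _ => ?_
    by_cases hφ : φ ∈ Rel
    · rw [hno φ hφ, Nat.cast_zero, zero_mul, zero_mul]
    · have hφ' : ¬ FrobTI.NonTriv K (φ : N → ℂ) := fun h => hφ (Finset.mem_filter.2 ⟨Finset.mem_univ _, h⟩)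
      simp only [FrobTI.NonTriv, not_exists, not_and, not_not] at hφ'
      rw [hφ' ⟨r₀, hr₀N⟩ hr₀]
  -- the star images
  have hcomb : ∀ φ ∈ Rel, ∀ ψ : IrrCharacter G, (e : ℂ) * (k ψ φ : ℂ) - (f φ : ℂ) * (k ψ ξ : ℂ) =
      (e : ℂ) * classInner (ψ : G → ℂ) (star φ) - (f φ : ℂ) * classInner (ψ : G → ℂ) (star ξ) := by
    intro φ hφ ψ
    rw [← hk, ← hk]
    exact D.inner_comb (hmemS hφ) (hmemS hξR) (hf1 φ) (hfξ ▸ hf1 ξ) (IsIrr.classFun ψ.2)
  have hsign : ∀ φ ∈ Rel, ∃ ψ : IrrCharacter G, star φ = (ψ : G → ℂ) ∨ star φ = -(ψ : G → ℂ) := by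
    intro φ hφ
    have hn : classInner (star φ) (star φ) = 1 := by
      rw [D.isometry.2.2.1 _ (D.mem_span (hmemS hφ)) _ (D.mem_span (hmemS hφ)), classInner_self_irr φ.2]
    rcases IsGenChar.norm_one (D.gen (hmemS hφ)) hn with hi | hi
    · exact ⟨⟨_, hi⟩, Or.inl rfl⟩
    · exact ⟨⟨_, hi⟩, Or.inr (neg_neg _).symm⟩
  haveI : Nonempty (IrrCharacter G) := ⟨one⟩
  choose! σ hσ using hsign
  have hσinj : ∀ φ ∈ Rel, ∀ φ' ∈ Rel, σ φ = σ φ' → φ = φ' := by
    intro φ hφ φ' hφ' h
    by_contra hne'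
    have h0 : classInner (star φ) (star φ') = 0 := by
      rw [D.isometry.2.2.1 _ (D.mem_span (hmemS hφ)) _ (D.mem_span (hmemS hφ')),
        classInner_irr_ne φ.2 φ'.2 (Subtype.coe_ne_coe.2 hne')]
    have h1 : classInner (σ φ : G → ℂ) (σ φ : G → ℂ) = 1 := classInner_self_irr (σ φ).2
    rcases hσ φ hφ with e1 | e1 <;> rcases hσ φ' hφ' with e2 | e2 <;> rw [e1, e2, ← h] at h0 <;>
      simp [classInner_neg_right, classInner_neg_left, h1] at h0
  have horth : ∀ ψ : IrrCharacter G, ∀ φ ∈ Rel, ψ ≠ σ φ → classInner (ψ : G → ℂ) (star φ) = 0 := by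
    intro ψ φ hφ hne'
    rcases hσ φ hφ with e1 | e1 <;> rw [e1] <;>
      simp [classInner_neg_right, classInner_irr_ne ψ.2 (σ φ).2 (Subtype.coe_ne_coe.2 hne')]
  -- values at `x` and at the identity
  have hxv : ∀ φ ∈ Rel, (e : ℂ) * star φ 1 = (f φ : ℂ) * star ξ 1 ∧
      (e : ℂ) * star φ x = (f φ : ℂ) * star ξ x := by
    intro φ hφ
    obtain ⟨h1, h2⟩ := D.comb (hmemS hφ) (hmemS hξR) (hf1 φ) (hfξ ▸ hf1 ξ)
    have h3 := D.ext _ h1
    rw [h2] at h3
    constructor
    · have h4 := congrFun h3 1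
      rw [indFun_one_eq] at h4
      simp only [Pi.sub_apply, Pi.smul_apply, smul_eq_mul, Pi.add_apply, zsmul_eq_mul, Pi.mul_apply,
        Pi.intCast_apply, hf1, hfξ] at h4
      push_cast at h4
      linear_combination h4
    · have h4 := congrFun h3 x
      rw [indFun_eq_zero_of_not_conj (g := x) _ _ ?_] at h4
      · simp only [Pi.sub_apply, Pi.smul_apply, smul_eq_mul] at h4
        linear_combination h4
      intro y hy
      have hnR : y⁻¹ * x * y ∉ R := by
        intro hyR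
        refine hx (orderOf_eq_one_iff.1 (Nat.eq_one_of_dvd_coprimes hco ?_ ?_))
        · have := R.orderOf_dvd_natCard hyR
          rwa [show y⁻¹ * x * y = MulAut.conj y⁻¹ x by simp, MulEquiv.orderOf_eq] at this
        · exact H.orderOf_dvd_natCard (Subgroup.mem_centralizer_singleton_iff.2 rfl)
      simp [hvan φ hφ ⟨_, hy⟩ hnR, hvan ξ hξR ⟨_, hy⟩ hnR]
  -- the constituents vanish at `x`
  have hvanish : ∀ ψ : IrrCharacter G, ψ ≠ one → (d ψ).Coprime a → (ψ : G → ℂ) x = 0 := fun ψ hψ hcop =>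
    ConjRankThree.char_eq_zero_of_coprime hna (fun h => hψ (Subtype.ext h)) hx (hd ψ).2 (by rwa [← hH, hidx])
  have hcons : ∀ ψ, ψ ≠ one → m ψ ≠ 0 → (ψ : G → ℂ) x = 0 := by
    intro ψ₁ hψ₁ hmψ₁
    by_cases hexc : ∀ ψ, ψ ≠ one → m ψ ≠ 0 → ∃ φ ∈ Rel, σ φ = ψ
    · -- every constituent is an exceptional character
      have hξone : σ ξ ≠ one := by
        intro h
        have h1 := hcomb ξ' hξ'R one
        rw [hk1 ξ' hξ'R, hk1 ξ hξR, hfξ', horth one ξ' hξ'R
          (fun h' => hne (hσinj ξ hξR ξ' hξ'R (h.trans h')))] at h1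
        have h2 : classInner (one : G → ℂ) (star ξ) = 0 :=
          (mul_eq_zero.1 (by linear_combination h1 : (e : ℂ) * classInner (one : G → ℂ) (star ξ) = 0)).resolve_left
            (Nat.cast_ne_zero.2 he0.ne')
        rcases hσ ξ hξR with e1 | e1 <;> rw [e1, h] at h2 <;>
          simp [classInner_neg_right, one, classInner_self_irr (isIrr_one (G := G))] at h2
      have hdeg : ∀ φ ∈ Rel, e * d (σ φ) = f φ * d (σ ξ) := by
        intro φ hφ
        have h1 := (hxv φ hφ).1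
        have h2 : ‖(e : ℂ) * star φ 1‖ = ‖(f φ : ℂ) * star ξ 1‖ := by rw [h1]
        have hn : ∀ φ ∈ Rel, ‖star φ 1‖ = (d (σ φ) : ℝ) := fun φ hφ => by
          rcases hσ φ hφ with e1 | e1 <;> rw [e1] <;> simp [(hd (σ φ)).2]
        rw [norm_mul, norm_mul, hn φ hφ, hn ξ hξR, Complex.norm_natCast, Complex.norm_natCast] at h2
        exact_mod_cast h2
      have hcop : (d (σ ξ)).Coprime a := by
        have hdiv : d (σ ξ) ∣ ∑ ψ ∈ Finset.univ.erase one, m ψ * d ψ := by
          refine Finset.dvd_sum fun ψ hψ => ?_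
          by_cases hmψ : m ψ = 0
          · rw [hmψ, zero_mul]; exact dvd_zero _
          obtain ⟨φ, hφ, rfl⟩ := hexc ψ (Finset.mem_erase.1 hψ).1 hmψ
          obtain ⟨c, hc⟩ := hdvd φ hφ
          have h1 := hdeg φ hφ
          rw [hc, mul_assoc] at h1
          rw [Nat.eq_of_mul_eq_mul_left he0 h1]
          exact (dvd_mul_left _ _).mul_left _
        refine Nat.Coprime.coprime_dvd_left hdiv ?_
        rw [← hdtot]
        exact (Nat.coprime_self_add_right).2 (Nat.coprime_one_right _)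
      have hξx : star ξ x = 0 := by
        have := hvanish (σ ξ) hξone hcop
        rcases hσ ξ hξR with e1 | e1 <;> rw [e1] <;> simp [this]
      obtain ⟨φ, hφ, rfl⟩ := hexc ψ₁ hψ₁ hmψ₁
      have h1 := (hxv φ hφ).2
      rw [hξx, mul_zero, mul_eq_zero] at h1
      have h2 := h1.resolve_left (Nat.cast_ne_zero.2 he0.ne')
      rcases hσ φ hφ with e1 | e1 <;> rw [e1] at h2 <;> simpa using h2
    · -- some constituent is not: it is the only one
      push Not at hexc
      obtain ⟨ψ₀, hψ₀, hmψ₀, hnσ⟩ := hexc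
      have hrel : ∀ φ ∈ Rel, e * k ψ₀ φ = f φ * k ψ₀ ξ := by
        intro φ hφ
        have h1 := hcomb φ hφ ψ₀
        rw [horth ψ₀ φ hφ (hnσ φ hφ).symm, horth ψ₀ ξ hξR (hnσ ξ hξR).symm, mul_zero, mul_zero,
          sub_zero, sub_eq_zero] at h1
        exact_mod_cast h1
      have h1ξ : ∑ ψ, m ψ * k ψ ξ = 1 := by
        have := hsum ξ hξR
        rw [hfξ] at this
        exact Nat.eq_of_mul_eq_mul_left he0 (this.trans (mul_one e).symm)
      have hkξ : m ψ₀ * k ψ₀ ξ = 1 := by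
        have hle : m ψ₀ * k ψ₀ ξ ≤ 1 :=
          (Finset.single_le_sum (fun j _ => Nat.zero_le (m j * k j ξ)) (Finset.mem_univ ψ₀)).trans_eq h1ξ
        rcases Nat.eq_zero_or_pos (m ψ₀ * k ψ₀ ξ) with h0 | h0
        · exfalso
          obtain ⟨φ, hφ, hkφ⟩ := hex ψ₀ hψ₀
          have h2 := hrel φ hφ
          rw [(mul_eq_zero.1 h0).resolve_left hmψ₀, mul_zero, mul_eq_zero] at h2
          exact hkφ (h2.resolve_left he0.ne')
        · omega
      have hother : ∀ ψ, ψ ≠ one → ψ ≠ ψ₀ → m ψ = 0 := by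
        intro ψ hψ hne'
        by_contra hmψ
        obtain ⟨φ, hφ, hkφ⟩ := hex ψ hψ
        have h2 : m ψ₀ * k ψ₀ φ + m ψ * k ψ φ ≤ ∑ j, m j * k j φ := by
          rw [← Finset.sum_pair (f := fun j => m j * k j φ) hne'.symm]
          exact Finset.sum_le_sum_of_subset (Finset.subset_univ _)
        have h3 := Nat.mul_le_mul_left e h2
        rw [hsum φ hφ, mul_add, Nat.eq_one_of_mul_eq_one_right hkξ, one_mul, hrel φ hφ,
          Nat.eq_one_of_mul_eq_one_left hkξ, mul_one] at h3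
        have : 0 < e * (m ψ * k ψ φ) :=
          Nat.mul_pos he0 (Nat.mul_pos (Nat.pos_of_ne_zero hmψ) (Nat.pos_of_ne_zero hkφ))
        omega
      by_cases h10 : ψ₁ = ψ₀
      swap
      · exact absurd (hother ψ₁ hψ₁ h10) hmψ₁
      refine hvanish ψ₁ hψ₁ ?_
      rw [Finset.sum_eq_single ψ₀ (fun ψ hψ hne' => by rw [hother ψ (Finset.mem_erase.1 hψ).1 hne', zero_mul])
        (fun h => absurd (Finset.mem_erase.2 ⟨hψ₀, Finset.mem_univ _⟩) h),
        Nat.eq_one_of_mul_eq_one_right hkξ, one_mul] at hdtot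
      rw [h10, ← hdtot]
      exact (Nat.coprime_self_add_right).2 (Nat.coprime_one_right _)
  -- the value at `x`
  have hπx : π x = 1 := by
    have h1 := congrFun hπdec x
    rw [sum_irr_apply, ← Finset.add_sum_erase _ _ (Finset.mem_univ one), Finset.sum_eq_zero, add_zero, hm1,
      Nat.cast_one, one_mul] at h1
    · exact h1
    intro ψ hψ
    by_cases hmψ : m ψ = 0
    · rw [hmψ, Nat.cast_zero, zero_mul]
    rw [hcons ψ (Finset.mem_erase.1 hψ).1 hmψ, mul_zero]
  -- counting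
  set U := Finset.univ.filter fun v : G => v⁻¹ * x * v ∈ H with hU
  have hUc : U.card = Nat.card H := by
    have h1 := hπx
    simp only [hπ, indFun] at h1
    rw [Finset.sum_congr rfl (g := fun v => if v⁻¹ * x * v ∈ H then (1 : ℂ) else 0) (fun v _ => by
      split_ifs with hv
      · rw [extendByZero_of_mem _ hv]
      · exact extendByZero_not_mem _ hv), Finset.sum_boole,
      inv_mul_eq_iff_eq_mul₀ (Nat.cast_ne_zero.2 Nat.card_pos.ne'), mul_one] at h1
    exact_mod_cast h1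
  have hsub : Finset.univ.filter (fun v : G => v ∈ H) ⊆ U := by
    intro v hv
    rw [Finset.mem_filter] at hv
    rw [hU, Finset.mem_filter]
    refine ⟨Finset.mem_univ _, ?_⟩
    exact H.mul_mem (H.mul_mem (H.inv_mem hv.2) (Subgroup.mem_centralizer_singleton_iff.2 rfl)) hv.2
  have heq := Finset.eq_of_subset_of_card_le hsub (by
    rw [hUc, Nat.card_eq_fintype_card, Fintype.card_subtype])
  have : u ∈ U := by rw [hU, Finset.mem_filter]; exact ⟨Finset.mem_univ _, hu⟩
  rw [← heq, Finset.mem_filter] at this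
  exact this.2

end Cfsg.Agent.Transfer.ConjRankFive
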