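import Cfsg.Agent.Lib.Transfer.ConjRankFive.Up
import Cfsg.Agent.Lib.Invol.CycInterFusion
import Cfsg.Agent.Lib.Grp.Cores
import Cfsg.Agent.S0058
import Cfsg.Agent.S0226

/-!
Five class sizes, the three upper ones all multiples of `a`: centralisers of involutions are good.
-/

set_option autoImplicit false
set_option linter.style.haveILetI false
set_option linter.unusedSectionVars false
set_option maxHeartbeats 1000000

open scoped Pointwise

universe u

namespace Cfsg.Agent.Transfer.ConjRankFive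

open Cfsg Cfsg.Agent Cfsg.Agent.Transfer.ClassDisconnected Cfsg.Agent.Transfer.ConjRankThree
  Cfsg.Agent.Transfer.ConjRankFour

variable {G : Type u} [Group G] [Finite G]

theorem mul_self_of_two {t : G} (h : orderOf t = 2) : t * t = 1 := by
  rw [← pow_two, ← h, pow_orderOf_eq_one]

theorem inv_of_two {t : G} (h : orderOf t = 2) : t⁻¹ = t := inv_eq_of_mul_eq_one_right (mul_self_of_two h)

/-- Conjugate involutions from an odd product. -/
theorem exists_conj_of_odd {t s : G} (ht : orderOf t = 2) (hs : orderOf s = 2) (h : ¬ 2 ∣ orderOf (t * s)) :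
    ∃ g ∈ Subgroup.zpowers (t * s), g * t * g⁻¹ = s := by
  obtain ⟨j, hj⟩ : Odd (orderOf (t * s)) := Nat.odd_iff.2 (by omega)
  exact ⟨(t * s) ^ j, Subgroup.npow_mem_zpowers _ j,
    Invol.CycInter.Ctx.conj_of_odd (mul_self_of_two ht) (mul_self_of_two hs) (by rw [← hj, pow_orderOf_eq_one])⟩

/-- A subgroup of odd order normalised by two commuting involutions and meeting their centralisers inside
`H` lies in `H`. -/
theorem le_of_four {O H : Subgroup G} (hO : ¬ 2 ∣ Nat.card O) {s t : G} (hs : orderOf s = 2) (ht : orderOf t = 2)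
    (hne : s ≠ t) (hst : Commute s t) (hsN : s ∈ Subgroup.normalizer (O : Set G))
    (htN : t ∈ Subgroup.normalizer (O : Set G)) (hsH : O ⊓ Subgroup.centralizer ({s} : Set G) ≤ H)
    (htH : O ⊓ Subgroup.centralizer ({t} : Set G) ≤ H) (hstH : O ⊓ Subgroup.centralizer ({s * t} : Set G) ≤ H) :
    O ≤ H := by
  have hss := mul_self_of_two hs
  have htt := mul_self_of_two ht
  let A : Subgroup G :=
    { carrier := {1, s, t, s * t}
      one_mem' := Or.inl rfl
      mul_mem' := by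
        rintro x y (rfl | rfl | rfl | rfl) (rfl | rfl | rfl | rfl) <;>
          simp only [Set.mem_insert_iff, Set.mem_singleton_iff, one_mul, mul_one, true_or, or_true, hss, htt]
        · right; right; left; rw [← mul_assoc, hss, one_mul]
        · right; right; right; exact hst.eq.symm
        · right; left; rw [← mul_assoc, ← hst.eq, mul_assoc, htt, mul_one]
        · right; right; left; rw [mul_assoc, ← hst.eq, ← mul_assoc, hss, one_mul]
        · right; left; rw [mul_assoc, htt, mul_one]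
        · left
          rw [show s * t * (s * t) = s * (t * s) * t by group, ← hst.eq,
            show s * (s * t) * t = (s * s) * (t * t) by group, hss, htt, one_mul]
      inv_mem' := by
        rintro x (rfl | rfl | rfl | rfl)
        · exact Or.inl inv_one
        · exact Or.inr (Or.inl (inv_of_two hs))
        · exact Or.inr (Or.inr (Or.inl (inv_of_two ht)))
        · exact Or.inr (Or.inr (Or.inr (by rw [mul_inv_rev, inv_of_two hs, inv_of_two ht]; exact hst.eq.symm))) }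
  have hmem : ∀ {x : G}, x ∈ A ↔ x = 1 ∨ x = s ∨ x = t ∨ x = s * t := fun {x} => Iff.rfl
  have hs1 := ne_one_of_two hs
  have ht1 := ne_one_of_two ht
  have hst1 : s * t ≠ 1 := fun h => hne (by rw [eq_inv_of_mul_eq_one_left h, inv_of_two ht])
  have hsq : ∀ x ∈ A, x * x = 1 := by
    intro x hx
    rcases hmem.1 hx with rfl | rfl | rfl | rfl
    exacts [one_mul 1, hss, htt, by
      rw [show s * t * (s * t) = s * (t * s) * t by group, ← hst.eq,
        show s * (s * t) * t = (s * s) * (t * t) by group, hss, htt, one_mul]]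
  haveI : IsMulCommutative A := ⟨⟨fun x y => Subtype.ext <| by
    have hx := hsq x x.2
    have hy := hsq y y.2
    have hxy := hsq (x * y) (mul_mem x.2 y.2)
    show (x : G) * y = y * x
    calc (x : G) * y = ((x : G) * y)⁻¹ := (inv_eq_of_mul_eq_one_right hxy).symm
      _ = y * x := by rw [mul_inv_rev, inv_eq_of_mul_eq_one_right hx, inv_eq_of_mul_eq_one_right hy]⟩⟩
  have hA4 : Nat.card A = 4 := by
    rw [← SetLike.coe_sort_coe, Nat.card_coe_set_eq]
    show ({1, s, t, s * t} : Set G).ncard = 4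
    rw [Set.ncard_insert_of_notMem (by simp [hs1.symm, ht1.symm, hst1.symm]) (Set.toFinite _),
      Set.ncard_insert_of_notMem (by simp [hne, ht1]) (Set.toFinite _),
      Set.ncard_pair (fun h => hs1 (right_eq_mul.1 h))]
  have hcyc : ¬ IsCyclic A := fun hc => by
    obtain ⟨g, hg⟩ := IsCyclic.exists_ofOrder_eq_natCard (α := A)
    have h2 : g ^ 2 = 1 := by rw [pow_two]; exact Subtype.ext (hsq g g.2)
    have := orderOf_dvd_of_pow_eq_one h2
    rw [hg, hA4] at this
    omega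
  have hN : A ≤ Subgroup.normalizer (O : Set G) := fun x hx => by
    rcases hmem.1 hx with rfl | rfl | rfl | rfl
    exacts [one_mem _, hsN, htN, mul_mem hsN htN]
  have hcop : (Nat.card A).Coprime (Nat.card O) := by
    rw [hA4]; exact ((Nat.prime_two.coprime_iff_not_dvd).2 hO).pow_left 2
  rw [← Cfsg.Agent.S0058.result A O hcyc hN hcop]
  refine iSup₂_le fun x hx => ?_
  rcases hmem.1 hx.1 with rfl | rfl | rfl | rfl
  exacts [absurd rfl hx.2, hsH, htH, hstH]

theorem Iso.relIndex_not_dvd {p : ℕ} {x : G} (I : Iso p x) {M : Subgroup G} (hx : x ∈ M) {l : ℕ} [Fact l.Prime]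
    {g : G} (hg : g * x * g⁻¹ ∈ M) (S : Sylow l M)
    (hS : ∀ s ∈ (S : Subgroup M), (s : G) ∈ Subgroup.centralizer ({g * x * g⁻¹} : Set G)) :
    ¬ l ∣ (Subgroup.centralizer ({x} : Set G)).relIndex M := by
  intro h
  refine S.not_dvd_index (h.trans ?_)
  have e1 : (Subgroup.centralizer ({x} : Set G)).relIndex M =
      (Subgroup.centralizer ({g * x * g⁻¹} : Set G)).relIndex M := by
    rw [← Subgroup.inf_relIndex_left M (Subgroup.centralizer ({x} : Set G)),
      ← Subgroup.inf_relIndex_left M (Subgroup.centralizer ({g * x * g⁻¹} : Set G))]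
    have a1 := Subgroup.relIndex_mul_relIndex ⊥ _ M bot_le
      (inf_le_left : M ⊓ Subgroup.centralizer ({x} : Set G) ≤ M)
    have a2 := Subgroup.relIndex_mul_relIndex ⊥ _ M bot_le
      (inf_le_left : M ⊓ Subgroup.centralizer ({g * x * g⁻¹} : Set G) ≤ M)
    rw [Subgroup.relIndex_bot_left, Subgroup.relIndex_bot_left] at a1 a2
    rw [I.card_stab hx hg, ← a1] at a2
    exact (Nat.eq_of_mul_eq_mul_left Nat.card_pos a2).symm
  rw [e1]
  exact Subgroup.index_dvd_of_le fun s hs => Subgroup.mem_subgroupOf.2 (hS s hs)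

theorem conj_cent {g : G} (x : G) {u : G} :
    g * u * g⁻¹ ∈ Subgroup.centralizer ({g * x * g⁻¹} : Set G) ↔ u ∈ Subgroup.centralizer ({x} : Set G) := by
  rw [mem_cent, mem_cent]
  refine ⟨fun h => ?_, fun h => commute_conj h g⟩
  have := commute_conj h g⁻¹
  convert this using 1 <;> group

namespace Up

variable [IsSimpleGroup G] {a b c d e : ℕ} (U : Up G a b c d e)

include U

theorem good (t₁ : G) (ht₁ : orderOf t₁ = 2) : Good t₁ := by
  classical
  haveI : Fact (Nat.Prime 2) := ⟨Nat.prime_two⟩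
  by_cases h2 : 2 ∣ a
  · exact U.good_of_even_a h2 ht₁
  by_cases hev : 2 ∣ c ∨ 2 ∣ d ∨ 2 ∣ e
  swap
  · push Not at hev
    exact U.good_of_odd h2 hev.1 hev.2.1 hev.2.2 ht₁
  obtain ⟨x, p, hp, hxo, hx⟩ := U.T.exists_x
  haveI := Fact.mk hp
  have I := U.iso hp hxo hx
  set H := Subgroup.centralizer ({x} : Set G) with hH
  -- every involution centraliser lies in a stabiliser
  have hin : ∀ (g s : G), orderOf s = 2 → Commute s (g * x * g⁻¹) →
      Subgroup.centralizer ({s} : Set G) ≤ Subgroup.centralizer ({g * x * g⁻¹} : Set G) := fun g s hs h =>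
    U.cent_le h2 hev hp (by rw [← MulAut.conj_apply, MulEquiv.orderOf_eq, hxo]) ((cix_conj g x).trans hx) hs h
  have hin₀ : ∀ s : G, orderOf s = 2 → Commute s x → Subgroup.centralizer ({s} : Set G) ≤ H := fun s hs h =>
    U.cent_le h2 hev hp hxo hx hs h
  have h2G : 2 ∣ Nat.card G := ht₁ ▸ orderOf_dvd_natCard t₁
  obtain ⟨Px, hPx⟩ := exists_sylow_le_centralizer (r := 2) (u := x) (hx ▸ h2)
  obtain ⟨t, htP, hto, -, htnd⟩ := exists_center 2 h2G Px
  have htH : t ∈ H := hPx htP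
  have hCt := hin₀ t hto (mem_cent.1 htH)
  obtain ⟨hta, htb⟩ := U.cix_involution h2 hto
  have hat : a ∣ cix t := U.a_dvd (ne_one_of_two hto) htb
  -- fusion
  set t' : H := ⟨t, htH⟩
  have hJH : cl t ∩ (H : Set G) = H.subtype '' cl t' := by
    ext j
    constructor
    · rintro ⟨hj, hjH⟩
      obtain ⟨g, rfl⟩ := isConj_iff.1 hj
      have h1 : g⁻¹ * x * g ∈ Subgroup.centralizer ({t} : Set G) := by
        refine mem_cent.2 ?_
        have h := (commute_conj (mem_cent.1 hjH) g⁻¹).symm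
        convert h using 1 <;> group
      exact ⟨⟨g * t * g⁻¹, hjH⟩, isConj_iff.2 ⟨⟨g, I.iso g (hCt h1)⟩, Subtype.ext rfl⟩, rfl⟩
    · rintro ⟨j', hj', rfl⟩
      obtain ⟨g, rfl⟩ := isConj_iff.1 hj'
      exact ⟨isConj_iff.2 ⟨(g : G), rfl⟩, (g * t' * g⁻¹).2⟩
  set n := (cl t ∩ (H : Set G)).ncard with hn
  have hn' : n * a = cix t := by
    have h1 : n = cix t' := by rw [hn, hJH, Set.ncard_image_of_injective _ H.subtype_injective, ncard_cl]
    have h := cix_sub H t'
    rwa [← h1, show H.index = a from hx, inf_eq_right.2 hCt] at h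
  have hn2 : 2 ≤ n := by
    by_contra hlt
    rcases (by omega : n = 0 ∨ n = 1) with h | h <;> rw [h] at hn'
    · rw [zero_mul] at hn'
      exact (cix_pos t).ne' hn'.symm
    · exact hta (hn'.symm.trans (one_mul a))
  set J := cl t \ (H : Set G) with hJ
  have hJc : J.ncard + n = cix t := by
    rw [hJ, hn, add_comm, Set.ncard_inter_add_ncard_diff_eq_ncard _ _ (Set.toFinite _), ncard_cl]
  have hmaps : ∀ s ∈ J, ((s : G ⧸ H)) ∈ (Set.univ \ {((1 : G) : G ⧸ H)} : Set (G ⧸ H)) := by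
    intro s hs
    refine ⟨Set.mem_univ _, fun h1 => hs.2 ?_⟩
    have := QuotientGroup.eq.1 (Set.mem_singleton_iff.1 h1)
    simpa using H.inv_mem this
  have hlt : (Set.univ \ {((1 : G) : G ⧸ H)} : Set (G ⧸ H)).ncard < J.ncard := by
    rw [Set.ncard_diff (Set.subset_univ _) (Set.toFinite _), Set.ncard_univ, Set.ncard_singleton,
      ← Subgroup.index_eq_card, show H.index = a from hx]
    obtain ⟨a', rfl⟩ : ∃ a', a = a' + 2 := ⟨a - 2, by have := U.T.ha; omega⟩
    have h5 : 2 * (a' + 1) ≤ n * (a' + 1) := Nat.mul_le_mul_right _ hn2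
    have h6 : n * (a' + 2) = n * (a' + 1) + n := by ring
    omega
  obtain ⟨s, hs, s₂, hs₂, hne, hss⟩ := Set.exists_ne_map_eq_of_ncard_lt_of_maps_to hlt hmaps (Set.toFinite _)
  have hJo : ∀ {r : G}, r ∈ J → orderOf r = 2 := fun {r} hr => by
    obtain ⟨g, rfl⟩ := isConj_iff.1 hr.1
    rw [show g * t * g⁻¹ = MulAut.conj g t from rfl, MulEquiv.orderOf_eq, hto]
  have hso := hJo hs
  have hsH : s ∉ H := hs.2
  -- one class of involutions
  have hpair : ∀ {u v : G}, orderOf u = 2 → orderOf v = 2 → u ∈ H → v ∉ H → cix v = cix u := by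
    intro u v hu hv huH hvH
    by_cases hodd : 2 ∣ orderOf (u * v)
    · exfalso
      set i := (u * v) ^ (orderOf (u * v) / 2) with hi
      have hio : orderOf i = 2 := orderOf_pow_orderOf_div (orderOf_pos _).ne' hodd
      have hinv : ∀ w : G, w * w = 1 → w * (u * v) * w⁻¹ = (u * v)⁻¹ → Commute w i := fun w _ hw => by
        refine mul_inv_eq_iff_eq_mul.1 ?_
        rw [hi, ← conj_pow, hw, inv_pow]
        exact inv_of_two hio
      have hui : Commute u i := hinv u (mul_self_of_two hu) (by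
        rw [mul_inv_rev, inv_of_two hu, inv_of_two hv, ← mul_assoc u u v, mul_self_of_two hu, one_mul])
      have hvi : Commute v i := hinv v (mul_self_of_two hv) (by
        rw [mul_inv_rev, inv_of_two hu, inv_of_two hv, mul_assoc, mul_assoc u v v, mul_self_of_two hv, mul_one])
      have hiH : i ∈ H := hin₀ u hu (mem_cent.1 huH) (mem_cent.2 hui.symm)
      exact hvH (hin₀ i hio (mem_cent.1 hiH) (mem_cent.2 hvi))
    · obtain ⟨g, -, hg⟩ := exists_conj_of_odd hu hv hodd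
      rw [← hg, cix_conj]
  have hone : ∀ w : G, orderOf w = 2 → cix w = cix t := fun w hw => by
    by_cases hwH : w ∈ H
    · exact (hpair hw hso hwH hsH).symm.trans (hpair hto hso htH hsH)
    · exact hpair hto hw htH hwH
  -- two sizes with centralisers of odd order leave one size for involution times odd
  have hfull : ∀ u v : G, u ≠ 1 → v ≠ 1 → (cix u = c ∨ cix u = d ∨ cix u = e) → (cix v = c ∨ cix v = d ∨ cix v = e) →
      ¬ 2 ∣ Nat.card (Subgroup.centralizer ({u} : Set G)) → ¬ 2 ∣ Nat.card (Subgroup.centralizer ({v} : Set G)) →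
      cix u ≠ cix v → Good t₁ := by
    intro u v _ _ hu hv ho1 ho2 hne'
    have hno : ∀ {u : G}, ¬ 2 ∣ Nat.card (Subgroup.centralizer ({u} : Set G)) →
        ∀ {w : G}, 2 ∣ Nat.card (Subgroup.centralizer ({w} : Set G)) → cix w ≠ cix u := fun {u} ho {w} hw he => ho (by
      have h1 := card_mul_cix u
      rw [← he, ← card_mul_cix w] at h1
      rw [Nat.eq_of_mul_eq_mul_right (cix_pos w) h1]
      exact hw)
    refine good_of_odd_sizes ht₁ fun w hw hwo => ?_
    have hev' : ∀ {w : G}, Commute t₁ w → 2 ∣ Nat.card (Subgroup.centralizer ({t₁ * w} : Set G)) := fun {w} hw =>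
      ht₁ ▸ Subgroup.orderOf_dvd_natCard _ (mem_cent.2 ((Commute.refl t₁).mul_right hw))
    have h1 := hno ho1 (hev' hw)
    have h3 := hno ho2 (hev' hw)
    have h4 : 2 ∣ Nat.card (Subgroup.centralizer ({t₁} : Set G)) :=
      ht₁ ▸ Subgroup.orderOf_dvd_natCard _ (self_mem t₁)
    have h5 := hno ho1 h4
    have h6 := hno ho2 h4
    obtain ⟨ha', hb'⟩ := U.cix_involution h2 ht₁
    have h7 := U.T.upper_cases (ne_one_of_two ht₁) ha' hb'
    have h8 := U.upper_mul h2 ht₁ hw hwo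
    have : cix (t₁ * w) = cix t₁ := by omega
    rw [this, hone t₁ ht₁]
    exact htnd
  -- the real element
  have hsi := inv_of_two hso
  have hs₂i := inv_of_two (hJo hs₂)
  have hdH : s * s₂ ∈ H := by
    have := QuotientGroup.eq.1 hss
    rwa [hsi] at this
  have hd1 : s * s₂ ≠ 1 := fun h1 => hne (by
    have := eq_inv_of_mul_eq_one_left h1
    rwa [hs₂i] at this)
  obtain ⟨q₀, hq₀, hq₀d⟩ := Nat.exists_prime_and_dvd (fun h => hd1 (orderOf_eq_one_iff.1 h) : orderOf (s * s₂) ≠ 1)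
  haveI := Fact.mk hq₀
  set e₀ := (s * s₂) ^ (orderOf (s * s₂) / q₀) with he₀
  have heo : orderOf e₀ = q₀ := orderOf_pow_orderOf_div (orderOf_pos _).ne' hq₀d
  have he1 : e₀ ≠ 1 := fun h => hq₀.ne_one (by rw [← heo, h, orderOf_one])
  have heH : e₀ ∈ H := pow_mem hdH _
  have hex : Commute e₀ x := mem_cent.1 heH
  have hsd : s * e₀ * s⁻¹ = e₀⁻¹ := by
    rw [he₀, ← conj_pow, ← inv_pow, mul_inv_rev, hs₂i, hsi, ← mul_assoc s s s₂, mul_self_of_two hso, one_mul]
  have hq₀2 : q₀ ≠ 2 := fun h => hsH (hin₀ e₀ (heo.trans h) hex (mem_cent.2 (by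
    have h1 := hsd
    rw [inv_of_two (heo.trans h)] at h1
    exact mul_inv_eq_iff_eq_mul.1 h1)))
  set M := Subgroup.centralizer ({e₀} : Set G) with hM
  have hxM : x ∈ M := mem_cent.2 hex.symm
  have hMle : ¬ M ≤ H := by
    intro hle
    have h1 : s * x * s⁻¹ ∈ M := by
      refine mem_cent.2 ?_
      have h := commute_conj hex.symm s
      rw [hsd] at h
      exact Commute.inv_right_iff.1 h
    have h3 : s⁻¹ ∈ H := I.iso s⁻¹ (by rw [inv_inv]; exact hle h1)
    exact hsH (inv_inv s ▸ inv_mem h3)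
  have heb : cix e₀ ≠ b := fun h => U.T.ncomm hx h hex.symm
  have hea : cix e₀ ≠ a := fun h => by
    have h1 : s ∈ Subgroup.centralizer ({e₀} : Set G) := by
      refine U.isolated h ?_
      rw [hsi]
      nth_rewrite 2 [← hsi]
      rw [hsd, mem_cent]
      exact (Commute.refl e₀).inv_left
    have h3 : e₀⁻¹ = e₀ := by rw [← hsd, (mem_cent.1 h1).eq, mul_inv_cancel_right]
    refine hq₀2 (heo.symm.trans (orderOf_eq_prime ?_ he1))
    rw [pow_two]
    nth_rewrite 1 [← h3]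
    exact inv_mul_cancel e₀
  have hae₀ : a ∣ cix e₀ := U.a_dvd he1 heb
  have hU0 := U.T.upper_cases he1 hea heb
  -- products with elements of `M`
  have hprod : ∀ {v : G}, Commute e₀ v → (orderOf e₀).Coprime (orderOf v) →
      (cix (e₀ * v) = c ∨ cix (e₀ * v) = d ∨ cix (e₀ * v) = e) ∧ cix e₀ ∣ cix (e₀ * v) ∧
        (cix (e₀ * v) = cix e₀ → M ≤ Subgroup.centralizer ({v} : Set G)) := fun {v} hv hco => by
    have hd := Subgroup.index_dvd_of_le (centralizer_mul_le hv hco)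
    refine ⟨U.T.upper_cases (mul_ne_one' hco he1) (fun h' => hea (Nat.dvd_antisymm (h' ▸ hd) hae₀))
      fun h' => U.T.not_a_dvd_b (hae₀.trans (h' ▸ hd)), hd, fun h' => ?_⟩
    exact (eq_of_le_cix (centralizer_mul_le hv hco) h').ge.trans (centralizer_mul_le' hv hco)
  have hf1 : H.relIndex M ≠ 1 := fun h => hMle (Subgroup.relIndex_eq_one.1 h)
  -- a mover, when some prime of the number of fixed points is not `q₀`
  have hmover : ∀ q : ℕ, q.Prime → q ∣ H.relIndex M → q ≠ q₀ → ∃ (u : G) (Q : Subgroup G),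
      Commute e₀ u ∧ (orderOf e₀).Coprime (orderOf u) ∧ ¬ M ≤ Subgroup.centralizer ({u} : Set G) ∧ IsPGroup q Q ∧
      Q ≤ Subgroup.centralizer ({e₀ * u} : Set G) ∧ Q ≤ M ∧ ¬ Nat.card Q ∣ Nat.card ↥(M ⊓ H) ∧
      ∃ j, orderOf u = q ^ j := by
    intro q hq hqd hne'
    haveI := Fact.mk hq
    obtain ⟨u, Q, huM, ⟨j, huo⟩, hux, hQp, hQle, hQn⟩ := I.exists_mover hxM hqd
    refine ⟨u, Q, (mem_cent.1 huM).symm, ?_, fun h => hux (mem_cent.1 (h hxM)).symm, hQp, fun w hw => ?_,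
      hQle.trans inf_le_left, hQn, j, huo⟩
    · rw [heo, huo]; exact ((Nat.coprime_primes hq₀ hq).2 hne'.symm).pow_right j
    · exact mem_cent.2 ((mem_cent.1 (hQle hw).1).mul_right (mem_cent.1 (hQle hw).2))
  have hq₀p : ∀ q : ℕ, q ∣ H.relIndex M → q ≠ p := fun q hqd h => I.not_dvd_relIndex hxM (h ▸ hqd)
  have hxprod : ∀ q : ℕ, q ∣ H.relIndex M → q = q₀ → (orderOf e₀).Coprime (orderOf x) := fun q hqd h => by
    rw [heo, hxo]; exact (Nat.coprime_primes hq₀ hp).2 (h ▸ hq₀p q hqd)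
  -- `M` of odd order
  by_cases hMev : 2 ∣ Nat.card M
  swap
  · have hsub : ∀ {v : G}, Commute e₀ v → (orderOf e₀).Coprime (orderOf v) →
        ¬ M ≤ Subgroup.centralizer ({v} : Set G) → Good t₁ := fun {v} hv hco hn' => by
      obtain ⟨h1, -, h3⟩ := hprod hv hco
      refine hfull e₀ (e₀ * v) he1 (mul_ne_one' hco he1) hU0 h1 hMev (fun h => hMev (h.trans
        (Subgroup.card_dvd_of_le (centralizer_mul_le hv hco)))) fun h => hn' (h3 h.symm)
    obtain ⟨q, hq, hqd⟩ := Nat.exists_prime_and_dvd hf1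
    by_cases hqq : q = q₀
    · exact hsub hex (hxprod q hqd hqq) hMle
    · obtain ⟨u, Q, hu, hco, hn', -⟩ := hmover q hq hqd hqq
      exact hsub hu hco hn'
  -- every nontrivial `2`-subgroup of `M` has a stabiliser in `M`
  have hfix : ∀ {S : Subgroup G}, IsPGroup 2 S → S ≤ M → S ≠ ⊥ →
      ∃ g : G, g * x * g⁻¹ ∈ M ∧ S ≤ Subgroup.centralizer ({g * x * g⁻¹} : Set G) := by
    intro S hSp hSM hS1
    obtain ⟨g, hg⟩ := exists_conj_sylow (x := x) (hx ▸ h2) hSp
    refine ⟨g, ?_, hg⟩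
    haveI : Nontrivial S := (Subgroup.nontrivial_iff_ne_bot _).2 hS1
    obtain ⟨w, hw, hwo⟩ := exists_involution_mem (K := S) (by
      obtain ⟨k, hk, hck⟩ := hSp.nontrivial_iff_card.1 inferInstance
      rw [hck]
      exact dvd_pow_self 2 hk.ne')
    have hew : e₀ ∈ Subgroup.centralizer ({w} : Set G) := mem_cent.2 (mem_cent.1 (hSM hw)).symm
    exact mem_cent.2 (mem_cent.1 (hin g w hwo (mem_cent.1 (hg hw)) hew)).symm
  obtain ⟨S⟩ : Nonempty (Sylow 2 M) := inferInstance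
  set S₁ := (S : Subgroup M).map M.subtype with hS₁
  have hS₁M : S₁ ≤ M := Subgroup.map_subtype_le _
  have hS₁ne : S₁ ≠ ⊥ := by
    rw [hS₁, Ne, Subgroup.map_eq_bot_iff_of_injective _ M.subtype_injective]
    exact S.ne_bot_of_dvd_card hMev
  obtain ⟨g₀, hg₀M, hg₀⟩ := hfix (S.isPGroup'.map _) hS₁M hS₁ne
  have hf2 : ¬ 2 ∣ H.relIndex M := I.relIndex_not_dvd hxM hg₀M S fun v hv => hg₀ ⟨v, hv, rfl⟩
  obtain ⟨m₀, hm₀, hm₀e⟩ := I.conj_in hxM hg₀M
  -- a Sylow subgroup of `M` inside `H`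
  set S₂ := S₁.map (MulAut.conj m₀⁻¹).toMonoidHom with hS₂
  have hS₂le : S₂ ≤ M ⊓ H := by
    rintro _ ⟨v, hv, rfl⟩
    refine ⟨M.mul_mem (M.mul_mem (M.inv_mem hm₀) (hS₁M hv)) (M.inv_mem (M.inv_mem hm₀)), mem_cent.2 ?_⟩
    have h := commute_conj (mem_cent.1 (hg₀ hv)) m₀⁻¹
    rw [← hm₀e, show m₀⁻¹ * (m₀ * x * m₀⁻¹) * m₀⁻¹⁻¹ = x by group] at h
    exact h
  have hS₂p : IsPGroup 2 S₂ := (S.isPGroup'.map _).map _
  have hS₂idx : ¬ 2 ∣ cix e₀ → ¬ 2 ∣ S₂.index := fun h1 h => by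
    have e' : S₂.index = S₁.index := by
      rw [hS₂]; exact Subgroup.index_map_equiv S₁ (MulAut.conj m₀⁻¹)
    rw [e', hS₁, Subgroup.index_map_subtype] at h
    exact (Nat.prime_two.dvd_mul.1 h).elim S.not_dvd_index h1
  have hwprod : ∀ {w : G}, orderOf w = 2 → w ∈ M ⊓ H →
      Commute e₀ w ∧ (orderOf e₀).Coprime (orderOf w) ∧ cix (e₀ * w) ≠ cix e₀ ∧
        Subgroup.centralizer ({e₀ * w} : Set G) ≤ M ⊓ H := fun {w} hwo hw => by
    have hew : Commute e₀ w := (mem_cent.1 hw.1).symm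
    have hco : (orderOf e₀).Coprime (orderOf w) := by rw [heo, hwo]; exact (Nat.coprime_primes hq₀ Nat.prime_two).2 hq₀2
    have hle : Subgroup.centralizer ({e₀ * w} : Set G) ≤ M ⊓ H :=
      le_inf (centralizer_mul_le hew hco) ((centralizer_mul_le' hew hco).trans (hin₀ w hwo (mem_cent.1 hw.2)))
    exact ⟨hew, hco, fun h => hMle ((eq_of_le_cix (centralizer_mul_le hew hco) h).ge.trans (hle.trans inf_le_right)),
      hle⟩
  obtain ⟨w₁, hw₁, hw₁o⟩ := exists_involution_mem (K := S₂) (by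
    obtain ⟨k, hk⟩ := IsPGroup.iff_card.1 hS₂p
    rw [hk]
    refine dvd_pow_self 2 fun h => hS₁ne ?_
    rw [h, pow_zero] at hk
    have := Subgroup.eq_bot_of_card_eq _ hk
    rwa [hS₂, Subgroup.map_eq_bot_iff_of_injective _ (MulAut.conj m₀⁻¹).injective] at this)
  -- when the size of `e₀` is odd, a central involution gives an odd size
  have hcentral : ¬ 2 ∣ cix e₀ → ∃ w, orderOf w = 2 ∧ w ∈ M ⊓ H ∧ ¬ 2 ∣ cix (e₀ * w) := by
    intro h
    obtain ⟨w, hwS, hwo, hwc, -⟩ := exists_center 2 h2G (hS₂p.toSylow (hS₂idx h))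
    refine ⟨w, hwo, hS₂le hwS, fun h' => hS₂idx h (h'.trans (Subgroup.index_dvd_of_le fun v hv =>
      mem_cent.2 ((mem_cent.1 (hS₂le hv).1).mul_right (hwc v hv))))⟩
  obtain ⟨mo, hmo, hmoo⟩ := U.exists_odd h2 hto
  by_cases hA : ∃ q, q.Prime ∧ q ∣ H.relIndex M ∧ q ≠ q₀
  · obtain ⟨q, hq, hqd, hqq⟩ := hA
    haveI := Fact.mk hq
    have hq2 : q ≠ 2 := fun h => hf2 (h ▸ hqd)
    obtain ⟨u, Q, heu, hco, hun, hQp, hQeu, hQM, hQn, j, huo⟩ := hmover q hq hqd hqq
    obtain ⟨hU3, hd3, h3⟩ := hprod heu hco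
    have n13 : cix (e₀ * u) ≠ cix e₀ := fun h => hun (h3 h)
    have hpick : ∃ w, orderOf w = 2 ∧ w ∈ M ⊓ H ∧ (¬ 2 ∣ cix e₀ → ¬ 2 ∣ cix (e₀ * w)) := by
      by_cases h : 2 ∣ cix e₀
      · exact ⟨w₁, hw₁o, hS₂le hw₁, fun h' => absurd h h'⟩
      · obtain ⟨w, hwo, hw, hw'⟩ := hcentral h
        exact ⟨w, hwo, hw, fun _ => hw'⟩
    obtain ⟨w, hwo, hw, hwodd⟩ := hpick
    obtain ⟨hew, hcow, n12, hwle⟩ := hwprod hwo hw
    obtain ⟨hU2, hd2, -⟩ := hprod hew hcow
    have n23 : cix (e₀ * w) ≠ cix (e₀ * u) := fun h => hQn (by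
      have h1 := card_mul_cix (e₀ * w)
      rw [h, ← card_mul_cix (e₀ * u)] at h1
      refine Dvd.dvd.trans ?_ (Subgroup.card_dvd_of_le hwle)
      rw [Nat.eq_of_mul_eq_mul_right (cix_pos _) h1]
      exact Subgroup.card_dvd_of_le hQeu)
    have hall : ∀ m, (m = c ∨ m = d ∨ m = e) → m = cix e₀ ∨ m = cix (e₀ * w) ∨ m = cix (e₀ * u) := fun _ hm =>
      U.three hU0 hU2 hU3 n12.symm n13.symm n23 hm
    have hD1 : ¬ 2 ∣ cix e₀ := by
      intro h
      rcases hall mo hmo with e' | e' | e' <;> rw [e'] at hmoo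
      exacts [hmoo h, hmoo (h.trans hd2), hmoo (h.trans hd3)]
    have hD2 := hwodd hD1
    have hD3 : 2 ∣ cix (e₀ * u) := by
      rcases hev with h | h | h
      · rcases hall c (Or.inl rfl) with e' | e' | e' <;> rw [e'] at h
        exacts [absurd h hD1, absurd h hD2, h]
      · rcases hall d (Or.inr (Or.inl rfl)) with e' | e' | e' <;> rw [e'] at h
        exacts [absurd h hD1, absurd h hD2, h]
      · rcases hall e (Or.inr (Or.inr rfl)) with e' | e' | e' <;> rw [e'] at h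
        exacts [absurd h hD1, absurd h hD2, h]
    by_cases hCev : 2 ∣ Nat.card (Subgroup.centralizer ({e₀ * u} : Set G))
    swap
    · refine good_of_odd_sizes ht₁ fun v hv hvo => ?_
      rcases hall _ (U.upper_mul h2 ht₁ hv hvo) with e' | e' | e' <;> rw [e']
      · exact hD1
      · exact hD2
      exfalso
      refine hCev ?_
      have h1 := card_mul_cix (e₀ * u)
      rw [← e', ← card_mul_cix (t₁ * v)] at h1
      rw [Nat.eq_of_mul_eq_mul_right (cix_pos _) h1]
      exact ht₁ ▸ Subgroup.orderOf_dvd_natCard _ (mem_cent.2 ((Commute.refl t₁).mul_right hv))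
    exfalso
    obtain ⟨w₀, hw₀, hw₀o⟩ := exists_involution_mem hCev
    have hw₀M : w₀ ∈ M := centralizer_mul_le heu hco hw₀
    have hcow₀ : (orderOf (e₀ * u)).Coprime (orderOf w₀) := by
      rw [hw₀o, heu.orderOf_mul_eq_mul_orderOf_of_coprime hco, heo, huo]
      exact (Nat.Coprime.mul_left ((Nat.coprime_primes hq₀ Nat.prime_two).2 hq₀2)
        (((Nat.coprime_primes hq Nat.prime_two).2 hq2).pow_left j))
    have hne1 : e₀ * u ≠ 1 := mul_ne_one' hco he1
    have hle₀ := centralizer_mul_le (mem_cent.1 hw₀).symm hcow₀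
    have he3 : cix (e₀ * u * w₀) = cix (e₀ * u) := by
      have hd' := Subgroup.index_dvd_of_le hle₀
      have h1 := hd3.trans hd'
      have hne' := mul_ne_one' hcow₀ hne1
      rcases hall _ (U.T.upper_cases hne' (fun h' => hea (Nat.dvd_antisymm (h' ▸ h1) hae₀))
        fun h' => U.T.not_a_dvd_b (hae₀.trans (h' ▸ h1))) with e' | e' | e'
      exacts [absurd (hD3.trans (e' ▸ hd')) hD1, absurd (hD3.trans (e' ▸ hd')) hD2, e']
    obtain ⟨g, hg⟩ := exists_conj_sylow (x := x) (hx ▸ h2)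
      (IsPGroup.of_card (p := 2) (n := 1) (by rw [Nat.card_zpowers, hw₀o, pow_one]) : IsPGroup 2 (Subgroup.zpowers w₀))
    have hCw := hin g w₀ hw₀o (mem_cent.1 (hg (Subgroup.mem_zpowers w₀)))
    have hgM : g * x * g⁻¹ ∈ M := mem_cent.2 (mem_cent.1 (hCw (mem_cent.2 (mem_cent.1 hw₀M).symm))).symm
    refine hQn ?_
    rw [← I.card_stab hxM hgM]
    refine Subgroup.card_dvd_of_le fun v hv => ⟨hQM hv, hCw ?_⟩
    exact centralizer_mul_le' (mem_cent.1 hw₀).symm hcow₀ ((eq_of_le_cix hle₀ he3).ge (hQeu hv))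
  exfalso
  push Not at hA
  obtain ⟨q, hq, hqd⟩ := Nat.exists_prime_and_dvd hf1
  have hcox := hxprod q hqd (hA q hq hqd)
  obtain ⟨hU2, hd2, h3⟩ := hprod hex hcox
  have n12 : cix (e₀ * x) ≠ cix e₀ := fun h => hMle (h3 h)
  have hMH : Subgroup.centralizer ({e₀ * x} : Set G) = M ⊓ H := inf_eq_centralizer_mul hex hcox
  have hidx : cix (e₀ * x) = H.relIndex M * cix e₀ := by
    rw [cix, hMH, ← Subgroup.relIndex_mul_index (inf_le_left : M ⊓ H ≤ M), Subgroup.inf_relIndex_left]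
  obtain ⟨w, hwo, hw, hweq⟩ : ∃ w, orderOf w = 2 ∧ w ∈ M ⊓ H ∧ cix (e₀ * w) = cix (e₀ * x) := by
    by_cases h : 2 ∣ cix e₀
    · refine ⟨w₁, hw₁o, hS₂le hw₁, by_contra fun hne' => hmoo ?_⟩
      obtain ⟨hew, hcow, n13, -⟩ := hwprod hw₁o (hS₂le hw₁)
      obtain ⟨hU3, hd3, -⟩ := hprod hew hcow
      rcases U.three hU0 hU2 hU3 n12.symm n13.symm (Ne.symm hne') hmo with e' | e' | e' <;> rw [e']
      exacts [h, h.trans hd2, h.trans hd3]
    · obtain ⟨w, hwo, hw, hwodd⟩ := hcentral h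
      refine ⟨w, hwo, hw, by_contra fun hne' => ?_⟩
      obtain ⟨hew, hcow, n13, -⟩ := hwprod hwo hw
      obtain ⟨hU3, -, -⟩ := hprod hew hcow
      have hD2 : ¬ 2 ∣ cix (e₀ * x) := by
        rw [hidx, Nat.prime_two.dvd_mul]; exact fun h' => h'.elim hf2 h
      have hall : ∀ m, (m = c ∨ m = d ∨ m = e) → ¬ 2 ∣ m := fun m hm => by
        rcases U.three hU0 hU2 hU3 n12.symm n13.symm (Ne.symm hne') hm with e' | e' | e' <;> rw [e'] <;> assumption
      rcases hev with h' | h' | h'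
      exacts [hall c (Or.inl rfl) h', hall d (Or.inr (Or.inl rfl)) h', hall e (Or.inr (Or.inr rfl)) h']
  obtain ⟨hew, hcow, -, hwle⟩ := hwprod hwo hw
  have hwC : Subgroup.centralizer ({e₀ * w} : Set G) = M ⊓ H := by
    rw [← hMH]
    exact eq_of_le_cix (hMH ▸ hwle) hweq
  have hCMw : M ⊓ Subgroup.centralizer ({w} : Set G) = M ⊓ H := by
    rw [← hwC, inf_eq_centralizer_mul hew hcow]
  -- `w` is isolated in `M`
  have hiso : ∀ m ∈ M, m * w * m⁻¹ ∈ M ⊓ H → m * w * m⁻¹ = w := by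
    intro m hm hw'
    have hwo' : orderOf (m * w * m⁻¹) = 2 := by rw [← MulAut.conj_apply, MulEquiv.orderOf_eq, hwo]
    obtain ⟨hew', hcow', -, hle'⟩ := hwprod hwo' hw'
    have he' : e₀ * (m * w * m⁻¹) = m * (e₀ * w) * m⁻¹ := by
      rw [show m * (e₀ * w) * m⁻¹ = m * e₀ * m⁻¹ * (m * w * m⁻¹) by group, (mem_cent.1 hm).eq, mul_inv_cancel_right]
    have hC' : Subgroup.centralizer ({e₀ * (m * w * m⁻¹)} : Set G) = M ⊓ H := by
      rw [← hMH]
      exact eq_of_le_cix (hMH ▸ hle') (by rw [he', cix_conj, hweq])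
    have hmH : m⁻¹ ∈ H := by
      refine I.iso m⁻¹ ?_
      rw [inv_inv]
      have h1 : m * x * m⁻¹ ∈ Subgroup.centralizer ({e₀ * (m * w * m⁻¹)} : Set G) := by
        rw [he']
        exact (conj_cent _).2 (hwC ▸ (⟨hxM, self_mem x⟩ : x ∈ M ⊓ H))
      rw [hC'] at h1
      exact h1.2
    have hm1 : m⁻¹ ∈ M ⊓ Subgroup.centralizer ({w} : Set G) := hCMw ▸ ⟨M.inv_mem hm, hmH⟩
    have hm2 : Commute m w := by simpa using (mem_cent.1 hm1.2).inv_left
    rw [hm2.eq, mul_inv_cancel_right]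
  obtain ⟨P, hwP⟩ := exists_sylow_mem (G := M) (r := 2) (k := 1) (f := ⟨w, hw.1⟩)
    (by rw [Subgroup.orderOf_mk, hwo, pow_one])
  have hPH : ∀ v ∈ (P : Subgroup M), (v : G) ∈ M ⊓ H := by
    obtain ⟨g, hgM, hg⟩ := hfix (P.isPGroup'.map M.subtype) (Subgroup.map_subtype_le _) fun h => by
      have h1 : w ∈ (P : Subgroup M).map M.subtype := ⟨⟨w, hw.1⟩, hwP, rfl⟩
      rw [h, Subgroup.mem_bot] at h1
      exact ne_one_of_two hwo h1
    have hgx : g * x * g⁻¹ = x := by
      refine I.eq_of_commute (mem_cent.1 (hin g w hwo (mem_cent.1 (hg ⟨⟨w, hw.1⟩, hwP, rfl⟩)) ?_)).symm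
      exact mem_cent.2 (mem_cent.1 hw.2).symm
    rw [hgx] at hg
    exact fun v hv => ⟨v.2, hg ⟨v, hv, rfl⟩⟩
  obtain ⟨N, hN, hNodd, hNc⟩ := Cfsg.Agent.S0215.result P ⟨w, hw.1⟩ (by rw [Subgroup.orderOf_mk, hwo]) hwP
    fun g hg => Subtype.ext (hiso g g.2 (hPH _ hg))
  set O := (Cfsg.oddCore M).map M.subtype with hO
  have hNO : N.map M.subtype ≤ O := Subgroup.map_mono
    ((Grp.pPrimeCore_le_iff (p := 2) hN).2 (Nat.coprime_two_right.2 hNodd))
  haveI : (Cfsg.oddCore M).Normal := Grp.pPrimeCore_isNormal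
  have hOodd : ¬ 2 ∣ Nat.card O := by
    rw [hO, Subgroup.card_map_of_injective M.subtype_injective]
    exact (Nat.prime_two.coprime_iff_not_dvd).1 (Grp.pPrimeCore_coprime (p := 2)).symm
  -- an involution of `M` fixed by `s`
  have hsM : ∀ {v : G}, v ∈ M → s * v * s⁻¹ ∈ M := fun {v} hv => by
    have h := commute_conj (mem_cent.1 hv) s
    rw [hsd] at h
    exact mem_cent.2 (Commute.inv_right_iff.1 h)
  have hsnot : s ∉ M := fun h => by
    have h1 := hsd
    rw [(mem_cent.1 h).eq, mul_inv_cancel_right] at h1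
    refine hq₀2 (heo.symm.trans (orderOf_eq_prime ?_ he1))
    rw [pow_two]
    nth_rewrite 1 [h1]
    exact inv_mul_cancel e₀
  let f : {v : M // orderOf v = 2} → {v : M // orderOf v = 2} := fun v => ⟨⟨s * (v.1 : G) * s⁻¹, hsM v.1.2⟩, by
    rw [Subgroup.orderOf_mk, ← MulAut.conj_apply, MulEquiv.orderOf_eq, Subgroup.orderOf_coe]
    exact v.2⟩
  have hff : Function.Involutive f := fun v => Subtype.ext (Subtype.ext (by
    show s * (s * (v.1 : G) * s⁻¹) * s⁻¹ = (v.1 : G)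
    rw [show s * (s * (v.1 : G) * s⁻¹) * s⁻¹ = (s * s) * (v.1 : G) * (s * s)⁻¹ by group, mul_self_of_two hso]
    group))
  obtain ⟨v, hv⟩ : ∃ v, f v = v := by
    letI := Fintype.ofFinite {v : M // orderOf v = 2}
    have hodd := Cfsg.Agent.S0226.result (G := M) (even_iff_two_dvd.2 hMev)
    rw [Nat.card_eq_fintype_card, Nat.odd_iff] at hodd
    have := Equiv.Perm.exists_fixed_point_of_prime (p := 2) (n := 1) (α := {v : M // orderOf v = 2}) (σ := hff.toPerm)
      (by omega) (by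
        rw [pow_one, pow_two]
        exact Equiv.ext fun z => hff z)
    exact this
  set w' : G := (v.1 : G) with hw'def
  have hw'o : orderOf w' = 2 := by rw [hw'def, Subgroup.orderOf_coe]; exact v.2
  have hw'M : w' ∈ M := v.1.2
  have hsw' : Commute s w' := mul_inv_eq_iff_eq_mul.1 (congrArg (fun z => ((z.1 : M) : G)) hv)
  obtain ⟨g, hgM, hg⟩ := hfix
    (IsPGroup.of_card (n := 1) (by rw [Nat.card_zpowers, hw'o, pow_one]) : IsPGroup 2 (Subgroup.zpowers w'))
    (Subgroup.zpowers_le.2 hw'M) (by rw [Ne, Subgroup.zpowers_eq_bot]; exact ne_one_of_two hw'o)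
  have hCw' := hin g w' hw'o (mem_cent.1 (hg (Subgroup.mem_zpowers w')))
  set H' := Subgroup.centralizer ({g * x * g⁻¹} : Set G) with hH'
  have hsH' : s ∈ H' := hCw' (mem_cent.2 hsw')
  have hCs := hin g s hso (mem_cent.1 hsH')
  have hne' : s ≠ w' := fun h => hsnot (h ▸ hw'M)
  have hswo : orderOf (s * w') = 2 := orderOf_eq_prime
    (by rw [pow_two, show s * w' * (s * w') = s * (w' * s) * w' by group, ← hsw'.eq,
      show s * (s * w') * w' = (s * s) * (w' * w') by group, mul_self_of_two hso, mul_self_of_two hw'o, one_mul])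
    (fun h => hne' (by rw [eq_inv_of_mul_eq_one_left h, inv_of_two hw'o]))
  have hCsw := hin g (s * w') hswo ((mem_cent.1 hsH').mul_left (mem_cent.1 (hCw' (self_mem w'))))
  have hnorm : ∀ r : G, (∀ u ∈ M, r * u * r⁻¹ ∈ M) → r * r = 1 → r ∈ Subgroup.normalizer (O : Set G) := by
    intro r hr hrr
    have hri : r⁻¹ = r := inv_eq_of_mul_eq_one_right hrr
    let φ : M ≃* M :=
      { toFun := fun u => ⟨r * u * r⁻¹, hr u u.2⟩
        invFun := fun u => ⟨r * u * r⁻¹, hr u u.2⟩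
        left_inv := fun u => Subtype.ext (by
          show r * (r * (u : G) * r⁻¹) * r⁻¹ = u
          rw [show r * (r * (u : G) * r⁻¹) * r⁻¹ = (r * r) * u * (r * r)⁻¹ by group, hrr]; group)
        right_inv := fun u => Subtype.ext (by
          show r * (r * (u : G) * r⁻¹) * r⁻¹ = u
          rw [show r * (r * (u : G) * r⁻¹) * r⁻¹ = (r * r) * u * (r * r)⁻¹ by group, hrr]; group)
        map_mul' := fun u v => Subtype.ext (by simp [mul_assoc]) }
    have hfix' : ∀ k ∈ O, r * k * r⁻¹ ∈ O := by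
      rintro _ ⟨k, hk, rfl⟩
      haveI : (Cfsg.oddCore M).Characteristic := Grp.instCharPPrimeCore
      exact ⟨φ k, (Subgroup.characteristic_iff_le_comap.1 inferInstance φ) hk, rfl⟩
    refine Subgroup.mem_normalizer_iff.2 fun k => ⟨hfix' k, fun h => ?_⟩
    have := hfix' _ h
    rwa [show r * (r * k * r⁻¹) * r⁻¹ = (r * r) * k * (r * r)⁻¹ by group, hrr,
      show (1 : G) * k * 1⁻¹ = k by group] at this
  have hOH' : O ≤ H' := le_of_four hOodd hso hw'o hne' hsw' (hnorm s (fun u hu => hsM hu) (mul_self_of_two hso))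
    (hnorm w' (fun u hu => M.mul_mem (M.mul_mem hw'M hu) (M.inv_mem hw'M)) (mul_self_of_two hw'o))
    (inf_le_right.trans hCs) (inf_le_right.trans hCw') (inf_le_right.trans hCsw)
  -- `M` is `O` times the centraliser of `w`
  have hfactor : ∀ m ∈ M, ∃ o ∈ O, o⁻¹ * m ∈ M ⊓ H := by
    intro m hm
    have hd : w * (m * w * m⁻¹) ∈ N.map M.subtype := ⟨_, hNc ⟨m, hm⟩, by
      simp only [Subgroup.coe_subtype, Subgroup.coe_mul, Subgroup.coe_inv, inv_of_two hwo]
      group⟩
    have hwo' : orderOf (m * w * m⁻¹) = 2 := by rw [← MulAut.conj_apply, MulEquiv.orderOf_eq, hwo]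
    obtain ⟨o, ho, hoe⟩ := exists_conj_of_odd hwo hwo' (fun h => hOodd (h.trans (O.orderOf_dvd_natCard (hNO hd))))
    have hoO : o ∈ O := (Subgroup.zpowers_le.2 (hNO hd)) ho
    refine ⟨o, hoO, ?_⟩
    rw [← hCMw]
    refine ⟨M.mul_mem (M.inv_mem (Subgroup.map_subtype_le _ hoO)) hm, mem_cent.2 (?_ : o⁻¹ * m * w = w * (o⁻¹ * m))⟩
    calc o⁻¹ * m * w = o⁻¹ * (m * w * m⁻¹) * m := by group
      _ = o⁻¹ * (o * w * o⁻¹) * m := by rw [hoe]
      _ = w * (o⁻¹ * m) := by group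
  obtain ⟨m, hm, hme⟩ := I.conj_in hxM hgM
  obtain ⟨o, ho, hoH⟩ := hfactor m hm
  have hgx : g * x * g⁻¹ = o * x * o⁻¹ := by
    rw [← hme, show m * x * m⁻¹ = o * (o⁻¹ * m * x * (o⁻¹ * m)⁻¹) * o⁻¹ by group, (mem_cent.1 hoH.2).eq,
      mul_inv_cancel_right]
  have hx' : g * x * g⁻¹ = x := by
    have h := mem_cent.1 (inv_mem (hOH' ho))
    have e' : o⁻¹ * (g * x * g⁻¹) * o = x := by rw [hgx]; group
    rwa [h.eq, mul_assoc, inv_mul_cancel, mul_one] at e'
  refine hMle fun u hu => ?_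
  obtain ⟨o, ho, hoH⟩ := hfactor u hu
  have hoH' : o ∈ H := by
    rw [hH, ← hx']
    exact hOH' ho
  rw [show u = o * (o⁻¹ * u) by group]
  exact H.mul_mem hoH' hoH.2

end Up

end Cfsg.Agent.Transfer.ConjRankFive
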