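import Cfsg.Agent.Lib.Transfer.ConjRankFour.Flat
import Cfsg.Agent.Lib.Transfer.WielandtDPi

/-!
An element of prime power order commuting with no other of its conjugates.
-/

set_option autoImplicit false
set_option linter.style.haveILetI false
set_option linter.unusedSectionVars false
set_option maxHeartbeats 1000000

open scoped Pointwise

universe u

namespace Cfsg.Agent.Transfer.ConjRankFive

open Cfsg Cfsg.Agent Cfsg.Agent.Transfer.ClassDisconnected Cfsg.Agent.Transfer.ConjRankThree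
  Cfsg.Agent.Transfer.ConjRankFour

variable {G : Type u} [Group G] [Finite G]

theorem commute_conj {g x : G} (h : Commute g x) (c : G) : Commute (c * g * c⁻¹) (c * x * c⁻¹) := by
  show c * g * c⁻¹ * (c * x * c⁻¹) = c * x * c⁻¹ * (c * g * c⁻¹)
  rw [show c * g * c⁻¹ * (c * x * c⁻¹) = c * (g * x) * c⁻¹ by group, h.eq]
  group

/-- An element of order a power of `p` that commutes with no other of its conjugates. -/
structure Iso (p : ℕ) (x : G) : Prop where
  hp : p.Prime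
  ord : ∃ k, orderOf x = p ^ k
  iso : ∀ u : G, u⁻¹ * x * u ∈ Subgroup.centralizer ({x} : Set G) → u ∈ Subgroup.centralizer ({x} : Set G)

namespace Iso

variable {p : ℕ} {x : G} (I : Iso p x)

include I

theorem eq_of_commute {g : G} (h : Commute (g * x * g⁻¹) x) : g * x * g⁻¹ = x := by
  have h1 := mem_cent.1 (inv_mem (I.iso g⁻¹ (by rw [inv_inv]; exact mem_cent.2 h)))
  rw [inv_inv] at h1
  rw [h1.eq, mul_inv_cancel_right]

theorem conj_iso (c : G) : Iso p (c * x * c⁻¹) where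
  hp := I.hp
  ord := by
    obtain ⟨k, hk⟩ := I.ord
    exact ⟨k, by rw [← MulAut.conj_apply, MulEquiv.orderOf_eq, hk]⟩
  iso u hu := by
    have h1 := commute_conj (mem_cent.1 hu) c⁻¹
    have h2 : c⁻¹ * u * c ∈ Subgroup.centralizer ({x} : Set G) := by
      refine I.iso _ (mem_cent.2 ?_)
      convert h1 using 1 <;> group
    have h3 := commute_conj (mem_cent.1 h2) c
    refine mem_cent.2 ?_
    convert h3 using 1
    group

theorem le_of_mem {P : Subgroup G} (hP : IsPGroup p P) (hx : x ∈ P) : P ≤ Subgroup.centralizer ({x} : Set G) := by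
  haveI := Fact.mk I.hp
  haveI : Group.IsNilpotent P := hP.isNilpotent
  set H := Subgroup.centralizer ({x} : Set G)
  by_contra hle
  have hne : H.subgroupOf P ≠ ⊤ := fun h => hle (Subgroup.subgroupOf_eq_top.1 h)
  obtain ⟨g, hg, hgn⟩ := SetLike.exists_of_lt (Group.normalizerCondition_of_isNilpotent _ hne.lt_top)
  refine hgn (I.iso (g : G) ?_)
  have h1 : g⁻¹ * (⟨x, hx⟩ : P) * g ∈ H.subgroupOf P :=
    (Subgroup.mem_normalizer_iff'.1 hg _).2 (by
      rw [mul_inv_cancel_left]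
      exact Subgroup.mem_subgroupOf.2 (self_mem x))
  exact Subgroup.mem_subgroupOf.1 h1

theorem zpowers_pGroup : IsPGroup p (Subgroup.zpowers x) := by
  obtain ⟨k, hk⟩ := I.ord
  exact IsPGroup.of_card (n := k) (by rw [Nat.card_zpowers, hk])

theorem exists_sylow {M : Subgroup G} (hx : x ∈ M) :
    ∃ P : Sylow p M, (⟨x, hx⟩ : M) ∈ (P : Subgroup M) ∧
      ∀ g ∈ (P : Subgroup M), (g : G) ∈ Subgroup.centralizer ({x} : Set G) := by
  haveI := Fact.mk I.hp
  obtain ⟨k, hk⟩ := I.ord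
  obtain ⟨P, hP⟩ := exists_sylow_mem (G := M) (r := p) (k := k) (f := ⟨x, hx⟩) (by rw [Subgroup.orderOf_mk, hk])
  exact ⟨P, hP, fun g hg => I.le_of_mem (P.isPGroup'.map M.subtype) ⟨⟨x, hx⟩, hP, rfl⟩ ⟨g, hg, rfl⟩⟩

/-- Conjugates of `x` inside a subgroup are conjugate in it. -/
theorem conj_in {M : Subgroup G} (hx : x ∈ M) {g : G} (hg : g * x * g⁻¹ ∈ M) :
    ∃ m ∈ M, m * x * m⁻¹ = g * x * g⁻¹ := by
  haveI := Fact.mk I.hp
  obtain ⟨P, hP, hPH⟩ := I.exists_sylow hx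
  obtain ⟨k, hk⟩ := (I.conj_iso g).ord
  obtain ⟨P', hP'⟩ := exists_sylow_mem (G := M) (r := p) (k := k) (f := ⟨g * x * g⁻¹, hg⟩)
    (by rw [Subgroup.orderOf_mk, hk])
  obtain ⟨m, hm⟩ := MulAction.exists_smul_eq M P' P
  have h1 : m * ⟨g * x * g⁻¹, hg⟩ * m⁻¹ ∈ (P : Subgroup M) := by
    rw [← hm]
    show m * ⟨g * x * g⁻¹, hg⟩ * m⁻¹ ∈ MulAut.conj m • (P' : Subgroup M)
    exact ⟨_, hP', rfl⟩
  have h2 : Commute ((m : G) * g * x * ((m : G) * g)⁻¹) x := by
    have := mem_cent.1 (hPH _ h1)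
    convert this using 1
    simp [mul_assoc]
  refine ⟨(m : G)⁻¹, inv_mem m.2, ?_⟩
  have h3 := I.eq_of_commute h2
  calc (m : G)⁻¹ * x * ((m : G)⁻¹)⁻¹ = (m : G)⁻¹ * ((m : G) * g * x * ((m : G) * g)⁻¹) * ((m : G)⁻¹)⁻¹ := by rw [h3]
    _ = g * x * g⁻¹ := by group

theorem card_stab {M : Subgroup G} (hx : x ∈ M) {g : G} (hg : g * x * g⁻¹ ∈ M) :
    Nat.card ↥(M ⊓ Subgroup.centralizer ({g * x * g⁻¹} : Set G)) =
      Nat.card ↥(M ⊓ Subgroup.centralizer ({x} : Set G)) := by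
  obtain ⟨m, hm, he⟩ := I.conj_in hx hg
  rw [← he]
  refine (Nat.card_congr
    { toFun := fun u : ↥(M ⊓ Subgroup.centralizer ({x} : Set G)) => ⟨m * u * m⁻¹, M.mul_mem (M.mul_mem hm u.2.1) (M.inv_mem hm),
        mem_cent.2 (commute_conj (mem_cent.1 u.2.2) m)⟩
      invFun := fun u : ↥(M ⊓ Subgroup.centralizer ({m * x * m⁻¹} : Set G)) => ⟨m⁻¹ * (u : G) * m, M.mul_mem (M.mul_mem (M.inv_mem hm) u.2.1) hm, mem_cent.2 (by
        have h := commute_conj (mem_cent.1 u.2.2) m⁻¹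
        convert h using 1 <;> group)⟩
      left_inv := fun u => Subtype.ext (by simp [mul_assoc])
      right_inv := fun u => Subtype.ext (by simp [mul_assoc]) }).symm

theorem not_dvd_relIndex {M : Subgroup G} (hx : x ∈ M) :
    ¬ p ∣ (Subgroup.centralizer ({x} : Set G)).relIndex M := by
  haveI := Fact.mk I.hp
  obtain ⟨P, -, hPH⟩ := I.exists_sylow hx
  exact fun h => P.not_dvd_index (h.trans (Subgroup.index_dvd_of_le fun g hg => Subgroup.mem_subgroupOf.2 (hPH g hg)))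

/-- A prime dividing the number of conjugates of `x` in `M` gives an element of `M` moving `x` whose
centraliser in `M` has a larger Sylow subgroup than `M ∩ C(x)`. -/
theorem exists_mover {M : Subgroup G} (hx : x ∈ M) {q : ℕ} [hq : Fact q.Prime]
    (hd : q ∣ (Subgroup.centralizer ({x} : Set G)).relIndex M) :
    ∃ (u : G) (Q : Subgroup G), u ∈ M ∧ (∃ j, orderOf u = q ^ j) ∧ ¬ Commute u x ∧ IsPGroup q Q ∧
      Q ≤ M ⊓ Subgroup.centralizer ({u} : Set G) ∧
      ¬ Nat.card Q ∣ Nat.card ↥(M ⊓ Subgroup.centralizer ({x} : Set G)) := by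
  classical
  set H := Subgroup.centralizer ({x} : Set G) with hH
  obtain ⟨Q₁⟩ : Nonempty (Sylow q ↥(M ⊓ H)) := inferInstance
  set Q := (Q₁ : Subgroup ↥(M ⊓ H)).map (M ⊓ H).subtype with hQ
  have hQle : Q ≤ M ⊓ H := Subgroup.map_subtype_le _
  have hQp : IsPGroup q Q := Q₁.isPGroup'.map _
  have hQmax : ∀ {B : Subgroup G}, IsPGroup q B → B ≤ M ⊓ H → Q ≤ B → B ≤ Q := fun {B} hB hBle hQB => by
    obtain ⟨i, hi⟩ := IsPGroup.iff_card.1 hB
    refine (Subgroup.eq_of_le_of_card_ge hQB ?_).ge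
    rw [hi, hQ, Subgroup.card_map_of_injective (M ⊓ H).subtype_injective]
    exact Nat.le_of_dvd Nat.card_pos (Q₁.pow_dvd_card_of_pow_dvd_card (hi ▸ Subgroup.card_dvd_of_le hBle))
  obtain ⟨S, hS⟩ := (hQp.comap_subtype (K := M)).exists_le_sylow
  have hne : (Q.subgroupOf M).subgroupOf (S : Subgroup M) ≠ ⊤ := fun h => by
    refine S.not_dvd_index (hd.trans (Subgroup.index_dvd_of_le fun g hg => Subgroup.mem_subgroupOf.2 ?_))
    exact (hQle (Subgroup.mem_subgroupOf.1 (Subgroup.subgroupOf_eq_top.1 h hg))).2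
  haveI : Group.IsNilpotent (S : Subgroup M) := S.isPGroup'.isNilpotent
  obtain ⟨⟨⟨g, hgM⟩, hgS⟩, hgn, hgQ⟩ :=
    SetLike.exists_of_lt (Group.normalizerCondition_of_isNilpotent _ hne.lt_top)
  have hgQ' : g ∉ Q := fun h => hgQ (Subgroup.mem_subgroupOf.2 (Subgroup.mem_subgroupOf.2 h))
  have hnorm : g ∈ Subgroup.normalizer (Q : Set G) := by
    have hfin : ∀ k : G, k ∈ Q → g * k * g⁻¹ ∈ Q := fun k hk => by
      have h1 := (Subgroup.mem_normalizer_iff.1 hgn ⟨⟨k, (hQle hk).1⟩, hS hk⟩).1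
        (Subgroup.mem_subgroupOf.2 (Subgroup.mem_subgroupOf.2 hk))
      exact Subgroup.mem_subgroupOf.1 (Subgroup.mem_subgroupOf.1 h1)
    have heq : Q.map (MulAut.conj g).toMonoidHom = Q := Subgroup.eq_of_le_of_card_ge
      (Subgroup.map_le_iff_le_comap.2 fun k hk => hfin k hk)
      (le_of_eq (Subgroup.card_map_of_injective (MulAut.conj g).injective).symm)
    refine Subgroup.mem_normalizer_iff.2 fun k => ⟨hfin k, fun h => ?_⟩
    rw [← heq] at h
    obtain ⟨k', hk', he⟩ := h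
    exact (MulAut.conj g).injective he ▸ hk'
  obtain ⟨j, hj⟩ := IsPGroup.iff_orderOf.1 S.isPGroup' ⟨⟨g, hgM⟩, hgS⟩
  rw [Subgroup.orderOf_mk, Subgroup.orderOf_mk] at hj
  -- the conjugate of `x` centralises `Q` as well
  set V := M ⊓ Subgroup.centralizer (Q : Set G) with hV
  have hVn : ∀ {k : G}, k ∈ M → k ∈ Subgroup.normalizer (Q : Set G) → ∀ u ∈ V, k * u * k⁻¹ ∈ V := by
    intro k hkM hkn u hu
    refine ⟨M.mul_mem (M.mul_mem hkM hu.1) (M.inv_mem hkM), Subgroup.mem_centralizer_iff.2 fun w hw => ?_⟩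
    have h1 : k⁻¹ * w * k ∈ Q := (Subgroup.mem_normalizer_iff.1 hkn _).2 (by
      rw [show k * (k⁻¹ * w * k) * k⁻¹ = w by group]
      exact hw)
    have h2 : Commute (k⁻¹ * w * k) u := Subgroup.mem_centralizer_iff.1 hu.2 _ h1
    have h3 := commute_conj h2 k
    rw [show k * (k⁻¹ * w * k) * k⁻¹ = w by group] at h3
    exact h3.eq
  have hxV : x ∈ V := ⟨hx, Subgroup.mem_centralizer_iff.2 fun w hw => (mem_cent.1 (hQle hw).2).eq⟩
  obtain ⟨v, hv, hvx⟩ := I.conj_in hxV (hVn hgM hnorm x hxV)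
  -- a power of `g` in `V Q`
  set h := v⁻¹ * g with hhdef
  have hhH : h ∈ H := by
    refine mem_cent.2 (?_ : v⁻¹ * g * x = x * (v⁻¹ * g))
    calc v⁻¹ * g * x = v⁻¹ * (g * x * g⁻¹) * g := by group
      _ = v⁻¹ * (v * x * v⁻¹) * g := by rw [hvx]
      _ = x * (v⁻¹ * g) := by group
  have hhM : h ∈ M := mul_mem (inv_mem hv.1) hgM
  have hhn : h ∈ Subgroup.normalizer (Q : Set G) :=
    mul_mem (inv_mem (Subgroup.centralizer_le_normalizer _ hv.2)) hnorm
  have hpow : ∀ n : ℕ, g ^ n * (h ^ n)⁻¹ ∈ V := by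
    intro n
    induction n with
    | zero => simp
    | succ n ih =>
      have key : ∀ s t : G, v * h * s * (h * t)⁻¹ = v * (h * (s * t⁻¹) * h⁻¹) := fun s t => by group
      rw [show g ^ (n + 1) * (h ^ (n + 1))⁻¹ = v * (h * (g ^ n * (h ^ n)⁻¹) * h⁻¹) by
        rw [pow_succ', pow_succ', ← key, show v * h = g from mul_inv_cancel_left v g]]
      exact mul_mem hv (hVn hhM hhn _ ih)
  obtain ⟨i, n, hn, hin⟩ := Nat.exists_eq_pow_mul_and_not_dvd (orderOf_pos h).ne' q hq.out.ne_one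
  have hsupp : ∀ {k : G}, k ∈ M ⊓ H → k ∈ Subgroup.normalizer (Q : Set G) → (∃ l, orderOf k = q ^ l) → k ∈ Q := by
    rintro k hk hkn ⟨l, hl⟩
    have hsup : IsPGroup q ↥(Subgroup.zpowers k ⊔ Q) := (IsPGroup.of_card (n := l)
      (by rw [Nat.card_zpowers, hl])).to_sup_of_normal_right' hQp (Subgroup.zpowers_le.2 hkn)
    exact hQmax hsup (sup_le (Subgroup.zpowers_le.2 hk) hQle) le_sup_right
      (Subgroup.mem_sup_left (Subgroup.mem_zpowers k))
  have hn0 : n ≠ 0 := fun h0 => hn (by rw [h0]; exact dvd_zero q)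
  have hh1 : h ^ n ∈ Q := hsupp (pow_mem (⟨hhM, hhH⟩ : h ∈ M ⊓ H) n) (pow_mem hhn n) ⟨i, by
    rw [orderOf_pow_of_dvd hn0 (hin ▸ dvd_mul_left n _), hin, Nat.mul_div_cancel _ (Nat.pos_of_ne_zero hn0)]⟩
  set u := g ^ n * (h ^ n)⁻¹ with hu
  have hgp : IsPGroup q ↥(Subgroup.zpowers g ⊔ Q) := (IsPGroup.of_card (n := j)
    (by rw [Nat.card_zpowers, hj])).to_sup_of_normal_right' hQp (Subgroup.zpowers_le.2 hnorm)
  obtain ⟨l, hl⟩ := IsPGroup.iff_orderOf.1 hgp ⟨u, mul_mem (Subgroup.mem_sup_left (Subgroup.npow_mem_zpowers g n))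
    (inv_mem (Subgroup.mem_sup_right hh1))⟩
  rw [Subgroup.orderOf_mk] at hl
  have huV : u ∈ V := hpow n
  have hun : u ∈ Subgroup.normalizer (Q : Set G) := Subgroup.centralizer_le_normalizer _ huV.2
  have huQ : u ∉ Q := fun h1 => hgQ' (by
    have h2 : g ^ n ∈ Q := by simpa [hu] using mul_mem h1 hh1
    obtain ⟨m, hm⟩ := exists_pow_eq_self_of_coprime (x := g) (n := n)
      (by rw [hj]; exact ((hq.out.coprime_iff_not_dvd.2 hn).pow_left j).symm)
    exact hm ▸ pow_mem h2 m)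
  have hux : ¬ Commute u x := fun h1 => huQ (hsupp ⟨huV.1, mem_cent.2 h1⟩ hun ⟨l, hl⟩)
  have hB : IsPGroup q ↥(Subgroup.zpowers u ⊔ Q) :=
    (IsPGroup.of_card (n := l) (by rw [Nat.card_zpowers, hl])).to_sup_of_normal_right' hQp (Subgroup.zpowers_le.2 hun)
  refine ⟨u, Subgroup.zpowers u ⊔ Q, huV.1, ⟨l, hl⟩, hux, hB, sup_le ?_ ?_, fun hdvd => ?_⟩
  · exact Subgroup.zpowers_le.2 ⟨huV.1, self_mem u⟩
  · exact fun w hw => ⟨(hQle hw).1, mem_cent.2 (Subgroup.mem_centralizer_iff.1 huV.2 w hw)⟩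
  · obtain ⟨b, hb⟩ := IsPGroup.iff_card.1 hB
    have h1 : Nat.card ↥(Subgroup.zpowers u ⊔ Q) ≤ Nat.card Q := by
      rw [hb, hQ, Subgroup.card_map_of_injective (M ⊓ H).subtype_injective]
      exact Nat.le_of_dvd Nat.card_pos (Q₁.pow_dvd_card_of_pow_dvd_card (hb ▸ hdvd))
    exact huQ ((Subgroup.eq_of_le_of_card_ge le_sup_right h1).ge (Subgroup.mem_sup_left (Subgroup.mem_zpowers u)))

/-- For an element of prime power order with maximal centraliser, its centraliser lies in that of `x`. -/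
theorem max_le {u : G} {q k : ℕ} (hq : q.Prime) (huo : orderOf u = q ^ k) (hux : Commute u x)
    (hm : ∀ g : G, Commute u g → (orderOf u).Coprime (orderOf g) →
      Subgroup.centralizer ({u} : Set G) ≤ Subgroup.centralizer ({g} : Set G)) :
    Subgroup.centralizer ({u} : Set G) ≤ Subgroup.centralizer ({x} : Set G) := by
  obtain ⟨i, hi⟩ := I.ord
  by_cases hqp : q = p
  swap
  · exact hm x hux (by rw [huo, hi]; exact (((Nat.coprime_primes hq I.hp).2 hqp).pow_left k).pow_right i)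
  set C := Subgroup.centralizer ({u} : Set G) with hC
  have hxC : x ∈ C := mem_cent.2 hux.symm
  rw [← Subgroup.relIndex_eq_one]
  refine Nat.eq_one_iff_not_exists_prime_dvd.2 fun l hl hd => ?_
  haveI := Fact.mk hl
  by_cases hlp : l = p
  · exact I.not_dvd_relIndex hxC (hlp ▸ hd)
  obtain ⟨P⟩ : Nonempty (Sylow l C) := inferInstance
  refine P.not_dvd_index (hd.trans (Subgroup.index_dvd_of_le fun g hg => Subgroup.mem_subgroupOf.2 ?_))
  obtain ⟨m, hm'⟩ := IsPGroup.iff_orderOf.1 P.isPGroup' ⟨g, hg⟩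
  rw [Subgroup.orderOf_mk, ← Subgroup.orderOf_coe] at hm'
  have h1 := hm g (mem_cent.1 g.2).symm
    (by rw [huo, hqp, hm']; exact (((Nat.coprime_primes I.hp hl).2 (Ne.symm hlp)).pow_left k).pow_right m)
  exact mem_cent.2 (mem_cent.1 (h1 hxC)).symm

end Iso

end Cfsg.Agent.Transfer.ConjRankFive
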