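import Cfsg.Agent.Lib.Transfer.ConjRankFive.Basic
import Cfsg.Agent.Lib.Transfer.ConjRankFour.Main

/-!
Five class sizes and good involution centralisers: a Suzuki group or `PSL(3, 4)`.
-/

set_option autoImplicit false
set_option linter.style.haveILetI false
set_option linter.unusedSectionVars false
set_option maxHeartbeats 1000000
set_option maxRecDepth 100000

universe u

namespace Cfsg.Agent.Transfer.ConjRankFive

open Cfsg Cfsg.Agent Cfsg.Agent.Transfer.ClassDisconnected Cfsg.Agent.Transfer.ConjRankThree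
  Cfsg.Agent.Transfer.ConjRankFour

section Seven

local notation "A7" => alternatingGroup (Fin 7)

/-- A cycle of length three. -/
def sevD : A7 := ⟨c[0, 1, 2], Equiv.Perm.mem_alternatingGroup.2 (by decide +kernel)⟩
/-- Two transpositions. -/
def sevE : A7 := ⟨c[0, 1] * c[2, 3], Equiv.Perm.mem_alternatingGroup.2 (by decide +kernel)⟩
/-- A cycle of length four and a transposition. -/
def sevF : A7 := ⟨c[0, 1, 2, 3] * c[4, 5], Equiv.Perm.mem_alternatingGroup.2 (by decide +kernel)⟩

theorem sev_more :
    (Finset.univ.filter fun g : A7 => g * sevD = sevD * g).card = 36 ∧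
    (Finset.univ.filter fun g : A7 => g * sevE = sevE * g).card = 24 ∧
    (Finset.univ.filter fun g : A7 => g * sevF = sevF * g).card = 4 := by decide +kernel

end Seven

variable {G : Type u} [Group G] [Finite G] [IsSimpleGroup G]

theorem not_seven (X : Ctx G) (e : G ≃* alternatingGroup (Fin 7)) : False := by
  classical
  have key : ∀ c : alternatingGroup (Fin 7), Nat.card (Subgroup.centralizer ({e.symm c} : Set G)) =
      (Finset.univ.filter fun g : alternatingGroup (Fin 7) => g * c = c * g).card := by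
    intro c
    rw [← Set.ncard_coe_finset, show ((Finset.univ.filter fun g : alternatingGroup (Fin 7) => g * c = c * g) : Set _) =
        e '' (Subgroup.centralizer ({e.symm c} : Set G) : Set G) from Set.ext fun g => by
      simp only [Finset.coe_filter, Finset.mem_univ, true_and, Set.mem_setOf_eq, Set.mem_image, SetLike.mem_coe]
      refine ⟨fun h => ⟨e.symm g, mem_cent.2 ((show Commute g c from h).map e.symm.toMonoidHom), e.apply_symm_apply g⟩, ?_⟩
      rintro ⟨x, hx, rfl⟩
      have := (mem_cent.1 hx).map e.toMonoidHom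
      simpa using this.eq]
    rw [Set.ncard_image_of_injective _ e.injective, ← Nat.card_coe_set_eq]
    rfl
  obtain ⟨h1, h2, h3⟩ := sev_cards
  obtain ⟨h4, h5, h6⟩ := sev_more
  have hsub : ({Nat.card G / 7, Nat.card G / 5, Nat.card G / 9, Nat.card G / 36, Nat.card G / 24, Nat.card G / 4} : Set ℕ)
      ⊆ sizes G := by
    have hmem : ∀ (c : alternatingGroup (Fin 7)) (k : ℕ),
        (Finset.univ.filter fun g : alternatingGroup (Fin 7) => g * c = c * g).card = k → k < 2520 →
        Nat.card G / k ∈ sizes G := by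
      intro c k hk hlt
      have h7 := card_mul_cix (e.symm c)
      rw [key, hk] at h7
      have hpos : 0 < k := by
        rw [← hk, ← key]; exact Nat.card_pos
      refine ⟨e.symm c, fun h => ?_, by rw [← h7, Nat.mul_div_cancel_left _ hpos]⟩
      rw [h, cix_one, mul_one, Nat.card_congr e.toEquiv, nat_card_alternatingGroup, Nat.card_fin] at h7
      norm_num [Nat.factorial] at h7
      omega
    rintro m (rfl | rfl | rfl | rfl | rfl | rfl)
    exacts [hmem _ _ h1 (by norm_num), hmem _ _ h2 (by norm_num), hmem _ _ h3 (by norm_num),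
      hmem _ _ h4 (by norm_num), hmem _ _ h5 (by norm_num), hmem _ _ h6 (by norm_num)]
  have hle := Set.ncard_le_ncard hsub (sizes_finite X)
  rw [X.five, Nat.card_congr e.toEquiv, nat_card_alternatingGroup, Nat.card_fin] at hle
  norm_num [Nat.factorial] at hle

theorem not_psl (X : Ctx G) {F : Type} [Field F] [Fintype F] (h3 : 3 < Fintype.card F)
    (e : G ≃* Matrix.ProjectiveSpecialLinearGroup (Fin 2) F) : False := by
  classical
  have hle4 : ∀ p q r s : ℕ, ({p, q, r, s} : Set ℕ).ncard ≤ 4 := fun p q r s =>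
    (Set.ncard_insert_le _ _).trans (Nat.succ_le_succ ((Set.ncard_insert_le _ _).trans
      (Nat.succ_le_succ ((Set.ncard_insert_le _ _).trans (by simp)))))
  have hev : ∀ {m : ℕ} {E : Type} [Field E] [Fintype E], 2 ≤ m → Fintype.card E = 2 ^ m →
      (G ≃* Matrix.ProjectiveSpecialLinearGroup (Fin 2) E) → False := fun {m E} _ _ hm hE e' => by
    have h5 := X.five
    rw [sizes, cix_psl X.hna hm hE e'] at h5
    have := hle4 (Fintype.card E * (Fintype.card E - 1)) (Fintype.card E ^ 2 - 1) (Fintype.card E * (Fintype.card E + 1))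
      (Fintype.card E * (Fintype.card E + 1))
    rw [Set.pair_eq_singleton] at this
    omega
  rcases Nat.even_or_odd (Fintype.card F) with he | hodd
  · obtain ⟨n, hp, hn⟩ := FiniteField.card F (ringChar F)
    haveI := Fact.mk hp
    have h2 : ringChar F = 2 := ((Nat.prime_dvd_prime_iff_eq Nat.prime_two hp).1
      (Nat.prime_two.dvd_of_dvd_pow (hn ▸ he.two_dvd))).symm
    rw [h2] at hn
    refine hev ?_ hn e
    by_contra hlt
    have h1 : (n : ℕ) = 1 := by have := n.pos; omega
    rw [hn, h1] at h3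
    omega
  by_cases h7 : 7 ≤ Fintype.card F
  swap
  · have h5 : Fintype.card F = 5 := by rw [Nat.odd_iff] at hodd; omega
    obtain ⟨F', iF, iFin, hF', ⟨e'⟩⟩ := psl_five_binary h5
    exact hev le_rfl hF' (e.trans e')
  have h2508 := Cfsg.Agent.S2508.result (F := F) (by rw [Nat.odd_iff] at hodd; omega) h7
  set P := Matrix.ProjectiveSpecialLinearGroup (Fin 2) F
  have htr : ∀ w : G, (Subgroup.centralizer ({e w} : Set P)).index = cix w := by
    intro w
    rw [cix, ← Subgroup.index_map_equiv (Subgroup.centralizer ({w} : Set G)) e]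
    congr 1
    ext p
    rw [Subgroup.mem_map]
    refine ⟨fun hp => ⟨e.symm p, ?_, e.apply_symm_apply p⟩, ?_⟩
    · rw [mem_cent] at hp ⊢
      simpa using hp.map e.symm.toMonoidHom
    · rintro ⟨g, hg, rfl⟩
      rw [mem_cent] at hg ⊢
      exact hg.map e.toMonoidHom
  obtain ⟨A, B, C, D, hR⟩ : ∃ A B C D : ℕ,
      Set.range (fun g : P => (Subgroup.centralizer ({g} : Set P)).index) = {1, A, B, C, D} := by
    rcases (by rw [Nat.odd_iff] at hodd; omega : Fintype.card F % 4 = 1 ∨ Fintype.card F % 4 = 3) with h | h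
    exacts [⟨_, _, _, _, h2508.1 h⟩, ⟨_, _, _, _, h2508.2 h⟩]
  have hsub : sizes G ⊆ {A, B, C, D} := by
    rintro m ⟨w, hw, rfl⟩
    have h1 : cix w ∈ Set.range (fun g : P => (Subgroup.centralizer ({g} : Set P)).index) := ⟨e w, htr w⟩
    rw [hR] at h1
    exact (Set.mem_insert_iff.1 h1).resolve_left (cix_ne_one X.hna hw)
  have := Set.ncard_le_ncard hsub (Set.toFinite _)
  rw [X.five] at this
  have := hle4 A B C D
  omega

/-- With good involution centralisers the group is a Suzuki group or `PSL(3, 4)`. -/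
theorem of_good (X : Ctx G) (hgood : ∀ t : G, orderOf t = 2 → Good t) :
    (∃ (n : ℕ) (F : Type) (_ : Field F) (_ : Fintype F), 1 ≤ n ∧ Fintype.card F = 2 ^ (2 * n + 1) ∧
        Nonempty (G ≃* ↥(Cfsg.Lie.Sz F (2 ^ (n + 1))))) ∨
      ∃ (F : Type) (_ : Field F) (_ : Fintype F), Fintype.card F = 4 ∧
        Nonempty (G ≃* Matrix.ProjectiveSpecialLinearGroup (Fin 3) F) := by
  classical
  by_cases hS : SAb G
  · exfalso
    obtain ⟨S⟩ : Nonempty (Sylow 2 G) := inferInstance
    rcases Cfsg.Agent.S3188.result S (hS S) (fun t ht => (hgood t ht).1) with hsol |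
      ⟨F, iF, iFin, hcases, N, hN, ⟨e⟩, hcent⟩
    · exact X.hna ⟨⟨fun a b => IsSimpleGroup.comm_iff_isSolvable.mpr hsol a b⟩⟩
    haveI : (Cfsg.oddCore G).Normal := Grp.pPrimeCore_isNormal
    have hO : Cfsg.oddCore G = ⊥ := by
      rcases (inferInstance : (Cfsg.oddCore G).Normal).eq_bot_or_eq_top with h | h
      · exact h
      · exfalso
        refine X.hna ⟨⟨fun a b => IsSimpleGroup.comm_iff_isSolvable.mpr ?_ a b⟩⟩
        have h1 : (Nat.card G).Coprime 2 := by
          have := Grp.pPrimeCore_coprime (G := G) (p := 2)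
          rwa [show Cfsg.pPrimeCore 2 G = ⊤ from h, Subgroup.card_top] at this
        exact Cfsg.Agent.S0205.result (Nat.coprime_two_right.1 h1)
    let q : G ⧸ Cfsg.oddCore G ≃* G :=
      (QuotientGroup.quotientMulEquivOfEq hO).trans QuotientGroup.quotientBot
    haveI : IsSimpleGroup (G ⧸ Cfsg.oddCore G) := q.isSimpleGroup
    have hNtop : N = ⊤ := by
      rcases hN.eq_bot_or_eq_top with h | h
      · exfalso
        refine (top_ne_bot : (⊤ : Subgroup (G ⧸ Cfsg.oddCore G)) ≠ ⊥) ?_
        rw [← hcent, h]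
        exact (top_le_iff.1 fun g _ => Subgroup.mem_centralizer_iff.2 fun x hx => by
          rw [Subgroup.mem_bot.1 hx, one_mul, mul_one]).symm
      · exact h
    let e' : G ≃* Matrix.ProjectiveSpecialLinearGroup (Fin 2) F :=
      (q.symm.trans (Subgroup.topEquiv.symm.trans (MulEquiv.subgroupCongr hNtop.symm))).trans e
    refine not_psl X ?_ e'
    rcases hcases with ⟨-, h⟩ | ⟨n, hn, h⟩
    · omega
    · rw [h]; exact lt_of_lt_of_le (by norm_num) (Nat.pow_le_pow_right (by norm_num) hn)
  · rcases Cfsg.Agent.S3214.result X.hna (fun t ht => (hgood t ht).2.resolve_right hS) with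
      ⟨F, iF, iFin, h3, ⟨e⟩⟩ | ⟨F, iF, iFin, m, hm, hcard, he⟩ | ⟨⟨e⟩⟩ | hL
    · exact (not_psl X h3 e).elim
    · exact Or.inl ⟨m, F, iF, iFin, hm, hcard, he⟩
    · exact (not_seven X e).elim
    · exact Or.inr hL

/-- One upper size. -/
theorem of_oneTop (X : Ctx G) (O : OneTop G) :
    (∃ (n : ℕ) (F : Type) (_ : Field F) (_ : Fintype F), 1 ≤ n ∧ Fintype.card F = 2 ^ (2 * n + 1) ∧
        Nonempty (G ≃* ↥(Cfsg.Lie.Sz F (2 ^ (n + 1))))) ∨
      ∃ (F : Type) (_ : Field F) (_ : Fintype F), Fintype.card F = 4 ∧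
        Nonempty (G ≃* Matrix.ProjectiveSpecialLinearGroup (Fin 3) F) :=
  of_good X fun _ ht => O.good X.hna ht

end Cfsg.Agent.Transfer.ConjRankFive
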