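import Cfsg.Agent.Lib.Grp.PrimeGraphGK.Local
import Cfsg.Agent.S0205

/-!
Solvable groups without mixed elements having a nontrivial `π`-core and order not a `π`-number: the core
is nilpotent and contains the `π`-elements of the derived subgroup.
-/

set_option autoImplicit false
set_option linter.style.haveILetI false
set_option linter.unusedSectionVars false

universe u

namespace Cfsg.Agent.Transfer.ConjRankFive

open Cfsg Cfsg.Agent.Grp Cfsg.Agent.Grp.GK Cfsg.Agent.Grp.Graph

variable {M : Type u} [Group M] [Finite M] [Group.IsSolvable M] {π : Set ℕ}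

/-- The `π`-elements of the derived subgroup lie in the nilpotent `π`-core. -/
theorem mixed_core (h : NoMix π M) (hK : Cfsg.piCore π M ≠ ⊥)
    (hb : ∃ l : ℕ, l.Prime ∧ l ∉ π ∧ l ∣ Nat.card M) :
    Group.IsNilpotent (Cfsg.piCore π M) ∧
      ∀ g ∈ commutator M, PiElt π g → g ∈ Cfsg.piCore π M := by
  classical
  set K := Cfsg.piCore π M with hKdef
  have hKπ : PiSub π K := piSub_core
  obtain ⟨l, hl, hlπ, hlM⟩ := hb
  haveI := Fact.mk hl
  obtain ⟨ω, hω⟩ := exists_prime_orderOf_dvd_card' (G := M) l hlM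
  refine ⟨nilpotent_of_fpf h hKπ hl hlπ hω (by rw [Subgroup.normalizer_eq_top]; exact Subgroup.mem_top ω),
    fun g hg hgπ => ?_⟩
  have hq := h.quot K
  have hcore : ∀ X : Subgroup (M ⧸ K), X.Normal → PiSub π X → X = ⊥ := fun X hX hXπ => by
    have h1 := piCore_maximal (hX.comap (QuotientGroup.mk' K)) (piSub_comap hKπ hXπ)
    rw [← Subgroup.map_comap_eq_self_of_surjective (QuotientGroup.mk'_surjective K) X, Subgroup.map_eq_bot_iff,
      QuotientGroup.ker_mk']
    exact h1
  haveI : Nontrivial (M ⧸ K) := by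
    rw [← not_subsingleton_iff_nontrivial, QuotientGroup.subsingleton_iff]
    intro e
    refine hlπ (hKπ l hl ?_)
    rw [e, Subgroup.card_top]
    exact hlM
  obtain ⟨s, V, hs, hVn, hVs, hV1⟩ := exists_normal_pGroup (G := M ⧸ K)
  haveI := hVn
  haveI := Fact.mk hs
  have hsπ : s ∉ π := fun e => hV1 (hcore V hVn (piSub_of_pGroup hs hVs e))
  -- a cyclic normal subgroup
  set Z := (Subgroup.center V).map V.subtype with hZ
  haveI hZn : Z.Normal := inferInstance
  have hZs : IsPGroup s Z := (hVs.to_subgroup (Subgroup.center V)).map V.subtype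
  have hZc : IsMulCommutative Z := ⟨⟨fun p q => by
    obtain ⟨p', hp', hp⟩ := p.2
    obtain ⟨q', -, hq⟩ := q.2
    refine Subtype.ext ?_
    show (p : M ⧸ K) * q = q * p
    rw [← hp, ← hq, ← map_mul, ← map_mul, Subgroup.mem_center_iff.1 hp' q']⟩⟩
  haveI : IsCyclic Z := isCyclic_quot h hKπ hK (piSub_of_pGroup hs hZs hsπ) hs hZs hZc
  have hZ1 : Z ≠ ⊥ := by
    haveI : Nontrivial V := (Subgroup.nontrivial_iff_ne_bot V).2 hV1
    haveI := hVs.center_nontrivial
    exact fun e => (Subgroup.nontrivial_iff_ne_bot _).1 inferInstance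
      ((Subgroup.map_eq_bot_iff_of_injective _ V.subtype_injective).1 e)
  obtain ⟨z, hz, hz1⟩ := Z.bot_or_exists_ne_one.resolve_left hZ1
  -- the derived subgroup centralises it
  have hgz : Commute ((g : M) : M ⧸ K) z := by
    let φ : M →* MulAut Z := (MulAut.conjNormal (H := Z)).comp (QuotientGroup.mk' K)
    have hcomm : ∀ u v : MulAut Z, u * v = v * u := fun u v => by
      obtain ⟨m, hm⟩ := IsCyclic.exists_generator (α := Z)
      refine MulEquiv.ext fun w => ?_
      obtain ⟨i, rfl⟩ := hm w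
      obtain ⟨p, hp⟩ := hm (u m)
      obtain ⟨q, hq⟩ := hm (v m)
      simp only [MulAut.mul_apply, map_zpow, ← hp, ← hq]
      simp only [← zpow_mul]; congr 1; ring
    have hker : commutator M ≤ φ.ker := by
      rw [commutator_def, Subgroup.commutator_le]
      intro p _ q _
      rw [MonoidHom.mem_ker, map_commutatorElement]
      exact commutatorElement_eq_one_iff_mul_comm.2 (hcomm _ _)
    have h1 := congrArg (fun f : MulAut Z => (f ⟨z, hz⟩ : M ⧸ K)) (MonoidHom.mem_ker.1 (hker hg))
    simp only [φ, MonoidHom.comp_apply, MulAut.conjNormal_apply, MulAut.one_apply,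
      QuotientGroup.mk'_apply] at h1
    exact mul_inv_eq_iff_eq_mul.1 h1
  -- a `π`-element commuting with it is trivial modulo the core
  rw [← QuotientGroup.eq_one_iff]
  by_contra hg1
  obtain ⟨p, hp, hpd⟩ := exists_prime_dvd_of_ne_one hg1
  obtain ⟨q, hq', hqd⟩ := exists_prime_dvd_of_ne_one hz1
  refine false_of_commute hq hp hq' (hgπ p hp (hpd.trans (orderOf_map_dvd (QuotientGroup.mk' K) g))) ?_ hpd hqd hgz
  intro hqπ
  exact hsπ ((Nat.prime_dvd_prime_iff_eq hq' hs).1 (hq'.dvd_of_dvd_pow (n := (hZs.exists_card_eq).choose)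
    ((hqd.trans (Z.orderOf_dvd_natCard hz)).trans (hZs.exists_card_eq).choose_spec.dvd)) ▸ hqπ)

end Cfsg.Agent.Transfer.ConjRankFive
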