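import Cfsg.Agent.Lib.Transfer.ConjRankFive.Sides
import Cfsg.Agent.Lib.Transfer.ConjRankFive.Mixed

/-!
An abelian subgroup `A` of order the `r'`-part of an odd `a` whose elements all have the same centraliser:
elementary properties.
-/

set_option autoImplicit false
set_option linter.style.haveILetI false
set_option linter.unusedSectionVars false
set_option maxHeartbeats 1000000

open scoped commutatorElement

universe u

namespace Cfsg.Agent.Transfer.ConjRankFive

open Cfsg Cfsg.Agent Cfsg.Agent.Transfer.ClassDisconnected Cfsg.Agent.Transfer.ConjRankThree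
  Cfsg.Agent.Transfer.ConjRankFour Cfsg.Agent.Grp.Graph Cfsg.Agent.Grp.GK

variable {G : Type u} [Group G] [Finite G] [IsSimpleGroup G]

/-- The primes of `a`. -/
def primesOf (a : ℕ) : Set ℕ := {l | l ∣ a}

namespace Split

variable {a b c d e : ℕ} (S : Split G a b c d e)

include S

theorem coprime_b {l : ℕ} (hl : l.Prime) (hla : l ∣ a) : ¬ l ∣ b := fun h =>
  hl.ne_one (Nat.eq_one_of_dvd_coprimes S.T.cop hla h)

theorem noMix : NoMix (primesOf a) G := by
  intro l m hl hm hla hma g hg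
  have hmb : m ∣ b := ((hm.dvd_mul).1 (S.T.card_eq ▸
    (dvd_mul_left m l).trans (hg ▸ orderOf_dvd_natCard g))).resolve_left hma
  have hg1 : g ≠ 1 := fun h => by
    rw [h, orderOf_one] at hg
    exact hl.ne_one (Nat.eq_one_of_mul_eq_one_right hg.symm)
  have h1 := S.T.b_side hg1 fun h => hl.ne_one (Nat.eq_one_of_dvd_coprimes h (hg ▸ dvd_mul_right l m) hla)
  have h2 := S.T.swap.b_side hg1 fun h => hm.ne_one (Nat.eq_one_of_dvd_coprimes h (hg ▸ dvd_mul_left m l) hmb)
  exact h1.2 h2.1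

theorem piSub_of_dvd {K : Subgroup G} (h : Nat.card K ∣ a) : PiSub (primesOf a) K :=
  fun _ _ hl => hl.trans h

theorem card_dvd_a {K : Subgroup G} (h : PiSub (primesOf a) K) : Nat.card K ∣ a := by
  refine Nat.Coprime.dvd_of_dvd_mul_right (Nat.coprime_of_dvd fun l hl h1 h2 => S.coprime_b hl (h l hl h1) h2) ?_
  exact S.T.card_eq ▸ K.card_subgroup_dvd_card

theorem piSub_cent {y : G} (hy : b ∣ cix y) : PiSub (primesOf a) (Subgroup.centralizer ({y} : Set G)) :=
  piSub_of_dvd S (S.T.swap.card_dvd hy)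

/-- An involution normalising a `π(a)`-subgroup containing an element of class size `b` is absurd. -/
theorem odd_norm (hodd : ¬ 2 ∣ a) {P : Subgroup G} (hP : Nat.card P ∣ a) {y : G} (hyP : y ∈ P) (hy : cix y = b) :
    ¬ 2 ∣ Nat.card ↥(Subgroup.normalizer (P : Set G)) := by
  intro h2
  obtain ⟨t, htN, ht⟩ := exists_involution_mem h2
  have hπ : NoMix (primesOf a)ᶜ G := S.noMix.symm
  have h2π : (2 : ℕ) ∈ (primesOf a)ᶜ := hodd
  have hsub : ∀ {N : Subgroup G}, Nat.card N ∣ a → PiSub ((primesOf a)ᶜ)ᶜ N := fun {N} hN => by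
    rw [compl_compl]; exact piSub_of_dvd S hN
  have hty : t * y * t⁻¹ = y⁻¹ :=
    inverts hπ h2π ht (hsub hP) (fun n hn => (Subgroup.mem_normalizer_iff.1 htN n).1 hn) hyP
  refine S.not_comm hy fun p hp q hq => comm_of_inverts hπ h2π ht (hsub (S.T.card_B hy).dvd) (fun n hn => ?_) hp hq
  have hc : Commute (t * n * t⁻¹) (t * y * t⁻¹) := (mem_cent.1 hn).map (MulAut.conj t).toMonoidHom
  rw [hty] at hc
  exact mem_cent.2 (inv_inv y ▸ hc.inv_right)

theorem solvable_of_odd {K : Subgroup G} (h : ¬ 2 ∣ Nat.card K) : Group.IsSolvable K :=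
  Cfsg.Agent.S0205.result (Nat.not_even_iff_odd.1 fun he => h he.two_dvd)

end Split

/-- An abelian subgroup of order the `r'`-part of `a` with common centraliser of order `a / k`. -/
structure Loc (G : Type u) [Group G] (a b c d e k r : ℕ) (A : Subgroup G) : Prop where
  S : Split G a b c d e
  odd : ¬ 2 ∣ a
  hr : r.Prime
  hk : e = b * k
  hk1 : 1 < k
  hkr : ∃ m, k = r ^ m
  ne : A ≠ ⊥
  cop : (Nat.card A).Coprime r
  full : ∃ j, a = Nat.card A * r ^ j
  cent : ∀ α ∈ A, α ≠ 1 → Subgroup.centralizer ({α} : Set G) = Subgroup.centralizer (A : Set G)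
  comm : ∀ p ∈ Subgroup.centralizer (A : Set G), ∀ q ∈ Subgroup.centralizer (A : Set G), Commute p q
  le : A ≤ Subgroup.centralizer (A : Set G)
  cardT : Nat.card (Subgroup.centralizer (A : Set G)) * k = a
  exY : ∃ y ∈ Subgroup.centralizer (A : Set G), (∃ i, orderOf y = r ^ i) ∧ cix y = b

namespace Loc

variable {a b c d e k r : ℕ} {A : Subgroup G} (D : Loc G a b c d e k r A)

include D

theorem dvd_A : Nat.card A ∣ a := by
  obtain ⟨j, hj⟩ := D.full
  exact Dvd.intro _ hj.symm

theorem dvd_T : Nat.card (Subgroup.centralizer (A : Set G)) ∣ a := Dvd.intro _ D.cardT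

/-- A `π(a)`-element of order prime to `r` normalising `A` lies in `A`. -/
theorem mem_A {g : G} (hg : g ∈ Subgroup.normalizer (A : Set G)) (hga : orderOf g ∣ a)
    (hgr : (orderOf g).Coprime r) : g ∈ A := by
  set K := Subgroup.zpowers g ⊔ A with hK
  have hd : Nat.card K ∣ Nat.card A * orderOf g := by
    rw [hK, ← Nat.card_zpowers, sup_comm]
    have h := Grp.card_sup_dvd_mul (H := Subgroup.zpowers g) (N := A) (Subgroup.zpowers_le.2 hg)
    rw [sup_comm] at h
    rwa [mul_comm (Nat.card A)]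
  have hKa : Nat.card K ∣ a := D.S.card_dvd_a fun l hl hlK => by
    rcases (hl.dvd_mul).1 (hlK.trans hd) with h | h
    exacts [h.trans D.dvd_A, h.trans hga]
  obtain ⟨j, hj⟩ := D.full
  have hco : (Nat.card K).Coprime (r ^ j) := (Nat.Coprime.coprime_dvd_left hd (D.cop.mul_left hgr)).pow_right j
  rw [hj] at hKa
  have heq : A = K := Subgroup.eq_of_le_of_card_ge le_sup_right
    (Nat.le_of_dvd Nat.card_pos (hco.dvd_of_dvd_mul_right hKa))
  rw [heq]
  exact Subgroup.mem_sup_left (Subgroup.mem_zpowers g)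

theorem T_le_norm : Subgroup.centralizer (A : Set G) ≤ Subgroup.normalizer (A : Set G) :=
  Subgroup.centralizer_le_normalizer _

omit [IsSimpleGroup G] D in
theorem coprime_of_mem {α : G} (hA : (Nat.card A).Coprime r) (h : α ∈ A) : (orderOf α).Coprime r :=
  Nat.Coprime.coprime_dvd_left (A.orderOf_dvd_natCard h) hA

/-- An element moving one nontrivial element of `A` into `A` normalises it. -/
theorem norm_of_conj {g α : G} (hα : α ∈ A) (hα1 : α ≠ 1) (h : g * α * g⁻¹ ∈ A) :
    g ∈ Subgroup.normalizer (A : Set G) := by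
  have h1 : g * α * g⁻¹ ≠ 1 := fun e => hα1 (conj_eq_one_iff.1 e)
  refine Subgroup.mem_normalizer_iff.2 fun z => ⟨fun hz => ?_, fun hz => ?_⟩
  · refine D.mem_A (D.T_le_norm ?_) ?_ ?_
    · rw [← D.cent _ h h1]
      exact mem_cent.2 ((mem_cent.1 (D.cent α hα hα1 ▸ D.le hz)).map (MulAut.conj g).toMonoidHom)
    · rw [← MulAut.conj_apply, MulEquiv.orderOf_eq]
      exact (A.orderOf_dvd_natCard hz).trans D.dvd_A
    · rw [← MulAut.conj_apply, MulEquiv.orderOf_eq]
      exact coprime_of_mem D.cop hz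
  · refine D.mem_A (D.T_le_norm ?_) ?_ ?_
    · rw [← D.cent α hα hα1]
      have h2 := (mem_cent.1 (D.cent _ h h1 ▸ D.le hz)).map (MulAut.conj g⁻¹).toMonoidHom
      simp [mul_assoc] at h2
      exact mem_cent.2 h2
    · rw [show orderOf z = orderOf (g * z * g⁻¹) from
        ((MulAut.conj g).orderOf_eq z).symm]
      exact (A.orderOf_dvd_natCard hz).trans D.dvd_A
    · rw [show orderOf z = orderOf (g * z * g⁻¹) from
        ((MulAut.conj g).orderOf_eq z).symm]
      exact coprime_of_mem D.cop hz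

theorem exists_alpha : ∃ α ∈ A, α ≠ 1 := A.bot_or_exists_ne_one.resolve_left D.ne

theorem comm_A {p q : G} (hp : p ∈ A) (hq : q ∈ A) : Commute p q := D.comm p (D.le hp) q (D.le hq)

theorem le_cent {v : G} (hv : v ∈ Subgroup.centralizer (A : Set G)) :
    A ≤ Subgroup.centralizer ({v} : Set G) ∧
      Subgroup.centralizer (A : Set G) ≤ Subgroup.centralizer ({v} : Set G) :=
  ⟨fun p hp => mem_cent.2 (D.comm p (D.le hp) v hv), fun p hp => mem_cent.2 (D.comm p hp v hv)⟩

theorem not_nilpotent_pair {K : Subgroup G} (hK : Group.IsNilpotent K) (hA : A ≤ K) {x : G} {i : ℕ}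
    (hxo : orderOf x = r ^ i) (hx : x ∈ K) : x ∈ Subgroup.centralizer (A : Set G) := by
  obtain ⟨α, hα, hα1⟩ := D.exists_alpha
  obtain ⟨q, hq, hqd⟩ := Nat.exists_prime_and_dvd (fun h => hα1 (orderOf_eq_one_iff.1 h) : orderOf α ≠ 1)
  set β := α ^ (orderOf α / q) with hβ
  have hβo : orderOf β = q := orderOf_pow_orderOf_div (orderOf_pos α).ne' hqd
  have hβA : β ∈ A := pow_mem hα _
  have hqr : r ≠ q := fun h => hq.ne_one (Nat.eq_one_of_dvd_coprimes (coprime_of_mem D.cop hβA)
    hβo.symm.dvd h.symm.dvd)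
  rw [← D.cent β hβA fun h => hq.ne_one (by rw [← hβo, h, orderOf_one])]
  exact mem_cent.2 (WielandtDPi.commute_of_nilpotent K hK hx (hA hβA) D.hr hq hqr hxo
    (show orderOf β = q ^ 1 by rw [hβo, pow_one]))

/-- The map `α ↦ [α, x]` of `A` is onto. -/
theorem le_derived {M : Subgroup G} (hA : A ≤ M) {x : G} (hxM : x ∈ M)
    (hxN : x ∈ Subgroup.normalizer (A : Set G)) (hxT : x ∉ Subgroup.centralizer (A : Set G)) :
    A ≤ ⁅M, M⁆ := by
  let f : A → A := fun α => ⟨⁅(α : G), x⁆, by
    rw [commutatorElement_def, mul_assoc, mul_assoc]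
    refine mul_mem α.2 ?_
    rw [← mul_assoc]
    exact (Subgroup.mem_normalizer_iff.1 hxN _).1 (inv_mem α.2)⟩
  have hinj : Function.Injective f := by
    intro p q h
    have h1 : ⁅(p : G), x⁆ = ⁅(q : G), x⁆ := congrArg Subtype.val h
    have hy1 : x * (p : G)⁻¹ * x⁻¹ ∈ A := (Subgroup.mem_normalizer_iff.1 hxN _).1 (inv_mem p.2)
    have hy2 : x * (q : G)⁻¹ * x⁻¹ ∈ A := (Subgroup.mem_normalizer_iff.1 hxN _).1 (inv_mem q.2)
    simp only [commutatorElement_def, mul_assoc] at h1
    rw [← mul_assoc x, ← mul_assoc x] at h1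
    -- `q⁻¹ p` is fixed by `x`
    have h2 : (q : G)⁻¹ * p = (x * (q : G)⁻¹ * x⁻¹) * (x * (p : G)⁻¹ * x⁻¹)⁻¹ := by
      rw [eq_mul_inv_iff_mul_eq, mul_assoc, inv_mul_eq_iff_eq_mul]
      exact h1
    have h3 : Commute ((q : G)⁻¹ * p) x := by
      show (q : G)⁻¹ * p * x = x * ((q : G)⁻¹ * p)
      conv_lhs => rw [h2]
      group
    by_contra hne
    refine hxT ?_
    rw [← D.cent ((q : G)⁻¹ * p) (mul_mem (inv_mem q.2) p.2)
      fun e => hne (Subtype.ext (inv_mul_eq_one.1 e).symm)]
    exact mem_cent.2 h3.symm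
  intro α hα
  obtain ⟨β, hβ⟩ := (Finite.injective_iff_surjective.1 hinj) ⟨α, hα⟩
  have h : ⁅(β : G), x⁆ = α := congrArg Subtype.val hβ
  exact h ▸ Subgroup.commutator_mem_commutator (hA β.2) hxM

/-- A solvable subgroup with a nontrivial core whose derived subgroup contains a Hall subgroup containing
`A` and an outer `r`-element normalising it does not exist. -/
theorem false_of_derived {M R : Subgroup G} [Group.IsSolvable M] (hRc : Nat.card R = a) (hRM : R ≤ ⁅M, M⁆)
    {Z : Subgroup G} (hZ1 : Z ≠ ⊥) (hZM : Z ≤ M) (hZn : M ≤ Subgroup.normalizer (Z : Set G))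
    (hZa : Nat.card Z ∣ a) (hA : A ≤ R) {x : G} {i : ℕ} (hxo : orderOf x = r ^ i) (hxR : x ∈ R)
    (hxT : x ∉ Subgroup.centralizer (A : Set G)) : False := by
  have hRM' : R ≤ M := hRM.trans (Subgroup.commutator_le_self M)
  have hR1 : R ≠ ⊥ := fun h => D.ne (le_bot_iff.1 (h ▸ hA))
  by_cases hb : ∃ l : ℕ, l.Prime ∧ l ∉ primesOf a ∧ l ∣ Nat.card M
  · have hnm : NoMix (primesOf a) M := noMix_subgroup D.S.noMix M
    have hK : Cfsg.piCore (primesOf a) M ≠ ⊥ := by
      intro h
      have h1 : Z.subgroupOf M ≤ Cfsg.piCore (primesOf a) M :=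
        piCore_maximal ((Subgroup.normal_subgroupOf_iff_le_normalizer hZM).2 hZn) fun l hl hd => by
          rw [Nat.card_congr (Subgroup.subgroupOfEquivOfLe hZM).toEquiv] at hd
          exact hd.trans hZa
      rw [h, le_bot_iff, Subgroup.subgroupOf_eq_bot, disjoint_iff, inf_eq_left.2 hZM] at h1
      exact hZ1 h1
    obtain ⟨hnil, hmem⟩ := mixed_core hnm hK hb
    set K := (Cfsg.piCore (primesOf a) M).map M.subtype with hKdef
    haveI : Group.IsNilpotent K := nilpotent_of_mulEquiv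
      ((Cfsg.piCore (primesOf a) M).equivMapOfInjective M.subtype M.subtype_injective)
    have hle : R ≤ K := by
      intro g hg
      have hgM := hRM' hg
      refine ⟨⟨g, hgM⟩, hmem _ ?_ ?_, rfl⟩
      · have h1 := hRM hg
        rw [← Subgroup.map_subtype_commutator] at h1
        obtain ⟨g', hg', h2⟩ := h1
        rwa [show (⟨g, hgM⟩ : M) = g' from Subtype.ext h2.symm]
      · intro l hl hd
        rw [Subgroup.orderOf_mk] at hd
        exact (hd.trans (R.orderOf_dvd_natCard hg)).trans hRc.dvd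
    exact hxT (D.not_nilpotent_pair inferInstance (hA.trans hle) hxo (hle hxR))
  · push Not at hb
    have hMa : Nat.card M ∣ a := D.S.card_dvd_a fun l hl hd => by
      by_contra h
      exact hb l hl h hd
    have heq : R = M := Subgroup.eq_of_le_of_card_ge hRM' (by
      rw [hRc]; exact Nat.le_of_dvd (by have := D.S.T.ha; omega) hMa)
    exact (Grp.commutator_lt_self_of_solvable inferInstance (heq ▸ hR1)).not_ge (heq ▸ hRM)

/-- An element with an involution-free centraliser condition: the normaliser of `A` has odd order. -/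
theorem odd_L : ¬ 2 ∣ Nat.card ↥(Subgroup.normalizer (A : Set G)) := by
  obtain ⟨y, hyT, -, hy⟩ := D.exY
  refine fun h => D.S.odd_norm D.odd D.dvd_T hyT hy (h.trans (Subgroup.card_dvd_of_le fun g hg => ?_))
  refine Subgroup.mem_normalizer_iff.2 fun z => ?_
  have key : ∀ g ∈ Subgroup.normalizer (A : Set G), ∀ z ∈ Subgroup.centralizer (A : Set G),
      g * z * g⁻¹ ∈ Subgroup.centralizer (A : Set G) := by
    intro g hg z hz
    refine Subgroup.mem_centralizer_iff.2 fun p hp => ?_
    have h1 : g⁻¹ * p * g ∈ A := by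
      have := (Subgroup.mem_normalizer_iff.1 (inv_mem hg) p).1 hp
      rwa [inv_inv] at this
    have h2 := congrArg (fun w => g * w * g⁻¹) (Subgroup.mem_centralizer_iff.1 hz _ h1)
    simpa [mul_assoc] using h2
  refine ⟨key g hg z, fun hz => ?_⟩
  have := key g⁻¹ (inv_mem hg) _ hz
  simpa [mul_assoc] using this

end Loc

end Cfsg.Agent.Transfer.ConjRankFive
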