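import Cfsg.Agent.Lib.Transfer.ConjRankFive.LocFinal

/-!
The elements of order `r` in `Z(J(Q))` finish the local case.
-/

set_option autoImplicit false
set_option linter.style.haveILetI false
set_option linter.unusedSectionVars false
set_option maxHeartbeats 1000000

open scoped commutatorElement Pointwise

universe u

namespace Cfsg.Agent.Transfer.ConjRankFive

open Cfsg Cfsg.Agent Cfsg.Agent.Transfer.ClassDisconnected Cfsg.Agent.Transfer.ConjRankThree
  Cfsg.Agent.Transfer.ConjRankFour Cfsg.Agent.Grp.Graph Cfsg.Agent.Grp.GK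

variable {G : Type u} [Group G] [Finite G] [IsSimpleGroup G]

omit [IsSimpleGroup G] in
/-- A family of subgroups of order `r` meeting pairwise trivially and covering a group of order `r ^ 2`. -/
theorem card_cover {r : ℕ} (hr : r.Prime) {V : Subgroup G} (hV : Nat.card V = r ^ 2) (Ω : Set (Subgroup G))
    (hmem : ∀ Y ∈ Ω, Y ≤ V ∧ Nat.card Y = r) (hdis : ∀ Y ∈ Ω, ∀ Y' ∈ Ω, Y ≠ Y' → Y ⊓ Y' = ⊥)
    (hcov : ∀ z ∈ V, z ≠ 1 → ∃ Y ∈ Ω, z ∈ Y) : Ω.ncard = r + 1 := by
  classical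
  set s := (Set.toFinite Ω).toFinset with hs
  let t : Subgroup G → Finset G := fun Y => ((Set.toFinite (Y : Set G)).toFinset).erase 1
  have hu : ((Set.toFinite (V : Set G)).toFinset).erase 1 = s.biUnion t := by
    ext z
    simp only [Finset.mem_erase, Set.Finite.mem_toFinset, SetLike.mem_coe, Finset.mem_biUnion, t, hs]
    constructor
    · rintro ⟨hz1, hz⟩
      obtain ⟨Y, hY, hzY⟩ := hcov z hz hz1
      exact ⟨Y, hY, hz1, hzY⟩
    · rintro ⟨Y, hY, hz1, hzY⟩
      exact ⟨hz1, (hmem Y hY).1 hzY⟩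
  have hc : ∀ K : Subgroup G, (((Set.toFinite (K : Set G)).toFinset).erase 1).card = Nat.card K - 1 := fun K => by
    rw [Finset.card_erase_of_mem ((Set.toFinite (K : Set G)).mem_toFinset.2 (one_mem K)),
      ← Set.ncard_eq_toFinset_card _ (Set.toFinite (K : Set G))]
    rfl
  have h := congrArg Finset.card hu
  rw [Finset.card_biUnion, Finset.sum_congr rfl (g := fun _ => r - 1) (fun Y hY => by
    rw [show (t Y).card = Nat.card Y - 1 from hc Y, (hmem Y ((Set.toFinite Ω).mem_toFinset.1 hY)).2]),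
    Finset.sum_const, smul_eq_mul, hc V, hV] at h
  · rw [← Set.ncard_eq_toFinset_card Ω (Set.toFinite Ω)] at h
    have h2 := hr.two_le
    obtain ⟨p, rfl⟩ : ∃ p, r = p + 2 := ⟨r - 2, by omega⟩
    have h3 : (p + 2) ^ 2 - 1 = (p + 3) * (p + 1) := by
      have : (p + 2) ^ 2 = (p + 3) * (p + 1) + 1 := by ring
      omega
    rw [h3, show p + 2 - 1 = p + 1 by omega] at h
    exact (Nat.eq_of_mul_eq_mul_right (by omega) h).symm
  · intro Y hY Y' hY' hne
    simp only [Function.onFun, Finset.disjoint_left, t, Finset.mem_erase, Set.Finite.mem_toFinset, SetLike.mem_coe]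
    rintro z ⟨hz1, hz⟩ ⟨-, hz'⟩
    exact hz1 (Subgroup.mem_bot.1 (hdis Y ((Set.toFinite Ω).mem_toFinset.1 hY) Y'
      ((Set.toFinite Ω).mem_toFinset.1 hY') hne ▸ (⟨hz, hz'⟩ : z ∈ Y ⊓ Y')))

omit [IsSimpleGroup G] in
theorem card_sq_le {Y Y' V : Subgroup G} (hc : ∀ p ∈ V, ∀ q ∈ V, p * q = q * p) (hY : Y ≤ V) (hY' : Y' ≤ V)
    (h : Y ⊓ Y' = ⊥) : Nat.card Y * Nat.card Y' ≤ Nat.card V := by
  rw [← Nat.card_prod]
  refine Nat.card_le_card_of_injective (fun p : Y × Y' => (⟨p.1 * p.2, mul_mem (hY p.1.2) (hY' p.2.2)⟩ : V)) ?_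
  rintro ⟨p, q⟩ ⟨p', q'⟩ he
  have h1 : (p : G) * q = p' * q' := congrArg Subtype.val he
  have h2 : (p' : G)⁻¹ * p = q' * (q : G)⁻¹ := by
    rw [eq_mul_inv_iff_mul_eq, mul_assoc, h1, inv_mul_cancel_left]
  have h3 : (p' : G)⁻¹ * p ∈ Y ⊓ Y' :=
    Subgroup.mem_inf.2 ⟨mul_mem (Y.inv_mem p'.2) p.2, h2 ▸ Y'.mul_mem q'.2 (Y'.inv_mem q.2)⟩
  rw [h] at h3
  have h4 := Subgroup.mem_bot.1 h3
  rw [h4] at h2
  exact Prod.ext (Subtype.ext (inv_mul_eq_one.1 h4).symm)
    (Subtype.ext (eq_of_mul_inv_eq_one h2.symm).symm)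

namespace Loc

variable {a b c d e k r : ℕ} {A : Subgroup G} (D : Loc G a b c d e k r A)

include D

/-- Elementary abelian outer groups act with cyclic image. -/
theorem le_sup_zpowers [Fact r.Prime] {V : Subgroup G} (hVc : ∀ p ∈ V, ∀ q ∈ V, p * q = q * p)
    (hVr : ∀ v ∈ V, v ^ r = 1) (hVA : V ≤ Subgroup.normalizer (A : Set G)) {z : G} (hz : z ∈ V)
    (hzT : z ∉ Subgroup.centralizer (A : Set G)) :
    V ≤ (V ⊓ Subgroup.centralizer (A : Set G)) ⊔ Subgroup.zpowers z := by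
  intro v hv
  set T := Subgroup.centralizer (A : Set G)
  by_cases hvz : v ∈ Subgroup.zpowers z
  · exact Subgroup.mem_sup_right hvz
  set E := Subgroup.closure ({v, z} : Set G) with hE
  have hEV : E ≤ V := (Subgroup.closure_le _).2 (by
    rintro _ (rfl | rfl)
    exacts [hv, hz])
  have hvE : v ∈ E := Subgroup.subset_closure (Or.inl rfl)
  have hzE : z ∈ E := Subgroup.subset_closure (Or.inr rfl)
  -- some nontrivial element of `E` lies in `C(A)`
  obtain ⟨f, hfE, hf1, hfT⟩ : ∃ f ∈ E, f ≠ 1 ∧ f ∈ T := by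
    by_contra hno
    push Not at hno
    haveI : IsMulCommutative E := ⟨⟨fun p q => Subtype.ext (hVc _ (hEV p.2) _ (hEV q.2))⟩⟩
    have hnc : ¬ IsCyclic E := fun hcyc => by
      obtain ⟨g, hg⟩ := hcyc.exists_generator
      have hcard : Nat.card E ≤ r := by
        rw [← orderOf_eq_card_of_forall_mem_zpowers hg, ← Subgroup.orderOf_coe]
        exact Nat.le_of_dvd (Fact.out : r.Prime).pos (orderOf_dvd_of_pow_eq_one (hVr _ (hEV g.2)))
      have hzo : Nat.card (Subgroup.zpowers z) = r := by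
        rw [Nat.card_zpowers]
        exact orderOf_eq_prime (hVr z hz) fun h => hzT (h ▸ one_mem _)
      exact hvz ((Subgroup.eq_of_le_of_card_ge (Subgroup.zpowers_le.2 hzE) (hzo.symm ▸ hcard)).ge hvE)
    refine D.ne ((Cfsg.Agent.S0058.result E A hnc (hEV.trans hVA) ?_).symm.trans ?_)
    · obtain ⟨n, hn⟩ := IsPGroup.iff_card.1 (show IsPGroup r E from fun g =>
        ⟨1, Subtype.ext (by rw [SubmonoidClass.coe_pow, pow_one]; exact hVr _ (hEV g.2))⟩)
      rw [hn]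
      exact D.cop.symm.pow_left n
    · simp only [iSup_eq_bot]
      rintro f ⟨hfE, hf1⟩
      rw [Subgroup.eq_bot_iff_forall]
      rintro p ⟨hp, hpf⟩
      by_contra hp1
      exact hno f hfE hf1 ((D.cent p hp hp1).le (mem_cent.2 (mem_cent.1 hpf).symm))
  -- write it in the generators
  obtain ⟨i, l, hil⟩ : ∃ i l : ℤ, v ^ i * z ^ l = f := by
    have hcomm : Commute v z := hVc v hv z hz
    refine Subgroup.closure_induction (p := fun f _ => ∃ i l : ℤ, v ^ i * z ^ l = f) ?_ ⟨0, 0, by simp⟩ ?_ ?_ hfE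
    · rintro _ (rfl | rfl)
      exacts [⟨1, 0, by simp⟩, ⟨0, 1, by simp⟩]
    · rintro _ _ - - ⟨i, l, rfl⟩ ⟨i', l', rfl⟩
      refine ⟨i + i', l + l', ?_⟩
      rw [zpow_add, zpow_add, mul_assoc, ← mul_assoc (v ^ i'), (hcomm.zpow_zpow i' l).eq]
      group
    · rintro _ - ⟨i, l, rfl⟩
      refine ⟨-i, -l, ?_⟩
      rw [mul_inv_rev, zpow_neg, zpow_neg, ((hcomm.zpow_zpow i l).inv_inv).eq]
  set Y := V ⊓ T with hY
  have hfY : f ∈ Y ⊔ Subgroup.zpowers z := Subgroup.mem_sup_left ⟨hEV hfE, hfT⟩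
  have hvi : v ^ i ∈ Y ⊔ Subgroup.zpowers z := by
    rw [eq_mul_inv_of_mul_eq hil]
    exact mul_mem hfY (inv_mem (Subgroup.mem_sup_right (Subgroup.zpow_mem_zpowers z l)))
  have hri : ¬ (r : ℤ) ∣ i := by
    rintro ⟨i', rfl⟩
    rw [zpow_mul, zpow_natCast, hVr v hv, one_zpow, one_mul] at hil
    have hl : ¬ (r : ℤ) ∣ l := by
      rintro ⟨l', rfl⟩
      rw [zpow_mul, zpow_natCast, hVr z hz, one_zpow] at hil
      exact hf1 hil.symm
    obtain ⟨p, q, hpq⟩ := (Nat.prime_iff_prime_int.1 (Fact.out : r.Prime)).coprime_iff_not_dvd.2 hl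
    refine hzT ?_
    have : z = (z ^ l) ^ q := by
      calc z = z ^ (p * r + q * l) := by rw [hpq, zpow_one]
        _ = (z ^ l) ^ q := by
          rw [zpow_add, mul_comm p, zpow_mul, zpow_natCast, hVr z hz, one_zpow, one_mul, mul_comm q, zpow_mul]
    rw [this, hil]
    exact zpow_mem hfT q
  obtain ⟨p, q, hpq⟩ := (Nat.prime_iff_prime_int.1 (Fact.out : r.Prime)).coprime_iff_not_dvd.2 hri
  have : v = (v ^ i) ^ q := by
    calc v = v ^ (p * r + q * i) := by rw [hpq, zpow_one]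
      _ = (v ^ i) ^ q := by
        rw [zpow_add, mul_comm p, zpow_mul, zpow_natCast, hVr v hv, one_zpow, one_mul, mul_comm q, zpow_mul]
  rw [this]
  exact zpow_mem hvi q

/-- The local case is impossible. -/
theorem false' : False := by
  classical
  haveI := Fact.mk D.hr
  set T := Subgroup.centralizer (A : Set G) with hT
  set L := Subgroup.normalizer (A : Set G) with hL
  obtain ⟨x, j, hxo, hxN, hxT⟩ := D.exists_x
  obtain ⟨w, hwo, hwT, hxw⟩ := D.exists_w hxo hxN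
  have hw1 : w ≠ 1 := fun h => D.hr.ne_one (by rw [← hwo, h, orderOf_one])
  have hwo' : orderOf w = r ^ 1 := by rw [hwo, pow_one]
  have hw := D.size_b hw1 hwo' hwT hxw hxT
  set R := Subgroup.centralizer ({w} : Set G) with hR
  have hRL : R ≤ L := D.cent_le_norm hw1 hwo' hwT hxo hxw hxN hxT
  have hRa : Nat.card R = a := D.S.T.card_B hw
  have hAR : A ≤ R := (D.le_cent hwT).1
  have hTR : T ≤ R := (D.le_cent hwT).2
  have hxR : x ∈ R := mem_cent.2 hxw
  obtain ⟨P, hP, hPT, hPall⟩ := D.exists_rpart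
  have hRP : R ≤ Subgroup.normalizer (P : Set G) := by
    have key : ∀ g ∈ L, ∀ p ∈ P, g * p * g⁻¹ ∈ P := fun g hg p hp => by
      obtain ⟨n, hn⟩ := IsPGroup.iff_orderOf.1 hP ⟨p, hp⟩
      rw [Subgroup.orderOf_mk] at hn
      exact hPall _ (D.conj_T hg (hPT hp)) n (by rw [orderOf_conj', hn])
    refine fun g hg => Subgroup.mem_normalizer_iff.2 fun p => ⟨key g (hRL hg) p, fun hp => ?_⟩
    have := key g⁻¹ (inv_mem (hRL hg)) _ hp
    simpa [mul_assoc] using this
  obtain ⟨P'⟩ : Nonempty (Sylow r R) := inferInstance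
  obtain ⟨Q, hQ⟩ := sylow_of_sub (D.not_dvd_index hRa) P'
  have hQR : (Q : Subgroup G) ≤ R := hQ ▸ Subgroup.map_subtype_le _
  have hPR : P ≤ R := hPT.trans hTR
  haveI : (P.subgroupOf R).Normal := (Subgroup.normal_subgroupOf_iff_le_normalizer hPR).2 hRP
  haveI : (P.comap R.subtype).Normal := ‹(P.subgroupOf R).Normal›
  have hPQ : P ≤ (Q : Subgroup G) := fun p hp => hQ ▸ ⟨⟨p, hPR hp⟩,
    IsPGroup.le_sylow_of_normal (hP.comap_subtype : IsPGroup r (P.subgroupOf R)) P' hp, rfl⟩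
  have hwQ : w ∈ (Q : Subgroup G) := hPQ (hPall w hwT 1 hwo')
  obtain ⟨hwZ, hModd, hQM, hQM', hfus⟩ := D.zj_control Q ((Subgroup.card_dvd_of_le hQR).trans hRa.dvd) hwQ
    (fun q hq => mem_cent.1 (hQR hq)) hw
  set Z := Cfsg.centerThompsonAOf (Q : Subgroup G) with hZ
  set M := Subgroup.normalizer (Z : Set G) with hM
  have hZQ : Z ≤ (Q : Subgroup G) := Invol.RealFree.centerThompsonA_le _
  have hZc := Invol.RealFree.centerThompsonA_comm (Q : Subgroup G)
  -- no normalisation of `A`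
  have hnot : ¬ M ≤ L := by
    intro hle
    haveI := D.S.solvable_of_odd D.odd_L
    refine D.false_of_derived hRa ?_ D.ne Subgroup.le_normalizer le_rfl D.dvd_A hAR hxo hxR hxT
    exact D.sup_eq hRa hAR Q hQR ▸ sup_le (D.le_derived Subgroup.le_normalizer hxN hxN hxT)
      (hQM'.trans (Subgroup.commutator_mono hle hle))
  refine hnot fun n hn => ?_
  obtain ⟨α, hα, hα1⟩ := D.exists_alpha
  -- elements in a centraliser normalising `A`
  have hcase : ∀ v v' : G, n * v * n⁻¹ = v' → v ∈ T → Subgroup.centralizer ({v'} : Set G) ≤ L → n ∈ L := by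
    intro v v' hv hvT hv'
    refine D.norm_of_conj hα hα1 (D.mem_A (hv' ?_) ?_ ?_)
    · rw [← hv]
      exact mem_cent.2 ((D.comm α (D.le hα) v hvT).map (MulAut.conj n).toMonoidHom)
    · rw [orderOf_conj']
      exact (A.orderOf_dvd_natCard hα).trans D.dvd_A
    · rw [orderOf_conj']
      exact coprime_of_mem D.cop hα
  let V : Subgroup G :=
    { carrier := {g | g ∈ Z ∧ g ^ r = 1}
      mul_mem' := fun {p q} hp hq => ⟨mul_mem hp.1 hq.1, by
        rw [(show Commute p q from hZc p hp.1 q hq.1).mul_pow, hp.2, hq.2, one_mul]⟩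
      one_mem' := ⟨one_mem _, one_pow r⟩
      inv_mem' := fun {p} hp => ⟨inv_mem hp.1, by rw [inv_pow, hp.2, inv_one]⟩ }
  have hVn : ∀ m ∈ M, ∀ v ∈ V, m * v * m⁻¹ ∈ V := fun m hm v hv =>
    ⟨(Subgroup.mem_normalizer_iff.1 hm v).1 hv.1, by rw [conj_pow, hv.2, mul_one, mul_inv_cancel]⟩
  have hVc : ∀ p ∈ V, ∀ q ∈ V, p * q = q * p := fun p hp q hq => hZc p hp.1 q hq.1
  have hwV : w ∈ V := ⟨hwZ, by rw [← hwo, pow_orderOf_eq_one]⟩
  by_cases hVT : V ≤ T
  · exact hcase (n⁻¹ * w * n) w (by group) (hVT (by simpa using hVn n⁻¹ (inv_mem hn) w hwV)) hRL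
  obtain ⟨z, hzV, hzT⟩ := SetLike.not_le_iff_exists.1 hVT
  have hVR : V ≤ R := fun v hv => hQR (hZQ hv.1)
  have hzo : orderOf z = r ^ 1 := by
    rw [pow_one]; exact orderOf_eq_prime hzV.2 fun h => hzT (h ▸ one_mem _)
  set Y := V ⊓ T with hY
  have hwY : w ∈ Y := ⟨hwV, hwT⟩
  have hYC : ∀ v ∈ Y, v ≠ 1 → Subgroup.centralizer ({v} : Set G) ≤ L := fun v hv hv1 =>
    D.cent_le_norm hv1 (i := 1) (by rw [pow_one]; exact orderOf_eq_prime hv.1.2 hv1) hv.2 hzo
      (hVc z hzV v hv.1) (hRL (hVR hzV)) hzT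
  by_contra hnL
  -- two conjugates of `Y` meet trivially
  set Y' := Y.map (MulAut.conj n).toMonoidHom with hY'
  have hmeet : Y ⊓ Y' = ⊥ := by
    rw [Subgroup.eq_bot_iff_forall]
    rintro v' ⟨hv', v, hv, rfl⟩
    by_contra hv1
    exact hnL (hcase v _ rfl hv.2 (hYC _ hv' hv1))
  have hY'V : Y' ≤ V := by
    rintro _ ⟨v, hv, rfl⟩
    exact hVn n hn v hv.1
  have hsq : Nat.card Y * Nat.card Y ≤ Nat.card V := by
    have := card_sq_le hVc inf_le_left hY'V hmeet
    rwa [hY', Subgroup.card_map_of_injective (MulAut.conj n).injective] at this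
  have hup : Nat.card V ≤ Nat.card Y * r := by
    have hle := D.le_sup_zpowers hVc (fun v hv => hv.2) (hVR.trans hRL) hzV hzT
    refine (Nat.le_of_dvd Nat.card_pos (Subgroup.card_dvd_of_le hle)).trans ?_
    refine Nat.le_of_dvd (Nat.mul_pos Nat.card_pos D.hr.pos) ?_
    have hzn : Subgroup.zpowers z ≤ Subgroup.normalizer (Y : Set G) := by
      refine le_trans ?_ (Subgroup.centralizer_le_normalizer _)
      rw [Subgroup.zpowers_le]
      exact Subgroup.mem_centralizer_iff.2 fun p hp => hVc p hp.1 z hzV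
    have h := Grp.card_sup_dvd_mul (H := Subgroup.zpowers z) (N := Y) hzn
    rw [sup_comm, Nat.card_zpowers, hzo, pow_one, mul_comm] at h
    exact h
  have hwle : Subgroup.zpowers w ≤ Y := Subgroup.zpowers_le.2 hwY
  have hYge : r ≤ Nat.card Y := by
    rw [← hwo, ← Nat.card_zpowers]; exact Subgroup.card_le_of_le hwle
  have hYr : Nat.card Y = r := le_antisymm
    (Nat.le_of_mul_le_mul_left (hsq.trans hup) Nat.card_pos) hYge
  have hYw : Subgroup.zpowers w = Y := Subgroup.eq_of_le_of_card_ge hwle (by rw [hYr, Nat.card_zpowers, hwo])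
  have hV2 : Nat.card V = r ^ 2 := by
    rw [pow_two]
    rw [hYr] at hsq hup
    exact le_antisymm hup hsq
  -- the orbit of `Y`
  letI : MulAction M (Subgroup G) := MulAction.compHom _ ((MulAut.conj (G := G)).comp M.subtype)
  have hsmul : ∀ (m : M) (K : Subgroup G), m • K = K.map (MulAut.conj (m : G)).toMonoidHom := fun m K => rfl
  set Ω := MulAction.orbit M Y with hΩ
  have hΩV : ∀ K ∈ Ω, K ≤ V ∧ Nat.card K = r := by
    rintro _ ⟨m, rfl⟩
    show m • Y ≤ V ∧ _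
    rw [hsmul]
    refine ⟨?_, (Subgroup.card_map_of_injective (MulAut.conj (m : G)).injective).trans hYr⟩
    rintro _ ⟨v, hv, rfl⟩
    exact hVn m m.2 v hv.1
  have hΩcard : Ω.ncard = r + 1 := by
    refine card_cover D.hr hV2 Ω hΩV (fun K hK K' hK' hne => ?_) fun u hu hu1 => ?_
    · by_contra hmeet'
      refine hne (Subgroup.eq_of_le_of_card_ge ?_ ((hΩV K' hK').2.trans (hΩV K hK).2.symm).le)
      have hd := Subgroup.card_dvd_of_le (inf_le_left : K ⊓ K' ≤ K)
      rw [(hΩV K hK).2] at hd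
      rcases (Nat.dvd_prime D.hr).1 hd with h | h
      · exact absurd (Subgroup.eq_bot_of_card_eq _ h) hmeet'
      · exact (Subgroup.eq_of_le_of_card_ge (inf_le_left : K ⊓ K' ≤ K)
          (by rw [(hΩV K hK).2, h])).ge.trans inf_le_right
    · -- every element is conjugate into `Y`
      have huo : orderOf u = r ^ 1 := by rw [pow_one]; exact orderOf_eq_prime hu.2 hu1
      obtain ⟨g, hg⟩ := D.conj_to_T hu1 huo
      obtain ⟨m, hm, hm'⟩ := hfus u (hZQ hu.1) g (hPQ (hPall _ hg 1 (by rw [orderOf_conj', huo])))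
      refine ⟨(⟨m⁻¹, inv_mem hm⟩ : M) • Y, ⟨_, rfl⟩, ?_⟩
      rw [hsmul]
      refine ⟨m * u * m⁻¹, ⟨hVn m hm u hu, hm' ▸ hg⟩, ?_⟩
      show m⁻¹ * (m * u * m⁻¹) * m⁻¹⁻¹ = u
      group
  have h2 : 2 ∣ r + 1 := by
    obtain ⟨p, hp⟩ := D.hr.odd_of_ne_two D.r_ne_two
    exact ⟨p + 1, by omega⟩
  refine hModd (h2.trans ?_)
  rw [← hΩcard, hΩ, ← MulAction.index_stabilizer]
  exact Subgroup.index_dvd_card _

end Loc

end Cfsg.Agent.Transfer.ConjRankFive
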