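import Cfsg.Agent.Lib.Transfer.ConjRankFive.LocFusion
import Cfsg.Agent.Lib.Grp.Frattini
import Cfsg.Agent.S0028
import Cfsg.Agent.S0044
import Cfsg.Agent.S0058

/-!
No abelian subgroup with these properties exists.
-/

set_option autoImplicit false
set_option linter.style.haveILetI false
set_option linter.unusedSectionVars false
set_option maxHeartbeats 1000000

open scoped commutatorElement Pointwise

universe u

namespace Cfsg.Agent.Transfer.ConjRankFive

open Cfsg Cfsg.Agent Cfsg.Agent.Transfer.ClassDisconnected Cfsg.Agent.Transfer.ConjRankThree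
  Cfsg.Agent.Transfer.ConjRankFour Cfsg.Agent.Grp.Graph Cfsg.Agent.Grp.GK

variable {G : Type u} [Group G] [Finite G] [IsSimpleGroup G]

omit [IsSimpleGroup G] in
theorem orderOf_conj' (g z : G) : orderOf (g * z * g⁻¹) = orderOf z := by
  rw [← MulAut.conj_apply, MulEquiv.orderOf_eq]

namespace Loc

variable {a b c d e k r : ℕ} {A : Subgroup G} (D : Loc G a b c d e k r A)

include D

/-- The elements of `r`-power order of `C(A)`. -/
theorem exists_rpart [Fact r.Prime] : ∃ P : Subgroup G, IsPGroup r P ∧ P ≤ Subgroup.centralizer (A : Set G) ∧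
    ∀ t ∈ Subgroup.centralizer (A : Set G), ∀ i, orderOf t = r ^ i → t ∈ P := by
  set T := Subgroup.centralizer (A : Set G) with hT
  obtain ⟨P⟩ : Nonempty (Sylow r T) := inferInstance
  haveI : (P : Subgroup T).Normal := ⟨fun n hn g => by
    have : Commute g n := Subtype.ext (D.comm g g.2 n n.2).eq
    rwa [this.eq, mul_inv_cancel_right]⟩
  refine ⟨(P : Subgroup T).map T.subtype, P.isPGroup'.map _, Subgroup.map_subtype_le _, fun t ht i hi => ?_⟩
  have hz : IsPGroup r (Subgroup.zpowers (⟨t, ht⟩ : T)) :=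
    IsPGroup.of_card (n := i) (by rw [Nat.card_zpowers, Subgroup.orderOf_mk, hi])
  haveI : (Subgroup.zpowers (⟨t, ht⟩ : T)).Normal := ⟨fun n hn g => by
    have : Commute g n := Subtype.ext (D.comm g g.2 n n.2).eq
    rwa [this.eq, mul_inv_cancel_right]⟩
  exact ⟨⟨t, ht⟩, hz.le_sylow_of_normal P (Subgroup.mem_zpowers _), rfl⟩

theorem conj_T {g : G} (hg : g ∈ Subgroup.normalizer (A : Set G)) {z : G}
    (hz : z ∈ Subgroup.centralizer (A : Set G)) : g * z * g⁻¹ ∈ Subgroup.centralizer (A : Set G) := by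
  refine Subgroup.mem_centralizer_iff.2 fun p hp => ?_
  have h1 : g⁻¹ * p * g ∈ A := by
    have := (Subgroup.mem_normalizer_iff.1 (inv_mem hg) p).1 hp
    rwa [inv_inv] at this
  have h2 := congrArg (fun w => g * w * g⁻¹) (Subgroup.mem_centralizer_iff.1 hz _ h1)
  simpa [mul_assoc] using h2

/-- An element of order a prime of `|A|` is conjugate into `A`. -/
theorem conj_into {β : G} {s : ℕ} (hs : s.Prime) (hsA : s ∣ Nat.card A) (hβ : orderOf β = s) :
    ∃ g : G, g * β * g⁻¹ ∈ A := by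
  haveI := Fact.mk hs
  obtain ⟨g, -, hg⟩ := WielandtDPi.exists_conj_le (C := (⊤ : Subgroup G)) (H := A) (A := Subgroup.zpowers β) le_top
    le_top (IsPGroup.of_card (n := 1) (by rw [Nat.card_zpowers, hβ, pow_one])) (by
      rw [Subgroup.relIndex_top_right]
      intro h
      obtain ⟨j, hj⟩ := D.full
      have h1 := A.card_mul_index
      rw [D.S.T.card_eq, hj, mul_assoc] at h1
      rw [Nat.eq_of_mul_eq_mul_left Nat.card_pos h1] at h
      rcases hs.dvd_mul.1 h with h2 | h2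
      · exact hs.ne_one (Nat.eq_one_of_dvd_coprimes D.cop hsA (hs.dvd_of_dvd_pow h2))
      · exact D.S.coprime_b hs (hsA.trans D.dvd_A) h2)
  exact ⟨g, hg β (Subgroup.mem_zpowers β)⟩

/-- Every nontrivial `r`-element commutes with a conjugate of `A`. -/
theorem conj_to_T {v : G} (hv1 : v ≠ 1) {i : ℕ} (hvo : orderOf v = r ^ i) :
    ∃ g : G, g * v * g⁻¹ ∈ Subgroup.centralizer (A : Set G) := by
  obtain ⟨α, hα, hα1⟩ := D.exists_alpha
  obtain ⟨s, hs, hsα⟩ := Nat.exists_prime_and_dvd (fun h => hα1 (orderOf_eq_one_iff.1 h) : orderOf α ≠ 1)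
  have hsA : s ∣ Nat.card A := hsα.trans (A.orderOf_dvd_natCard hα)
  haveI := Fact.mk hs
  have hi : i ≠ 0 := fun h => hv1 (orderOf_eq_one_iff.1 (by rw [hvo, h, pow_zero]))
  have hb : b ∣ cix v := (D.S.T.b_side hv1 fun h => D.hr.ne_one
    (Nat.eq_one_of_dvd_coprimes h (hvo ▸ dvd_pow_self r hi) D.r_dvd_a)).1
  have hsC : s ∣ Nat.card (Subgroup.centralizer ({v} : Set G)) := by
    have h := card_mul_cix v
    rw [D.S.T.card_eq] at h
    have hsab : s ∣ Nat.card (Subgroup.centralizer ({v} : Set G)) * cix v :=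
      h ▸ (hsA.trans D.dvd_A).mul_right b
    rcases hs.dvd_mul.1 hsab with h1 | h1
    · exact h1
    exfalso
    rcases D.S.sizes_b hv1 hb with hv | hv <;> rw [hv] at h1
    · exact D.S.coprime_b hs (hsA.trans D.dvd_A) h1
    · rw [D.hk] at h1
      obtain ⟨m, hm⟩ := D.hkr
      rcases hs.dvd_mul.1 h1 with h2 | h2
      · exact D.S.coprime_b hs (hsA.trans D.dvd_A) h2
      · exact hs.ne_one (Nat.eq_one_of_dvd_coprimes D.cop hsA (hs.dvd_of_dvd_pow (hm ▸ h2)))
  obtain ⟨β₀, hβ₀⟩ := exists_prime_orderOf_dvd_card' (G := Subgroup.centralizer ({v} : Set G)) s hsC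
  rw [← Subgroup.orderOf_coe] at hβ₀
  obtain ⟨g, hg⟩ := D.conj_into hs hsA hβ₀
  refine ⟨g, ?_⟩
  rw [← D.cent _ hg fun h => hs.ne_one (by rw [← hβ₀, conj_eq_one_iff.1 h, orderOf_one])]
  exact mem_cent.2 ((mem_cent.1 β₀.2).symm.map (MulAut.conj g).toMonoidHom)

/-- An `r`-element normalising `A` outside `C(A)`. -/
theorem exists_x : ∃ (x : G) (j : ℕ), orderOf x = r ^ j ∧ x ∈ Subgroup.normalizer (A : Set G) ∧
    x ∉ Subgroup.centralizer (A : Set G) := by
  haveI := Fact.mk D.hr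
  set T := Subgroup.centralizer (A : Set G) with hT
  set L := Subgroup.normalizer (A : Set G) with hL
  by_contra hc
  push Not at hc
  -- the `π(a)`-elements of `N(A)` lie in `C(A)`
  have hπ : ∀ g ∈ L, orderOf g ∣ a → g ∈ T := by
    intro g hg hga
    refine mem_of_primary T fun j q i hq hjq => ?_
    by_cases hqr : q = r
    · exact hc _ i (hqr ▸ hjq) (pow_mem hg j)
    · refine D.le (D.mem_A (pow_mem hg j) ((orderOf_pow_dvd j).trans hga) ?_)
      rw [hjq]
      exact ((Nat.coprime_primes hq D.hr).2 hqr).pow_left i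
  -- a nontrivial action
  obtain ⟨g₀, hg₀, hg₀T⟩ : ∃ g₀ ∈ L, g₀ ∉ T := by
    by_contra hle
    push Not at hle
    obtain ⟨α, hα, hα1⟩ := D.exists_alpha
    obtain ⟨s, hs, hsα⟩ := Nat.exists_prime_and_dvd (fun h => hα1 (orderOf_eq_one_iff.1 h) : orderOf α ≠ 1)
    haveI := Fact.mk hs
    obtain ⟨P⟩ : Nonempty (Sylow s A) := inferInstance
    have hsA : s ∣ Nat.card A := hsα.trans (A.orderOf_dvd_natCard hα)
    have hidx : ¬ s ∣ A.index := by
      intro h
      obtain ⟨j, hj⟩ := D.full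
      have h1 := A.card_mul_index
      rw [D.S.T.card_eq, hj, mul_assoc] at h1
      rw [Nat.eq_of_mul_eq_mul_left Nat.card_pos h1] at h
      rcases hs.dvd_mul.1 h with h2 | h2
      · exact hs.ne_one (Nat.eq_one_of_dvd_coprimes D.cop hsA (hs.dvd_of_dvd_pow h2))
      · exact D.S.coprime_b hs (hsA.trans D.dvd_A) h2
    obtain ⟨S, hS⟩ := sylow_of_sub hidx P
    have hSA : (S : Subgroup G) ≤ A := hS ▸ Subgroup.map_subtype_le _
    obtain ⟨β, hβ, hβ1⟩ := (S : Subgroup G).bot_or_exists_ne_one.resolve_left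
      (S.ne_bot_of_dvd_card (hsA.trans A.card_subgroup_dvd_card))
    have hab := (Transfer.abelian_sylow_inf_commutator S ⟨⟨fun p q =>
      Subtype.ext (D.comm_A (hSA p.2) (hSA q.2)).eq⟩⟩).1
    rw [perfect_of_simple D.S.T.hna, top_inf_eq] at hab
    have hbot : ⁅(S : Subgroup G), Subgroup.normalizer ((S : Subgroup G) : Set G)⁆ = ⊥ := by
      rw [eq_bot_iff, Subgroup.commutator_le]
      intro p hp n hn
      have hnT : n ∈ T := hle n (D.norm_of_conj (hSA hβ) hβ1 (hSA ((Subgroup.mem_normalizer_iff.1 hn β).1 hβ)))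
      exact Subgroup.mem_bot.2 (commutatorElement_eq_one_iff_mul_comm.2 (D.comm p (D.le (hSA hp)) n hnT).eq)
    exact hβ1 (Subgroup.mem_bot.1 (hbot ▸ hab hβ))
  -- an element of prime order outside `π(a)`
  obtain ⟨ω, l, hl, hla, hω, hωL⟩ : ∃ (ω : G) (l : ℕ), l.Prime ∧ ¬ l ∣ a ∧ orderOf ω = l ∧ ω ∈ L := by
    by_contra hno
    push Not at hno
    refine hg₀T (mem_of_primary T fun j q i hq hjq => hπ _ (pow_mem hg₀ j) ?_)
    by_cases hqa : q ∣ a
    · rw [hjq]
      refine Nat.Coprime.dvd_of_dvd_mul_right ?_ (D.S.T.card_eq ▸ hjq ▸ orderOf_dvd_natCard (g₀ ^ j))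
      exact Nat.Coprime.pow_left i ((hq.coprime_iff_not_dvd).2 (D.S.coprime_b hq hqa))
    · by_cases hi : i = 0
      · rw [hjq, hi, pow_zero]; exact one_dvd a
      obtain ⟨ω, hω, hωz, -⟩ := exists_root hq (w := g₀ ^ j)
        (fun h => hi (by rw [h, orderOf_one] at hjq; exact (Nat.pow_eq_one.1 hjq.symm).resolve_left hq.ne_one)) hjq
      exact absurd ((Subgroup.zpowers_le.2 (pow_mem hg₀ j)) hωz) (hno ω q hq hqa hω)
  obtain ⟨P, hP, hPT, hPall⟩ := D.exists_rpart
  obtain ⟨y, hyT, ⟨i, hyo⟩, hy⟩ := D.exY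
  set CP := Subgroup.centralizer (P : Set G) with hCP
  have hCPR : CP ≤ Subgroup.centralizer ({y} : Set G) := fun g hg =>
    mem_cent.2 (Subgroup.mem_centralizer_iff.1 hg y (hPall y hyT i hyo)).symm
  have hωP : ∀ p ∈ P, ω * p * ω⁻¹ ∈ P ∧ ω⁻¹ * p * ω ∈ P := fun p hp => by
    obtain ⟨n, hn⟩ := IsPGroup.iff_orderOf.1 hP ⟨p, hp⟩
    rw [Subgroup.orderOf_mk] at hn
    refine ⟨hPall _ (D.conj_T hωL (hPT hp)) n (by rw [orderOf_conj', hn]), hPall _ ?_ n ?_⟩
    · simpa using D.conj_T (inv_mem hωL) (hPT hp)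
    · rw [show ω⁻¹ * p * ω = ω⁻¹ * p * ω⁻¹⁻¹ by rw [inv_inv], orderOf_conj', hn]
  have hωCP : ω ∈ Subgroup.normalizer (CP : Set G) := by
    have hnorm : ω ∈ Subgroup.normalizer (P : Set G) := Subgroup.mem_normalizer_iff.2 fun p =>
      ⟨fun hp => (hωP p hp).1, fun hp => by simpa [mul_assoc] using (hωP _ hp).2⟩
    refine Subgroup.mem_normalizer_iff.2 fun z => ⟨fun hz => ?_, fun hz => ?_⟩
    · refine Subgroup.mem_centralizer_iff.2 fun p hp => ?_
      have h1 := Subgroup.mem_centralizer_iff.1 hz (ω⁻¹ * p * ω) (hωP p hp).2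
      have h2 := congrArg (fun w => ω * w * ω⁻¹) h1
      simpa [mul_assoc] using h2
    · refine Subgroup.mem_centralizer_iff.2 fun p hp => ?_
      have h1 := Subgroup.mem_centralizer_iff.1 hz (ω * p * ω⁻¹) (hωP p hp).1
      have h2 := congrArg (fun w => ω⁻¹ * w * ω) h1
      simpa [mul_assoc] using h2
  have hnil : Group.IsNilpotent CP := nilpotent_of_fpf D.S.noMix
    (Split.piSub_of_dvd D.S ((Subgroup.card_dvd_of_le hCPR).trans (D.S.T.card_B hy).dvd)) hl hla hω hωCP
  set R := Subgroup.centralizer ({y} : Set G) with hR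
  have hRa : Nat.card R = a := D.S.T.card_B hy
  haveI := D.S.solvable_of_odd (K := R) (hRa.symm ▸ D.odd)
  have hAR : A ≤ R := (D.le_cent hyT).1
  have hTR : T ≤ R := (D.le_cent hyT).2
  have hACP : A ≤ CP := fun p hp => Subgroup.mem_centralizer_iff.2 fun q hq =>
    (D.comm q (hPT hq) p (D.le hp)).eq
  -- `A` centralises the `r`-core
  set U := (Cfsg.pCore r R).map R.subtype with hU
  haveI : (Cfsg.pCore r R).Normal := Grp.pCore_isNormal
  have hRU : R ≤ Subgroup.normalizer (U : Set G) := le_normalizer_map_subtype _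
  have hAU : A ≤ Subgroup.centralizer (U : Set G) := by
    refine Cfsg.Agent.S0028.result r P A U hP D.cop (Grp.pCore_isPGroup.map _) ?_
      ((hPT.trans hTR).trans hRU) (hAR.trans hRU) ?_
    · exact fun p hp => Subgroup.mem_centralizer_iff.2 fun q hq => (D.comm q (D.le hq) p (hPT hp)).eq
    · intro u hu
      obtain ⟨n, hn⟩ := IsPGroup.iff_orderOf.1 ((Grp.pCore_isPGroup (G := R) (p := r)).map R.subtype) ⟨u, hu.1⟩
      rw [Subgroup.orderOf_mk] at hn
      have huT : u ∈ T := D.not_nilpotent_pair hnil hACP hn hu.2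
      exact Subgroup.mem_centralizer_iff.2 fun p hp => (D.comm p (D.le hp) u huT).eq
  -- so `A` centralises the Fitting subgroup
  set F := Cfsg.fittingSubgroup R with hF
  haveI : F.Normal := Grp.fittingSubgroup_isNormal
  have hAF : ∀ p : R, (p : G) ∈ A → p ∈ Subgroup.centralizer (F : Set R) := by
    intro p hp
    have hall : F ≤ Subgroup.centralizer ({p} : Set R) := by
      rw [hF, Grp.fittingSubgroup_eq_iSup_pCore]
      refine iSup_le fun l => ?_
      intro f hf
      refine mem_cent.2 (Subtype.ext ?_)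
      haveI := Fact.mk l.2
      by_cases hlr : (l : ℕ) = r
      · exact Subgroup.mem_centralizer_iff.1 (hAU hp) (f : G) ⟨f, hlr ▸ hf, rfl⟩
      · haveI : (Cfsg.pCore (l : ℕ) R).Normal := Grp.pCore_isNormal
        obtain ⟨n, hn⟩ := IsPGroup.iff_orderOf.1 (Grp.pCore_isPGroup (G := R) (p := (l : ℕ))) ⟨f, hf⟩
        rw [Subgroup.orderOf_mk, ← Subgroup.orderOf_coe] at hn
        set K := (Cfsg.pCore (l : ℕ) R).map R.subtype with hKdef
        have hd : Nat.card (A ⊔ K : Subgroup G) ∣ Nat.card A * Nat.card K :=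
          Grp.card_sup_dvd_mul (hAR.trans (le_normalizer_map_subtype _))
        obtain ⟨m, hm⟩ := D.full
        have hKr : (Nat.card K).Coprime r := by
          obtain ⟨n', hn'⟩ := IsPGroup.iff_card.1 ((Grp.pCore_isPGroup (G := R) (p := (l : ℕ))).map R.subtype)
          rw [hKdef, hn']
          exact ((Nat.coprime_primes l.2 D.hr).2 hlr).pow_left n'
        have h1 : Nat.card (A ⊔ K : Subgroup G) ∣ Nat.card A := by
          refine ((Nat.Coprime.coprime_dvd_left hd (D.cop.mul_left hKr)).pow_right m).dvd_of_dvd_mul_right ?_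
          rw [← hm, ← hRa]
          exact Subgroup.card_dvd_of_le (sup_le hAR (Subgroup.map_subtype_le _))
        have hfA : (f : G) ∈ A := by
          rw [Subgroup.eq_of_le_of_card_ge (le_sup_left : A ≤ A ⊔ K) (Nat.le_of_dvd Nat.card_pos h1)]
          exact Subgroup.mem_sup_right ⟨f, hf, rfl⟩
        exact (D.comm_A hfA hp).eq
    exact Subgroup.mem_centralizer_iff.2 fun f hf => (mem_cent.1 (hall hf)).eq
  obtain ⟨α, hα, hα1⟩ := D.exists_alpha
  have hRL : R ≤ L := by
    intro g hg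
    refine D.norm_of_conj hα hα1 (D.mem_A (D.T_le_norm (Subgroup.mem_centralizer_iff.2 fun p hp => ?_)) ?_ ?_)
    · set α' : R := ⟨g, hg⟩ * ⟨α, hAR hα⟩ * ⟨g, hg⟩⁻¹ with hα'
      have h1 : (⟨p, hAR hp⟩ : R) ∈ Subgroup.centralizer (F : Set R) := hAF _ hp
      have h2 : α' ∈ Subgroup.centralizer (F : Set R) :=
        (inferInstance : (Subgroup.centralizer (F : Set R)).Normal).conj_mem _ (hAF _ hα) _
      have h3 : α' ∈ F := Cfsg.Agent.S0044.result (G := R) h2
      exact congrArg Subtype.val (Subgroup.mem_centralizer_iff.1 h1 _ h3).symm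
    · rw [orderOf_conj']
      exact (A.orderOf_dvd_natCard hα).trans D.dvd_A
    · rw [orderOf_conj']
      exact coprime_of_mem D.cop hα
  have hle : R ≤ T := fun g hg => hπ g (hRL hg) ((R.orderOf_dvd_natCard hg).trans hRa.dvd)
  have h1 := (Subgroup.eq_of_le_of_card_ge hTR (Subgroup.card_le_of_le hle))
  have h2 := D.cardT
  rw [show Nat.card (Subgroup.centralizer (A : Set G)) = a from (congrArg (fun K : Subgroup G => Nat.card K) h1).trans hRa] at h2
  have := D.hk1
  have := D.S.T.ha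
  nlinarith

/-- An element of order `r` of `C(A)` commuting with an outer `r`-element. -/
theorem exists_w [Fact r.Prime] {x : G} {j : ℕ} (hxo : orderOf x = r ^ j)
    (hxN : x ∈ Subgroup.normalizer (A : Set G)) :
    ∃ w : G, orderOf w = r ∧ w ∈ Subgroup.centralizer (A : Set G) ∧ Commute x w := by
  obtain ⟨P, hP, hPT, hPall⟩ := D.exists_rpart
  obtain ⟨y, hyT, ⟨i, hyo⟩, hy⟩ := D.exY
  have hy1 : y ≠ 1 := D.S.T.swap.ne_one_a hy
  have hxP : Subgroup.zpowers x ≤ Subgroup.normalizer (P : Set G) := by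
    have key : ∀ g ∈ Subgroup.normalizer (A : Set G), ∀ p ∈ P, g * p * g⁻¹ ∈ P := fun g hg p hp => by
      obtain ⟨n, hn⟩ := IsPGroup.iff_orderOf.1 hP ⟨p, hp⟩
      rw [Subgroup.orderOf_mk] at hn
      exact hPall _ (D.conj_T hg (hPT hp)) n (by rw [orderOf_conj', hn])
    refine Subgroup.zpowers_le.2 (Subgroup.mem_normalizer_iff.2 fun p => ⟨key x hxN p, fun hp => ?_⟩)
    have := key x⁻¹ (inv_mem hxN) _ hp
    simpa [mul_assoc] using this
  have hB : IsPGroup r ↥(Subgroup.zpowers x ⊔ P) := (IsPGroup.of_card (n := j)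
    (by rw [Nat.card_zpowers, hxo])).to_sup_of_normal_right' hP hxP
  set B := Subgroup.zpowers x ⊔ P with hBdef
  haveI : Group.IsNilpotent B := hB.isNilpotent
  haveI : (P.subgroupOf B).Normal := (Subgroup.normal_subgroupOf_iff_le_normalizer le_sup_right).2
    (sup_le hxP Subgroup.le_normalizer)
  have hne : P.subgroupOf B ≠ ⊥ := by
    intro h
    rw [Subgroup.subgroupOf_eq_bot, disjoint_iff, inf_eq_left.2 le_sup_right] at h
    exact hy1 (Subgroup.mem_bot.1 (h ▸ hPall y hyT i hyo))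
  obtain ⟨v, hv, hv1⟩ := (P.subgroupOf B ⊓ Subgroup.center B).bot_or_exists_ne_one.resolve_left
    (Grp.inf_center_ne_bot _ hne)
  obtain ⟨n, hn⟩ := IsPGroup.iff_orderOf.1 hB v
  rw [← Subgroup.orderOf_coe] at hn
  obtain ⟨w, hwo, hwz, -⟩ := exists_root D.hr (w := (v : G)) (fun h => hv1 (Subtype.ext h)) hn
  refine ⟨w, hwo, hPT (Subgroup.zpowers_le.2 (Subgroup.mem_subgroupOf.1 hv.1 : (v : G) ∈ P) hwz), ?_⟩
  have hxB : x ∈ B := Subgroup.mem_sup_left (Subgroup.mem_zpowers x)
  obtain ⟨l, rfl⟩ := hwz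
  exact (congrArg Subtype.val (Subgroup.mem_center_iff.1 hv.2 ⟨x, hxB⟩) : x * (v : G) = v * x) |>
    fun h => (show Commute x (v : G) from h).zpow_right l

end Loc

end Cfsg.Agent.Transfer.ConjRankFive
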