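import Cfsg.Agent.Lib.Transfer.ConjRankFive.Loc
import Cfsg.Agent.Lib.Invol.ZJLocalSection
import Cfsg.Agent.Lib.Invol.RealFreeBasic
import Cfsg.Agent.Lib.Fus.OddSylowCyclicDerived
import Cfsg.Agent.Lib.Transfer.Burnside
import Cfsg.Agent.S3071
import Cfsg.Agent.S0664
import Cfsg.Agent.S0017

/-!
Fusion in the normaliser of `Z(J(Q))` and the key step: a centraliser of class size `b` containing `A` and an
outer element normalising it normalises `A`.
-/

set_option autoImplicit false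
set_option linter.style.haveILetI false
set_option linter.unusedSectionVars false
set_option maxHeartbeats 1000000

open scoped commutatorElement

universe u

namespace Cfsg.Agent.Transfer.ConjRankFive

open Cfsg Cfsg.Agent Cfsg.Agent.Transfer.ClassDisconnected Cfsg.Agent.Transfer.ConjRankThree
  Cfsg.Agent.Transfer.ConjRankFour Cfsg.Agent.Grp.Graph Cfsg.Agent.Grp.GK

variable {G : Type u} [Group G] [Finite G] [IsSimpleGroup G]

omit [IsSimpleGroup G] in
theorem two_dvd_sl {r : ℕ} [Fact r.Prime] (hr : r ≠ 2) :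
    2 ∣ Nat.card (Matrix.SpecialLinearGroup (Fin 2) (ZMod r)) := by
  haveI : Fact (2 < r) := ⟨lt_of_le_of_ne (Fact.out : r.Prime).two_le (Ne.symm hr)⟩
  let M : Matrix.SpecialLinearGroup (Fin 2) (ZMod r) := ⟨!![-1, 0; 0, -1], by simp [Matrix.det_fin_two]⟩
  have h2 : M ^ 2 = 1 := by
    refine Subtype.ext ?_
    rw [Matrix.SpecialLinearGroup.coe_pow]
    ext i j
    fin_cases i <;> fin_cases j <;> simp [M, pow_two, Matrix.mul_apply, Fin.sum_univ_two]
  have h1 : M ≠ 1 := fun h => by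
    have h' : (-1 : ZMod r) = 1 := congrArg
      (fun x : Matrix.SpecialLinearGroup (Fin 2) (ZMod r) => (x : Matrix (Fin 2) (Fin 2) (ZMod r)) 0 0) h
    exact ZMod.neg_one_ne_one h'
  refine (orderOf_eq_prime h2 h1).symm.dvd.trans ?_
  exact orderOf_dvd_natCard M

theorem perfect_of_simple (hna : ¬ IsMulCommutative G) : commutator G = ⊤ := by
  rcases (inferInstance : (commutator G).Normal).eq_bot_or_eq_top with h | h
  · refine absurd ⟨⟨fun p q => commutatorElement_eq_one_iff_mul_comm.1 ?_⟩⟩ hna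
    exact Subgroup.mem_bot.1 (h ▸ Subgroup.commutator_mem_commutator (Subgroup.mem_top p) (Subgroup.mem_top q))
  · exact h

omit [IsSimpleGroup G] in
/-- A subgroup normalises the image of each of its normal subgroups. -/
theorem le_normalizer_map_subtype {R : Subgroup G} (K : Subgroup R) [K.Normal] :
    R ≤ Subgroup.normalizer (K.map R.subtype : Set G) := by
  have key : ∀ g ∈ R, ∀ z ∈ K.map R.subtype, g * z * g⁻¹ ∈ K.map R.subtype := by
    rintro g hg _ ⟨z, hz, rfl⟩
    exact ⟨⟨g, hg⟩ * z * ⟨g, hg⟩⁻¹, ‹K.Normal›.conj_mem z hz _, rfl⟩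
  intro g hg
  refine Subgroup.mem_normalizer_iff.2 fun z => ⟨key g hg z, fun hz => ?_⟩
  have := key g⁻¹ (inv_mem hg) _ hz
  simpa [mul_assoc] using this

/-- If a subgroup controls the fusion of a Sylow subgroup of a simple group, its derived subgroup
contains that Sylow subgroup. -/
theorem le_derived_of_fusion (hna : ¬ IsMulCommutative G) {r : ℕ} [Fact r.Prime] (Q : Sylow r G)
    {M : Subgroup G} (hQM : (Q : Subgroup G) ≤ M)
    (h : ∀ x ∈ (Q : Subgroup G), ∀ u : G, u * x * u⁻¹ ∈ (Q : Subgroup G) → ∃ n ∈ M, n * x * n⁻¹ = u * x * u⁻¹) :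
    (Q : Subgroup G) ≤ ⁅M, M⁆ := by
  have hfoc : Subgroup.focalSubgroup (Q : Subgroup G) = Q := by
    rw [← Subgroup.commutator_inf_eq_focalSubgroup Q, perfect_of_simple hna, top_inf_eq]
  conv_lhs => rw [← hfoc]
  rw [Subgroup.focalSubgroup_def, Subgroup.closure_le]
  rintro g ⟨hg, x, hx, u, rfl⟩
  have h1 : u * x⁻¹ * u⁻¹ ∈ (Q : Subgroup G) := by
    have := mul_mem (inv_mem hx) hg
    rwa [commutatorElement_def, mul_assoc x, mul_assoc x, inv_mul_cancel_left] at this
  obtain ⟨n, hn, hn'⟩ := h x⁻¹ (inv_mem hx) u h1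
  have e : ⁅x, u⁆ = ⁅x, n⁆ := by
    rw [commutatorElement_def, commutatorElement_def]
    calc x * u * x⁻¹ * u⁻¹ = x * (u * x⁻¹ * u⁻¹) := by group
      _ = x * (n * x⁻¹ * n⁻¹) := by rw [hn']
      _ = x * n * x⁻¹ * n⁻¹ := by group
  exact e ▸ Subgroup.commutator_mem_commutator (hQM hx) hn

namespace Loc

variable {a b c d e k r : ℕ} {A : Subgroup G} (D : Loc G a b c d e k r A)

include D

theorem r_dvd_a : r ∣ a := by
  obtain ⟨m, hm⟩ := D.hkr
  have hm0 : m ≠ 0 := fun h => by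
    have := D.hk1
    rw [hm, h, pow_zero] at this
    omega
  exact (dvd_pow_self r hm0).trans (hm ▸ Dvd.intro_left _ D.cardT)

theorem r_ne_two : r ≠ 2 := fun h => D.odd (h ▸ D.r_dvd_a)

/-- Fusion in a Sylow subgroup with a central element of class size `b` is controlled by `N(Z(J(Q)))`,
a subgroup of odd order. -/
theorem zj_control [Fact r.Prime] (Q : Sylow r G) (hQa : Nat.card (Q : Subgroup G) ∣ a) {w : G}
    (hwQ : w ∈ (Q : Subgroup G)) (hwc : ∀ q ∈ (Q : Subgroup G), Commute q w) (hw : cix w = b) :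
    w ∈ Cfsg.centerThompsonAOf (Q : Subgroup G) ∧
    ¬ 2 ∣ Nat.card ↥(Subgroup.normalizer (Cfsg.centerThompsonAOf (Q : Subgroup G) : Set G)) ∧
    (Q : Subgroup G) ≤ Subgroup.normalizer (Cfsg.centerThompsonAOf (Q : Subgroup G) : Set G) ∧
    (Q : Subgroup G) ≤ ⁅Subgroup.normalizer (Cfsg.centerThompsonAOf (Q : Subgroup G) : Set G),
      Subgroup.normalizer (Cfsg.centerThompsonAOf (Q : Subgroup G) : Set G)⁆ ∧
    ∀ x ∈ (Q : Subgroup G), ∀ u : G, u * x * u⁻¹ ∈ (Q : Subgroup G) →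
      ∃ n ∈ Subgroup.normalizer (Cfsg.centerThompsonAOf (Q : Subgroup G) : Set G), n * x * n⁻¹ = u * x * u⁻¹ := by
  have hwC : w ∈ (Q : Subgroup G) ⊓ Subgroup.centralizer ((Q : Subgroup G) : Set G) :=
    ⟨hwQ, Subgroup.mem_centralizer_iff.2 fun q hq => (hwc q hq).eq⟩
  have hwZ : w ∈ Cfsg.centerThompsonAOf (Q : Subgroup G) := Invol.ZJLocalSection.center_le_centerThompsonA _ hwC
  have hQM : (Q : Subgroup G) ≤ Subgroup.normalizer (Cfsg.centerThompsonAOf (Q : Subgroup G) : Set G) :=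
    Subgroup.le_normalizer.trans (Invol.RealFree.normalizer_le_normalizer_zj _)
  have hfus : ∀ x ∈ (Q : Subgroup G), ∀ u : G, u * x * u⁻¹ ∈ (Q : Subgroup G) →
      ∃ n ∈ Subgroup.normalizer (Cfsg.centerThompsonAOf (Q : Subgroup G) : Set G),
        n * x * n⁻¹ = u * x * u⁻¹ := by
    intro x hx u hu
    refine (Cfsg.Agent.S3071.result D.r_ne_two Q ?_ x hx _ hu).1 ⟨u, rfl⟩
    rintro P hZP hPQ ⟨H, K, hK, hH, ⟨f⟩⟩
    refine D.S.odd_norm D.odd ((Subgroup.card_dvd_of_le hPQ).trans hQa) (hZP hwC) hw ?_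
    refine ((two_dvd_sl D.r_ne_two).trans ?_).trans (Subgroup.card_dvd_of_le hH)
    rw [← Nat.card_congr f.toEquiv]
    exact Subgroup.card_quotient_dvd_card _
  refine ⟨hwZ, D.S.odd_norm D.odd ?_ hwZ hw, hQM, le_derived_of_fusion D.S.T.hna Q hQM hfus, hfus⟩
  exact (Subgroup.card_dvd_of_le (Invol.RealFree.centerThompsonA_le _)).trans hQa

omit D in
/-- A Sylow subgroup of a subgroup of index prime to `r` is one of the group. -/
theorem sylow_of_sub [Fact r.Prime] {R : Subgroup G} (hR : ¬ r ∣ R.index) (P : Sylow r R) :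
    ∃ Q : Sylow r G, (Q : Subgroup G) = (P : Subgroup R).map R.subtype := by
  have hidx : ¬ r ∣ ((P : Subgroup R).map R.subtype).index := by
    rw [Subgroup.index_map_subtype]
    exact fun h => ((Fact.out : r.Prime).dvd_mul.1 h).elim P.not_dvd_index hR
  exact ⟨(P.isPGroup'.map R.subtype).toSylow hidx, rfl⟩

theorem not_dvd_index {R : Subgroup G} (hR : Nat.card R = a) : ¬ r ∣ R.index := by
  intro h
  have h1 := R.card_mul_index
  rw [hR, D.S.T.card_eq] at h1
  exact D.S.coprime_b D.hr D.r_dvd_a (Nat.eq_of_mul_eq_mul_left (by have := D.S.T.ha; omega) h1 ▸ h)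

/-- A Sylow subgroup together with `A` generates a Hall subgroup containing both. -/
theorem sup_eq {R : Subgroup G} (hR : Nat.card R = a) (hA : A ≤ R) [Fact r.Prime] (Q : Sylow r G)
    (hQ : (Q : Subgroup G) ≤ R) : A ⊔ (Q : Subgroup G) = R := by
  refine Subgroup.eq_of_le_of_card_ge (sup_le hA hQ) ?_
  rw [hR]
  obtain ⟨j, hj⟩ := D.full
  refine Nat.le_of_dvd Nat.card_pos (hj ▸ (D.cop.pow_right j).mul_dvd_of_dvd_of_dvd
    (Subgroup.card_dvd_of_le le_sup_left) ?_)
  exact (Q.pow_dvd_card_of_pow_dvd_card ((Dvd.intro_left _ hj.symm).trans (hR ▸ R.card_subgroup_dvd_card))).trans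
    (Subgroup.card_dvd_of_le le_sup_right)

/-- A centraliser containing `A` and an outer element normalising it has size `b`. -/
theorem size_b {v : G} (hv1 : v ≠ 1) {i : ℕ} (hvo : orderOf v = r ^ i)
    (hvT : v ∈ Subgroup.centralizer (A : Set G)) {x : G} (hxv : Commute x v)
    (hxT : x ∉ Subgroup.centralizer (A : Set G)) : cix v = b := by
  have hi : i ≠ 0 := fun h => hv1 (orderOf_eq_one_iff.1 (by rw [hvo, h, pow_zero]))
  have hb : b ∣ cix v := (D.S.T.b_side hv1 fun h => D.hr.ne_one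
    (Nat.eq_one_of_dvd_coprimes h (hvo ▸ dvd_pow_self r hi) D.r_dvd_a)).1
  refine (D.S.sizes_b hv1 hb).resolve_right fun he => hxT ?_
  have hcard : Nat.card (Subgroup.centralizer ({v} : Set G)) * k = a := by
    have h := card_mul_cix v
    rw [he, D.hk, D.S.T.card_eq] at h
    exact Nat.eq_of_mul_eq_mul_right (by have := D.S.T.hb; omega : 0 < b)
      ((by ring : Nat.card (Subgroup.centralizer ({v} : Set G)) * k * b =
        Nat.card (Subgroup.centralizer ({v} : Set G)) * (b * k)).trans h)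
  rw [Subgroup.eq_of_le_of_card_ge (D.le_cent hvT).2
    (Nat.eq_of_mul_eq_mul_right (by have := D.hk1; omega : 0 < k) (hcard.trans D.cardT.symm)).le]
  exact mem_cent.2 hxv

/-- The key step. -/
theorem cent_le_norm {v : G} (hv1 : v ≠ 1) {i : ℕ} (hvo : orderOf v = r ^ i)
    (hvT : v ∈ Subgroup.centralizer (A : Set G)) {x : G} {j : ℕ} (hxo : orderOf x = r ^ j) (hxv : Commute x v)
    (hxN : x ∈ Subgroup.normalizer (A : Set G)) (hxT : x ∉ Subgroup.centralizer (A : Set G)) :
    Subgroup.centralizer ({v} : Set G) ≤ Subgroup.normalizer (A : Set G) := by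
  haveI := Fact.mk D.hr
  have hv := D.size_b hv1 hvo hvT hxv hxT
  set R := Subgroup.centralizer ({v} : Set G) with hR
  have hRa : Nat.card R = a := D.S.T.card_B hv
  have hAR : A ≤ R := (D.le_cent hvT).1
  have hRodd : ¬ 2 ∣ Nat.card R := hRa.symm ▸ D.odd
  haveI := D.S.solvable_of_odd hRodd
  by_cases hO : Cfsg.pPrimeCore r R = ⊥
  swap
  · set O := (Cfsg.pPrimeCore r R).map R.subtype with hOdef
    have hOc : (Nat.card O).Coprime r := by
      rw [hOdef, Subgroup.card_map_of_injective R.subtype_injective]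
      exact Grp.pPrimeCore_coprime
    have hRO : R ≤ Subgroup.normalizer (O : Set G) := by
      haveI : (Cfsg.pPrimeCore r R).Normal := Grp.pPrimeCore_isNormal
      rw [hOdef]
      exact le_normalizer_map_subtype _
    have hOA : O ≤ A := by
      have hd : Nat.card (A ⊔ O : Subgroup G) ∣ Nat.card A * Nat.card O :=
        Grp.card_sup_dvd_mul (hAR.trans hRO)
      obtain ⟨m, hm⟩ := D.full
      have h1 : Nat.card (A ⊔ O : Subgroup G) ∣ Nat.card A := by
        refine ((Nat.Coprime.coprime_dvd_left hd (D.cop.mul_left hOc)).pow_right m).dvd_of_dvd_mul_right ?_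
        rw [← hm, ← hRa]
        exact Subgroup.card_dvd_of_le (sup_le hAR (Subgroup.map_subtype_le _))
      rw [Subgroup.eq_of_le_of_card_ge (le_sup_left : A ≤ A ⊔ O) (Nat.le_of_dvd Nat.card_pos h1)]
      exact le_sup_right
    obtain ⟨α, hα, hα1⟩ := O.bot_or_exists_ne_one.resolve_left fun h =>
      hO ((Subgroup.map_eq_bot_iff_of_injective _ R.subtype_injective).1 h)
    exact fun g hg => D.norm_of_conj (hOA hα) hα1 (hOA ((Subgroup.mem_normalizer_iff.1 (hRO hg) α).1 hα))
  exfalso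
  obtain ⟨P⟩ : Nonempty (Sylow r R) := inferInstance
  obtain ⟨Q, hQ⟩ := sylow_of_sub (D.not_dvd_index hRa) P
  have hQR : (Q : Subgroup G) ≤ R := hQ ▸ Subgroup.map_subtype_le _
  have hvP : (⟨v, self_mem v⟩ : R) ∈ (P : Subgroup R) := by
    have hz : IsPGroup r (Subgroup.zpowers (⟨v, self_mem v⟩ : R)) :=
      IsPGroup.of_card (n := i) (by rw [Nat.card_zpowers, Subgroup.orderOf_mk, hvo])
    haveI : (Subgroup.zpowers (⟨v, self_mem v⟩ : R)).Normal := ⟨fun n hn g => by
      obtain ⟨l, rfl⟩ := hn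
      refine ⟨l, ?_⟩
      have hc : Commute g (⟨v, self_mem v⟩ : R) := Subtype.ext (mem_cent.1 g.2).eq
      show _ = g * _ * g⁻¹
      rw [(hc.zpow_right l).eq, mul_inv_cancel_right]⟩
    exact hz.le_sylow_of_normal P (Subgroup.mem_zpowers _)
  obtain ⟨hvZ, hModd, hQM, hQM', -⟩ := D.zj_control Q
    ((Subgroup.card_dvd_of_le hQR).trans hRa.dvd) (w := v) (hQ ▸ ⟨_, hvP, rfl⟩)
    (fun q hq => mem_cent.1 (hQR hq)) hv
  set M := Subgroup.normalizer (Cfsg.centerThompsonAOf (Q : Subgroup G) : Set G) with hM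
  have hnorm : R ≤ M := by
    have hn : (Cfsg.centerThompsonAOf (P : Subgroup R)).Normal :=
      Cfsg.Agent.S0664.result D.r_ne_two
        (Fus.not_involves_qd_of_odd D.r_ne_two (Nat.not_even_iff_odd.1 fun h => hRodd h.two_dvd))
        (Cfsg.Agent.S0017.result r hO) P
    rw [hM, hQ, Invol.RealFree.centerThompsonA_map R.subtype R.subtype_injective.injOn]
    haveI := hn
    exact le_normalizer_map_subtype _
  haveI := D.S.solvable_of_odd hModd
  have hZle : Cfsg.centerThompsonAOf (Q : Subgroup G) ≤ R :=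
    (Invol.RealFree.centerThompsonA_le _).trans hQR
  refine D.false_of_derived hRa (D.sup_eq hRa hAR Q hQR ▸ sup_le
      (D.le_derived (hAR.trans hnorm) (hnorm (mem_cent.2 hxv)) hxN hxT) hQM')
    (fun h => hv1 (Subgroup.mem_bot.1 (h ▸ hvZ))) (hZle.trans hnorm) le_rfl
    ((Subgroup.card_dvd_of_le hZle).trans hRa.dvd) hAR hxo (mem_cent.2 hxv) hxT

end Loc

end Cfsg.Agent.Transfer.ConjRankFive
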