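import Cfsg.Agent.Lib.Transfer.ConjRankFive.SplitGood
import Cfsg.Agent.Lib.Transfer.ConjRankFive.CaseOne
import Cfsg.Agent.Lib.Transfer.ConjRankFive.List

/-!
Simple groups of conjugate type rank five that are not three-headed.
-/

set_option autoImplicit false
set_option linter.style.haveILetI false
set_option linter.unusedSectionVars false

universe u

namespace Cfsg.Agent.Transfer.ConjRankFive

open Cfsg Cfsg.Agent Cfsg.Agent.Transfer.ConjRankThree Cfsg.Agent.Transfer.ConjRankFour

variable {G : Type u} [Group G] [Finite G] [IsSimpleGroup G]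

theorem Two.good {a b c d e : ℕ} (T : Two G a b c d e) {t : G} (ht : orderOf t = 2) : Good t := by
  rcases T.upC with hc | hc <;> rcases T.upD with hd | hd <;> rcases T.upE with he | he
  · exact (⟨T, hc, hd, he⟩ : Up G a b c d e).good t ht
  · exact (⟨T, hc, hd, he⟩ : Split G a b c d e).good ht
  · exact (⟨T.rot.rot, he, hc, hd⟩ : Split G a b e c d).good ht
  · exact (⟨T.swap.rot, hd, he, hc⟩ : Split G b a d e c).good ht
  · exact (⟨T.rot, hd, he, hc⟩ : Split G a b d e c).good ht
  · exact (⟨T.swap.rot.rot, he, hc, hd⟩ : Split G b a e c d).good ht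
  · exact (⟨T.swap, hc, hd, he⟩ : Split G b a c d e).good ht
  · exact (⟨T.swap, hc, hd, he⟩ : Up G b a c d e).good t ht

/-- The classification. -/
theorem classify (X : Ctx G) :
    (∃ (n : ℕ) (F : Type) (_ : Field F) (_ : Fintype F), 1 ≤ n ∧ Fintype.card F = 2 ^ (2 * n + 1) ∧
        Nonempty (G ≃* ↥(Cfsg.Lie.Sz F (2 ^ (n + 1))))) ∨
      ∃ (F : Type) (_ : Field F) (_ : Fintype F), Fintype.card F = 4 ∧
        Nonempty (G ≃* Matrix.ProjectiveSpecialLinearGroup (Fin 3) F) := by
  rcases X.oneTop_or_two with O | ⟨a, b, c, d, e, T⟩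
  · exact of_oneTop X O
  · exact of_good X fun _ ht => T.good ht

end Cfsg.Agent.Transfer.ConjRankFive
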