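import Cfsg.Agent.Lib.Transfer.ConjRankFive.Basic
import Cfsg.Agent.Lib.Transfer.WielandtDPi

/-!
Five class sizes with two minimal ones `a`, `b`: the group order is `a * b`.
-/

set_option autoImplicit false
set_option linter.style.haveILetI false
set_option linter.unusedSectionVars false
set_option maxHeartbeats 1000000

open scoped Pointwise

universe u

namespace Cfsg.Agent.Transfer.ConjRankFive

open Cfsg Cfsg.Agent Cfsg.Agent.Transfer.ClassDisconnected Cfsg.Agent.Transfer.ConjRankThree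
  Cfsg.Agent.Transfer.ConjRankFour

variable {G : Type u} [Group G] [Finite G] [IsSimpleGroup G] {a b c d e : ℕ} (T : Two G a b c d e)

namespace Two

include T

/-- If `v` commutes with `x` of class size `a` and with `y` of class size `b`, then `C(v) ∩ C(y)` has index
in `C(v)` divisible by the order of `x`. -/
theorem dvd_relIndex {x y v : G} {p : ℕ} [Fact p.Prime] (hxo : orderOf x = p) (hx : cix x = a) (hy : cix y = b)
    (hvx : Commute v x) :
    p ∣ (Subgroup.centralizer ({y} : Set G)).relIndex (Subgroup.centralizer ({v} : Set G)) := by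
  by_contra hn
  rw [← Subgroup.inf_relIndex_left] at hn
  obtain ⟨g, -, hg⟩ := WielandtDPi.exists_conj_le (C := Subgroup.centralizer ({v} : Set G))
    (H := Subgroup.centralizer ({v} : Set G) ⊓ Subgroup.centralizer ({y} : Set G)) (A := Subgroup.zpowers x)
    inf_le_left (Subgroup.zpowers_le.2 (mem_cent.2 hvx.symm))
    (IsPGroup.of_card (n := 1) (by rw [Nat.card_zpowers, hxo, pow_one])) hn
  exact T.ncomm (x := g * x * g⁻¹) ((cix_conj g x).trans hx) hy
    (mem_cent.1 (hg x (Subgroup.mem_zpowers x)).2)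

theorem coprime_ne {x y : G} {p r : ℕ} [hp : Fact p.Prime] [hr : Fact r.Prime] (hxo : orderOf x = p) (hx : cix x = a)
    (hyo : orderOf y = r) (hy : cix y = b) : p ∣ b ∧ r ∣ a ∧ p ≠ r := by
  have key : ∀ {a b c d e : ℕ}, Two G a b c d e → ∀ {x y : G} {p : ℕ} [Fact p.Prime], orderOf x = p → cix x = a →
      cix y = b → p ∣ b := by
    intro a b c d e T x y p _ hxo hx hy
    have h := T.dvd_relIndex (v := 1) hxo hx hy (Commute.one_left x)
    rwa [show Subgroup.centralizer ({1} : Set G) = ⊤ from top_le_iff.1 fun g _ => mem_cent.2 (Commute.one_right g),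
      Subgroup.relIndex_top_right, show (Subgroup.centralizer ({y} : Set G)).index = b from hy] at h
  have h1 := key T hxo hx hy
  have h2 := key T.swap hyo hy hx
  exact ⟨h1, h2, fun e => hp.out.ne_one (Nat.eq_one_of_dvd_coprimes T.cop (e ▸ h2) h1)⟩

omit [IsSimpleGroup G] in
theorem card_D {x y : G} (hx : cix x = a) (hy : cix y = b) :
    Nat.card ↥(Subgroup.centralizer ({x} : Set G) ⊓ Subgroup.centralizer ({y} : Set G)) * (a * b) =
      Nat.card G := by
  rw [← T.inf_index hx hy]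
  exact Subgroup.card_mul_index _

theorem upper {v x y : G} (hx : cix x = a) (hy : cix y = b) (hv : v ≠ 1) (hvx : Commute v x) (hvy : Commute v y) :
    cix v ≠ a ∧ cix v ≠ b :=
  ⟨fun h => T.ncomm h hy hvy, fun h => T.ncomm hx h hvx.symm⟩

/-- In `D = C(x) ∩ C(y)` an `r`-element centralising a Sylow `r`-subgroup has class size no multiple
of `a`. -/
theorem not_a_dvd {x y v : G} {r : ℕ} [hr : Fact r.Prime] (hyo : orderOf y = r) (hx : cix x = a) (hy : cix y = b)
    (hra : r ∣ a) {D : Subgroup G} (hD : D = Subgroup.centralizer ({x} : Set G) ⊓ Subgroup.centralizer ({y} : Set G)) (R : Sylow r D)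
    (hvy : Commute v y) (hvR : ∀ g ∈ (R : Subgroup D), Commute (g : G) v) : ¬ a ∣ cix v := by
  rintro ⟨k, hk⟩
  have hDm : ∀ g ∈ D, Commute g x ∧ Commute g y := fun g hg => by
    rw [hD] at hg
    exact ⟨mem_cent.1 hg.1, mem_cent.1 hg.2⟩
  have hcD : Nat.card D * (a * b) = Nat.card G := hD ▸ T.card_D hx hy
  set R₀ := (R : Subgroup D).map D.subtype with hR₀
  set Z := Subgroup.zpowers y with hZ
  have hR₀D : R₀ ≤ D := Subgroup.map_subtype_le _
  have hnorm : R₀ ≤ Subgroup.normalizer (Z : Set G) := by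
    refine le_trans ?_ (Subgroup.centralizer_le_normalizer _)
    intro g hg
    refine Subgroup.mem_centralizer_iff.2 fun z hz => ?_
    obtain ⟨i, rfl⟩ := hz
    exact ((hDm g (hR₀D hg)).2.zpow_right i).eq.symm
  have hsup : IsPGroup r ↥(R₀ ⊔ Z) := (R.isPGroup'.map D.subtype).to_sup_of_normal_right'
    (IsPGroup.of_card (n := 1) (by rw [Nat.card_zpowers, hyo, pow_one])) hnorm
  obtain ⟨i, hi⟩ := IsPGroup.iff_card.1 hsup
  have hle : R₀ ⊔ Z ≤ Subgroup.centralizer ({v} : Set G) := by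
    refine sup_le ?_ ((Subgroup.zpowers_le).2 (mem_cent.2 hvy.symm))
    rintro _ ⟨g, hg, rfl⟩
    exact mem_cent.2 (hvR g hg)
  have hcard : Nat.card (Subgroup.centralizer ({v} : Set G)) * k = Nat.card D * b := by
    have h1 := card_mul_cix v
    rw [hk, ← hcD] at h1
    refine Nat.eq_of_mul_eq_mul_right (by have := T.ha; omega : 0 < a) ?_
    rw [mul_assoc, mul_comm k a, h1]
    ring
  have h3 : r ^ i ∣ Nat.card D := by
    refine (((hr.out.coprime_iff_not_dvd).2 fun h => hr.out.ne_one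
      (Nat.eq_one_of_dvd_coprimes T.cop hra h)).pow_left i).dvd_of_dvd_mul_right ?_
    exact hcard ▸ (hi ▸ Subgroup.card_dvd_of_le hle).mul_right k
  have h4 : Nat.card (R₀ ⊔ Z : Subgroup G) ≤ Nat.card R₀ := by
    rw [hi, hR₀, Subgroup.card_map_of_injective D.subtype_injective]
    exact Nat.le_of_dvd Nat.card_pos (R.pow_dvd_card_of_pow_dvd_card h3)
  have heq : R₀ = R₀ ⊔ Z := Subgroup.eq_of_le_of_card_ge le_sup_left h4
  exact T.ncomm hx hy (hDm y (hR₀D (heq ▸ Subgroup.mem_sup_right (Subgroup.mem_zpowers y)))).1.symm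

omit [IsSimpleGroup G] in
/-- A size that is a multiple of `a * b` has its centraliser order dividing that of `D`. -/
theorem dvd_card_D {x y u : G} (hx : cix x = a) (hy : cix y = b) (h : a * b ∣ cix u) :
    Nat.card (Subgroup.centralizer ({u} : Set G)) ∣
      Nat.card ↥(Subgroup.centralizer ({x} : Set G) ⊓ Subgroup.centralizer ({y} : Set G)) := by
  obtain ⟨k, hk⟩ := h
  refine ⟨k, Nat.eq_of_mul_eq_mul_right (by have := T.ha; have := T.hb; positivity : 0 < a * b) ?_⟩
  rw [T.card_D hx hy, ← card_mul_cix u, hk]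
  ring

omit [IsSimpleGroup G] in
theorem ab_dvd_mul {v y : G} {r : ℕ} (hyo : orderOf y = r) (hy : cix y = b) (hvy : Commute v y)
    (hco : (orderOf v).Coprime r) (hav : a ∣ cix v) : a * b ∣ cix (v * y) :=
  T.cop.mul_dvd_of_dvd_of_dvd (hav.trans (Subgroup.index_dvd_of_le (centralizer_mul_le hvy (hyo ▸ hco))))
    (hy ▸ Subgroup.index_dvd_of_le (centralizer_mul_le' hvy (hyo ▸ hco)))

omit [IsSimpleGroup G] in
/-- The prime of `y` divides the order of `D` as soon as some element of `D` of other order has a size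
divisible by `a`. -/
theorem dvd_D_of_mul {x y v : G} {r : ℕ} (hyo : orderOf y = r) (hx : cix x = a) (hy : cix y = b)
    (hvy : Commute v y) (hco : (orderOf v).Coprime r) (hav : a ∣ cix v) :
    r ∣ Nat.card ↥(Subgroup.centralizer ({x} : Set G) ⊓ Subgroup.centralizer ({y} : Set G)) := by
  refine Dvd.dvd.trans ?_ (T.dvd_card_D hx hy (T.ab_dvd_mul hyo hy hvy hco hav))
  exact hyo ▸ Subgroup.orderOf_dvd_natCard _ (mem_cent.2 (hvy.symm.mul_right (Commute.refl y)))

/-- If `D` is nontrivial both primes divide its order. -/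
theorem dvd_D {x y : G} {p r : ℕ} [hp : Fact p.Prime] [hr : Fact r.Prime] (hxo : orderOf x = p) (hx : cix x = a)
    (hyo : orderOf y = r) (hy : cix y = b)
    (hD : Nat.card ↥(Subgroup.centralizer ({x} : Set G) ⊓ Subgroup.centralizer ({y} : Set G)) ≠ 1) :
    p ∣ Nat.card ↥(Subgroup.centralizer ({x} : Set G) ⊓ Subgroup.centralizer ({y} : Set G)) ∧
      r ∣ Nat.card ↥(Subgroup.centralizer ({x} : Set G) ⊓ Subgroup.centralizer ({y} : Set G)) := by
  obtain ⟨-, hra, hpr⟩ := T.coprime_ne hxo hx hyo hy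
  have hone : ∀ {a b c d e : ℕ}, Two G a b c d e → ∀ {x y : G} {p r : ℕ} [Fact p.Prime] [Fact r.Prime],
      orderOf x = p → cix x = a → orderOf y = r → cix y = b → r ∣ a → p ≠ r →
      r ∣ Nat.card ↥(Subgroup.centralizer ({x} : Set G) ⊓ Subgroup.centralizer ({y} : Set G)) →
      p ∣ Nat.card ↥(Subgroup.centralizer ({x} : Set G) ⊓ Subgroup.centralizer ({y} : Set G)) := by
    intro a b c d e T x y p r hp hr hxo hx hyo hy hra hpr hrD
    obtain ⟨R⟩ : Nonempty (Sylow r ↥(Subgroup.centralizer ({x} : Set G) ⊓ Subgroup.centralizer ({y} : Set G))) :=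
      inferInstance
    obtain ⟨v, hvR, hvo, hvc, -⟩ := exists_center r hrD R
    rw [← Subgroup.orderOf_coe] at hvo
    have hnd := T.not_a_dvd hyo hx hy hra rfl R (mem_cent.1 v.2.2)
      (fun g hg => congrArg Subtype.val (hvc g hg).eq)
    have hv1 : (v : G) ≠ 1 := fun h => hr.out.ne_one (by rw [← hvo, h, orderOf_one])
    rw [inf_comm]
    exact T.swap.dvd_D_of_mul hxo hy hx (mem_cent.1 v.2.1)
      (by rw [hvo]; exact (Nat.coprime_primes hr.out hp.out).2 hpr.symm) ((T.up hv1).resolve_left hnd)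
  obtain ⟨hpb, -, -⟩ := T.coprime_ne hxo hx hyo hy
  have h1 := hone T hxo hx hyo hy hra hpr
  have h2 := hone T.swap hyo hy hxo hx hpb hpr.symm
  rw [inf_comm] at h2
  suffices r ∣ Nat.card ↥(Subgroup.centralizer ({x} : Set G) ⊓ Subgroup.centralizer ({y} : Set G)) ∨
      p ∣ Nat.card ↥(Subgroup.centralizer ({x} : Set G) ⊓ Subgroup.centralizer ({y} : Set G)) by
    rcases this with h | h
    exacts [⟨h1 h, h⟩, ⟨h, h2 h⟩]
  obtain ⟨q, hq, hqD⟩ := Nat.exists_prime_and_dvd hD
  haveI := Fact.mk hq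
  by_cases hqr : q = r
  · exact Or.inl (hqr ▸ hqD)
  by_cases hqp : q = p
  · exact Or.inr (hqp ▸ hqD)
  obtain ⟨v, hvo⟩ := exists_prime_orderOf_dvd_card'
    (G := ↥(Subgroup.centralizer ({x} : Set G) ⊓ Subgroup.centralizer ({y} : Set G))) q hqD
  rw [← Subgroup.orderOf_coe] at hvo
  rcases T.up (w := (v : G)) (fun h => hq.ne_one (by rw [← hvo, h, orderOf_one])) with h | h
  · exact Or.inl (T.dvd_D_of_mul hyo hx hy (mem_cent.1 v.2.2)
      (by rw [hvo]; exact (Nat.coprime_primes hq hr.out).2 hqr) h)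
  · right
    rw [inf_comm]
    exact T.swap.dvd_D_of_mul hxo hy hx (mem_cent.1 v.2.1)
      (by rw [hvo]; exact (Nat.coprime_primes hq hp.out).2 hqp) h

/-- Four upper values with the two outer ones distinct from the inner ones. -/
theorem upper_cases {w : G} (hw : w ≠ 1) (h : cix w ≠ a) (h' : cix w ≠ b) : cix w = c ∨ cix w = d ∨ cix w = e := by
  rcases T.mem w hw with h1 | h1 | h1 | h1 | h1
  exacts [absurd h1 h, absurd h1 h', Or.inl h1, Or.inr (Or.inl h1), Or.inr (Or.inr h1)]

/-- The contradiction from an element of `D` of order prime to `r` with size above `b` only. -/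
theorem false_of_b {x y v w : G} {p r : ℕ} [hp : Fact p.Prime] [hr : Fact r.Prime] (hxo : orderOf x = p)
    (hx : cix x = a) (hyo : orderOf y = r) (hy : cix y = b) (hpr : p ≠ r)
    {D : Subgroup G} (hD : D = Subgroup.centralizer ({x} : Set G) ⊓ Subgroup.centralizer ({y} : Set G)) (P : Sylow p D)
    (hwP : ∀ g ∈ (P : Subgroup D), Commute (g : G) w)
    (hv1 : v ≠ 1) (hvx : Commute v x) (hvy : Commute v y) (hco : (orderOf v).Coprime r) (hnav : ¬ a ∣ cix v)
    (honly : ∀ z : G, z ≠ 1 → ¬ a ∣ cix z → cix z = b ∨ cix z = cix v)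
    (htop : ∀ z : G, z ≠ 1 → a * b ∣ cix z → cix z = cix (w * y)) : False := by
  have hb : b ∣ cix v := (T.up hv1).resolve_left hnav
  have hco' : (orderOf v).Coprime (orderOf y) := hyo ▸ hco
  have hidx : (Subgroup.centralizer ({y} : Set G)).relIndex (Subgroup.centralizer ({v} : Set G)) * cix v =
      cix (v * y) := by
    rw [cix, cix, inf_eq_centralizer_mul hvy hco', ← Subgroup.inf_relIndex_left,
      Subgroup.relIndex_mul_index inf_le_left]
  have hpd : p * cix v ∣ cix (v * y) := hidx ▸ Nat.mul_dvd_mul_right (T.dvd_relIndex hxo hx hy hvx) _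
  have hne : cix (v * y) ≠ b ∧ cix (v * y) ≠ cix v := by
    constructor
    · intro h
      rw [h] at hpd
      have h1 := Nat.le_of_dvd (by have := T.hb; omega) hpd
      have h2 := Nat.le_of_dvd (cix_pos v) hb
      have h3 := Nat.mul_le_mul_right (cix v) hp.out.two_le
      have := cix_pos v
      omega
    · intro h
      rw [h] at hpd
      have h1 := Nat.le_of_dvd (cix_pos v) hpd
      have h3 := Nat.mul_le_mul_right (cix v) hp.out.two_le
      have := cix_pos v
      omega
  have ha : a ∣ cix (v * y) := by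
    by_contra h
    rcases honly _ (mul_ne_one' hco' hv1) h with e' | e'
    exacts [hne.1 e', hne.2 e']
  rw [htop _ (mul_ne_one' hco' hv1) (T.cop.mul_dvd_of_dvd_of_dvd ha (hb.trans ((dvd_mul_left _ p).trans hpd)))]
    at hpd
  have hDm : ∀ g ∈ D, Commute g x ∧ Commute g y := fun g hg => by
    rw [hD] at hg
    exact ⟨mem_cent.1 hg.1, mem_cent.1 hg.2⟩
  have hcD : Nat.card D * (a * b) = Nat.card G := hD ▸ T.card_D hx hy
  have hle : (P : Subgroup D).map D.subtype ≤ Subgroup.centralizer ({w * y} : Set G) := by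
    rintro _ ⟨g, hg, rfl⟩
    exact mem_cent.2 ((hwP g hg).mul_right (hDm g g.2).2)
  have hd : cix (w * y) ∣ (P : Subgroup D).index * (a * b) := by
    refine (Subgroup.index_dvd_of_le hle).trans ?_
    rw [Subgroup.index_map_subtype, show D.index = a * b from hD ▸ T.inf_index hx hy]
  have h1 : p * b ∣ (P : Subgroup D).index * a * b := by
    rw [mul_assoc]
    exact ((Nat.mul_dvd_mul_left p hb).trans hpd).trans hd
  rcases (hp.out.dvd_mul).1 (Nat.dvd_of_mul_dvd_mul_right (by have := T.hb; omega) h1) with h | h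
  · exact P.not_dvd_index h
  · exact hp.out.ne_one (Nat.eq_one_of_dvd_coprimes T.cop h (T.coprime_ne hxo hx hyo hy).1)

/-- The order of the group. -/
theorem card_eq : Nat.card G = a * b := by
  obtain ⟨x, p, hp, hxo, hx⟩ := T.exists_x
  obtain ⟨y, r, hr, hyo, hy⟩ := T.swap.exists_x
  haveI := Fact.mk hp
  haveI := Fact.mk hr
  set D := Subgroup.centralizer ({x} : Set G) ⊓ Subgroup.centralizer ({y} : Set G) with hD
  suffices h1 : Nat.card D = 1 by rw [← T.card_D hx hy, ← hD, h1, one_mul]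
  by_contra hD1
  obtain ⟨hpb, hra, hpr⟩ := T.coprime_ne hxo hx hyo hy
  obtain ⟨hpD, hrD⟩ := T.dvd_D hxo hx hyo hy hD1
  obtain ⟨R⟩ : Nonempty (Sylow r D) := inferInstance
  obtain ⟨P⟩ : Nonempty (Sylow p D) := inferInstance
  obtain ⟨v₀, -, hvo, hvc', -⟩ := exists_center r hrD R
  obtain ⟨w₀, -, hwo, hwc', -⟩ := exists_center p hpD P
  rw [← Subgroup.orderOf_coe] at hvo hwo
  set v : G := (v₀ : G) with hvdef
  set w : G := (w₀ : G) with hwdef
  have hvc : ∀ g ∈ (R : Subgroup D), Commute (g : G) v := fun g hg => congrArg Subtype.val (hvc' g hg).eq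
  have hwc : ∀ g ∈ (P : Subgroup D), Commute (g : G) w := fun g hg => congrArg Subtype.val (hwc' g hg).eq
  obtain ⟨hvx, hvy⟩ : Commute v x ∧ Commute v y := ⟨mem_cent.1 v₀.2.1, mem_cent.1 v₀.2.2⟩
  obtain ⟨hwx, hwy⟩ : Commute w x ∧ Commute w y := ⟨mem_cent.1 w₀.2.1, mem_cent.1 w₀.2.2⟩
  have hv1 : v ≠ 1 := fun h => hr.ne_one (by rw [← hvo, h, orderOf_one])
  have hw1 : w ≠ 1 := fun h => hp.ne_one (by rw [← hwo, h, orderOf_one])
  have hv_a : ¬ a ∣ cix v := T.not_a_dvd hyo hx hy hra hD R hvy hvc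
  have hw_b : ¬ b ∣ cix w := T.swap.not_a_dvd hxo hy hx hpb (hD.trans (inf_comm _ _)) P hwx hwc
  have hcv : (orderOf v).Coprime p := by rw [hvo]; exact (Nat.coprime_primes hr hp).2 hpr.symm
  have hcw : (orderOf w).Coprime r := by rw [hwo]; exact (Nat.coprime_primes hp hr).2 hpr
  have habwy : a * b ∣ cix (w * y) := T.ab_dvd_mul hyo hy hwy hcw ((T.up hw1).resolve_right hw_b)
  have habvx : a * b ∣ cix (v * x) := mul_comm b a ▸
    T.swap.ab_dvd_mul hxo hx hvx hcv ((T.up hv1).resolve_left hv_a)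
  have hne_ab : ∀ {u : G}, a * b ∣ cix u → cix u ≠ a ∧ cix u ≠ b := fun {u} h =>
    ⟨fun h' => T.not_b_dvd_a ((dvd_mul_left b a).trans (h' ▸ h)),
      fun h' => T.not_a_dvd_b ((dvd_mul_right a b).trans (h' ▸ h))⟩
  obtain ⟨hva', hvb⟩ := T.upper hx hy hv1 hvx hvy
  obtain ⟨hwa, hwb'⟩ := T.upper hx hy hw1 hwx hwy
  have hwy1 : w * y ≠ 1 := mul_ne_one' (hyo ▸ hcw) hw1
  have hvw : cix v ≠ cix w := fun h => hv_a (h ▸ (T.up hw1).resolve_right hw_b)
  have hvwy : cix v ≠ cix (w * y) := fun h => hv_a (h ▸ (dvd_mul_right a b).trans habwy)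
  have hwwy : cix w ≠ cix (w * y) := fun h => hw_b (h ▸ (dvd_mul_left b a).trans habwy)
  -- the three upper sizes
  have hsizes : ∀ z : G, z ≠ 1 → cix z = a ∨ cix z = b ∨ cix z = cix v ∨ cix z = cix w ∨ cix z = cix (w * y) := by
    intro z hz
    by_cases h : cix z = a
    · exact Or.inl h
    by_cases h' : cix z = b
    · exact Or.inr (Or.inl h')
    have h1 := T.upper_cases hz h h'
    have h2 := T.upper_cases hv1 hva' hvb
    have h3 := T.upper_cases hw1 hwa hwb'
    have h4 := T.upper_cases hwy1 (hne_ab habwy).1 (hne_ab habwy).2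
    omega
  have htop : ∀ z : G, z ≠ 1 → a * b ∣ cix z → cix z = cix (w * y) := by
    intro z hz h
    rcases hsizes z hz with e' | e' | e' | e' | e'
    exacts [absurd e' (hne_ab h).1, absurd e' (hne_ab h).2, absurd (e' ▸ (dvd_mul_right a b).trans h) hv_a,
      absurd (e' ▸ (dvd_mul_left b a).trans h) hw_b, e']
  have honly : ∀ z : G, z ≠ 1 → ¬ a ∣ cix z → cix z = b ∨ cix z = cix v := by
    intro z hz h
    rcases hsizes z hz with e' | e' | e' | e' | e'
    exacts [absurd (e' ▸ dvd_rfl) h, Or.inl e', Or.inr e', absurd (e' ▸ (T.up hw1).resolve_right hw_b) h,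
      absurd (e' ▸ (dvd_mul_right a b).trans habwy) h]
  have honly' : ∀ z : G, z ≠ 1 → ¬ b ∣ cix z → cix z = a ∨ cix z = cix w := by
    intro z hz h
    rcases hsizes z hz with e' | e' | e' | e' | e'
    exacts [Or.inl e', absurd (e' ▸ dvd_rfl) h, absurd (e' ▸ (T.up hv1).resolve_left hv_a) h, Or.inr e',
      absurd (e' ▸ (dvd_mul_left b a).trans habwy) h]
  -- a second prime
  obtain ⟨r', hr', hr'a, hne⟩ := T.exists_prime_ne r
  haveI := Fact.mk hr'
  have hr'b : ¬ r' ∣ b := fun h => hr'.ne_one (Nat.eq_one_of_dvd_coprimes T.cop hr'a h)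
  have hr'p : r' ≠ p := fun h => hr'b (h ▸ hpb)
  have hr'D : r' ∣ Nat.card D := by
    have hG : r' ∣ Nat.card G := hr'a.trans (hx ▸ cix_dvd_card x)
    have hY : ∀ y' : G, orderOf y' = r' → cix y' = b → r' ∣ Nat.card D := by
      intro y' hyo' hy'
      have heq : Nat.card D = Nat.card ↥(Subgroup.centralizer ({x} : Set G) ⊓ Subgroup.centralizer ({y'} : Set G)) :=
        Nat.eq_of_mul_eq_mul_right (by have := T.ha; have := T.hb; positivity : 0 < a * b)
          ((T.card_D hx hy).trans (T.card_D hx hy').symm)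
      rw [heq]
      exact (T.dvd_D hxo hx hyo' hy' (heq ▸ hD1)).2
    have hone : ∀ z : G, z ≠ 1 → ¬ r' ∣ cix z → cix z = b ∨ cix z = cix v :=
      fun z hz h => honly z hz fun h' => h (hr'a.trans h')
    obtain ⟨-, z₀, -, hzo₀, -, hznd₀⟩ := exists_central (G := G) r' hG
    rcases hone z₀ (fun h => hr'.ne_one (by rw [← hzo₀, h, orderOf_one])) hznd₀ with h | h
    · exact hY z₀ hzo₀ h
    rw [h] at hznd₀
    obtain ⟨R', hR'⟩ := exists_sylow_le_centralizer hznd₀
    obtain ⟨z, hzR, hzo, hzc, hznd⟩ := exists_center r' hG R'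
    have hz1 : z ≠ 1 := fun h => hr'.ne_one (by rw [← hzo, h, orderOf_one])
    rcases hone z hz1 hznd with h' | h'
    · exact hY z hzo h'
    have hvz : Commute v z := (mem_cent.1 (hR' hzR)).symm
    have hco : (orderOf v).Coprime (orderOf z) := by
      rw [hvo, hzo]; exact (Nat.coprime_primes hr hr').2 hne.symm
    have he : cix (v * z) = cix v := by
      refine (hone _ (mul_ne_one' hco hv1) fun hd => R'.not_dvd_index (hd.trans ?_)).resolve_left fun he => ?_
      · exact Subgroup.index_dvd_of_le fun g hg => mem_cent.2 ((mem_cent.1 (hR' hg)).mul_right (hzc g hg))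
      · exact hvb (Nat.dvd_antisymm (he ▸ Subgroup.index_dvd_of_le (centralizer_mul_le hvz hco))
          ((T.up hv1).resolve_left hv_a))
    have hle : Subgroup.centralizer ({v} : Set G) ≤ Subgroup.centralizer ({z} : Set G) :=
      eq_of_le_cix (centralizer_mul_le hvz hco) he ▸ centralizer_mul_le' hvz hco
    have hzD : z ∈ D := ⟨mem_cent.2 (mem_cent.1 (hle (mem_cent.2 hvx.symm))).symm,
      mem_cent.2 (mem_cent.1 (hle (mem_cent.2 hvy.symm))).symm⟩
    exact hzo ▸ D.orderOf_dvd_natCard hzD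
  obtain ⟨u₀, huo⟩ := exists_prime_orderOf_dvd_card' (G := D) r' hr'D
  rw [← Subgroup.orderOf_coe] at huo
  set u : G := (u₀ : G) with hudef
  obtain ⟨hux, huy⟩ : Commute u x ∧ Commute u y := ⟨mem_cent.1 u₀.2.1, mem_cent.1 u₀.2.2⟩
  have hu1 : u ≠ 1 := fun h => hr'.ne_one (by rw [← huo, h, orderOf_one])
  have hcr : (orderOf u).Coprime r := by rw [huo]; exact (Nat.coprime_primes hr' hr).2 hne
  have hcp : (orderOf u).Coprime p := by rw [huo]; exact (Nat.coprime_primes hr' hp).2 hr'p
  obtain ⟨hua, hub⟩ := T.upper hx hy hu1 hux huy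
  by_cases hau : a ∣ cix u
  · by_cases hbu : b ∣ cix u
    · have h1 : cix (u * y) = cix u := (htop _ (mul_ne_one' (hyo ▸ hcr) hu1)
        (T.ab_dvd_mul hyo hy huy hcr hau)).trans (htop u hu1 (T.cop.mul_dvd_of_dvd_of_dvd hau hbu)).symm
      have hle : Subgroup.centralizer ({u} : Set G) ≤ Subgroup.centralizer ({y} : Set G) :=
        eq_of_le_cix (centralizer_mul_le huy (hyo ▸ hcr)) h1 ▸ centralizer_mul_le' huy (hyo ▸ hcr)
      exact T.ncomm hx hy (mem_cent.1 (hle (mem_cent.2 hux.symm)))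
    · have huw : cix u = cix w := (honly' u hu1 hbu).resolve_left hua
      refine T.swap.false_of_b hyo hy hxo hx hpr.symm (hD.trans (inf_comm _ _)) R hvc hu1 huy hux hcp hbu (fun z hz h => ?_) fun z hz h => ?_
      · rw [huw]; exact honly' z hz h
      · rw [mul_comm b a] at h
        exact (htop z hz h).trans (htop _ (mul_ne_one' (hxo ▸ hcv) hv1) habvx).symm
  · have huv : cix u = cix v := (honly u hu1 hau).resolve_left hub
    exact T.false_of_b hxo hx hyo hy hpr hD P hwc hu1 hux huy hcr hau (fun z hz h => by rw [huv]; exact honly z hz h)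
      htop

theorem card_A {x : G} (hx : cix x = a) : Nat.card (Subgroup.centralizer ({x} : Set G)) = b := by
  have h := card_mul_cix x
  rw [hx, T.card_eq, mul_comm a b] at h
  exact Nat.eq_of_mul_eq_mul_right (by have := T.ha; omega) h

theorem card_B {y : G} (hy : cix y = b) : Nat.card (Subgroup.centralizer ({y} : Set G)) = a := by
  exact T.swap.card_A hy

theorem inf_eq_bot {x y : G} (hx : cix x = a) (hy : cix y = b) :
    Subgroup.centralizer ({x} : Set G) ⊓ Subgroup.centralizer ({y} : Set G) = ⊥ := by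
  refine Subgroup.eq_bot_of_card_eq _ (Nat.eq_of_mul_eq_mul_right
    (by have := T.ha; have := T.hb; positivity : 0 < a * b) ?_)
  rw [T.card_D hx hy, T.card_eq, one_mul]

theorem not_ab_dvd {w : G} (hw : w ≠ 1) : ¬ a * b ∣ cix w := by
  intro h
  rw [← T.card_eq] at h
  have h1 : cix w = Nat.card G := Nat.dvd_antisymm (cix_dvd_card w) h
  have h2 := card_mul_cix w
  rw [h1] at h2
  have h3 : Nat.card (Subgroup.centralizer ({w} : Set G)) = 1 :=
    Nat.eq_of_mul_eq_mul_right Nat.card_pos (h2.trans (one_mul _).symm)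
  exact hw (Subgroup.mem_bot.1 (Subgroup.eq_bot_of_card_eq _ h3 ▸ self_mem w))

theorem card_dvd {w : G} (h : a ∣ cix w) : Nat.card (Subgroup.centralizer ({w} : Set G)) ∣ b := by
  obtain ⟨k, hk⟩ := h
  refine ⟨k, Nat.eq_of_mul_eq_mul_left (by have := T.ha; omega : 0 < a) ?_⟩
  rw [← T.card_eq, ← card_mul_cix w, hk]
  ring

/-- An element whose order is not prime to `a` has class size a multiple of `b`, not of `a`. -/
theorem b_side {w : G} (hw : w ≠ 1) (h : ¬ (orderOf w).Coprime a) : b ∣ cix w ∧ ¬ a ∣ cix w := by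
  have hna : ¬ a ∣ cix w := fun hd =>
    h (T.cop.symm.coprime_dvd_left ((Subgroup.orderOf_dvd_natCard _ (self_mem w)).trans (T.card_dvd hd)))
  exact ⟨(T.up hw).resolve_left hna, hna⟩

end Two

end Cfsg.Agent.Transfer.ConjRankFive
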