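import Cfsg.Agent.Lib.Transfer.ConjRankFour.Local
import Cfsg.Agent.Lib.Grp.Cores
import Cfsg.Agent.S0028
import Cfsg.Agent.S0044

/-!
A solvable group whose elements of prime power order have at most one nontrivial class size `k`, with
partners at every prime divisor of `k`, is abelian as soon as `k` has two prime divisors.
-/

set_option autoImplicit false
set_option linter.style.haveILetI false
set_option linter.unusedSectionVars false
set_option maxHeartbeats 1000000

universe u

namespace Cfsg.Agent.Transfer.ConjRankFive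

open Cfsg Cfsg.Agent Cfsg.Agent.Transfer.ClassDisconnected Cfsg.Agent.Transfer.ConjRankThree
  Cfsg.Agent.Transfer.ConjRankFour

variable {R : Type u} [Group R] [Finite R]

/-- An element with the coprime part of its centraliser central in it has partners. -/
theorem partner_of_max {k : ℕ} (h1 : ∀ (w : R) (l i : ℕ), l.Prime → orderOf w = l ^ i → cix w = 1 ∨ cix w = k)
    {w : R} {l i : ℕ} (hl : l.Prime) (hw : orderOf w = l ^ i) (hwk : cix w = k)
    (hmax : ∀ u : R, Commute w u → (orderOf w).Coprime (orderOf u) →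
      Subgroup.centralizer ({w} : Set R) ≤ Subgroup.centralizer ({u} : Set R))
    {m : ℕ} (hm : m.Prime) (hmk : m ∣ k) (hml : m ≠ l) :
    ∃ (u : R) (j : ℕ), orderOf u = m ^ j ∧ cix u = k ∧
      Subgroup.centralizer ({w} : Set R) ≤ Subgroup.centralizer ({u} : Set R) := by
  haveI := Fact.mk hm
  set C := Subgroup.centralizer ({w} : Set R) with hC
  obtain ⟨M⟩ : Nonempty (Sylow m C) := inferInstance
  by_contra hc
  push Not at hc
  have hcen : ∀ g ∈ (M : Subgroup C), (g : R) ∈ Subgroup.center R := by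
    intro g hg
    obtain ⟨j, hj⟩ := IsPGroup.iff_orderOf.1 M.isPGroup' ⟨g, hg⟩
    rw [Subgroup.orderOf_mk, ← Subgroup.orderOf_coe] at hj
    refine cix_eq_one.1 ((h1 g m j hm hj).resolve_right fun hg' => hc g j hj hg' (hmax g (mem_cent.1 g.2).symm ?_))
    rw [hw, hj]
    exact (((Nat.coprime_primes hl hm).2 hml.symm).pow_left i).pow_right j
  -- a noncentral element at `m`
  obtain ⟨v, hv, hvn⟩ : ∃ v : R, (∃ j, orderOf v = m ^ j) ∧ v ∉ Subgroup.center R := by
    by_contra hv
    push Not at hv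
    obtain ⟨S⟩ : Nonempty (Sylow m R) := inferInstance
    refine S.not_dvd_index (hmk.trans (hwk.symm.dvd.trans (Subgroup.index_dvd_of_le fun g hg => mem_cent.2 ?_)))
    obtain ⟨j, hj⟩ := IsPGroup.iff_orderOf.1 S.isPGroup' ⟨g, hg⟩
    rw [Subgroup.orderOf_mk] at hj
    exact (Subgroup.mem_center_iff.1 (hv g ⟨j, hj⟩) w).symm
  obtain ⟨j, hj⟩ := hv
  have hvk : cix v = k := (h1 v m j hm hj).resolve_left fun h => hvn (cix_eq_one.1 h)
  set M₀ := (M : Subgroup C).map C.subtype with hM₀
  have hcard : Nat.card (Subgroup.centralizer ({v} : Set R)) = Nat.card C := by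
    have h := card_mul_cix v
    rw [hvk, ← card_mul_cix w, hwk] at h
    exact Nat.eq_of_mul_eq_mul_right (hwk ▸ cix_pos w) h
  have hnorm : Subgroup.zpowers v ≤ Subgroup.normalizer (M₀ : Set R) := by
    refine le_trans ?_ (Subgroup.centralizer_le_normalizer _)
    refine Subgroup.zpowers_le.2 (Subgroup.mem_centralizer_iff.2 ?_)
    rintro _ ⟨g, hg, rfl⟩
    exact (Subgroup.mem_center_iff.1 (hcen g hg) v).symm
  have hB : IsPGroup m ↥(Subgroup.zpowers v ⊔ M₀) := (IsPGroup.of_card (n := j)
    (by rw [Nat.card_zpowers, hj])).to_sup_of_normal_right' (M.isPGroup'.map _) hnorm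
  obtain ⟨b, hb⟩ := IsPGroup.iff_card.1 hB
  have hle : Subgroup.zpowers v ⊔ M₀ ≤ Subgroup.centralizer ({v} : Set R) := by
    refine sup_le (Subgroup.zpowers_le.2 (self_mem v)) ?_
    rintro _ ⟨g, hg, rfl⟩
    exact mem_cent.2 (Subgroup.mem_center_iff.1 (hcen g hg) v).symm
  have h2 : Nat.card ↥(Subgroup.zpowers v ⊔ M₀) ≤ Nat.card M₀ := by
    rw [hb, hM₀, Subgroup.card_map_of_injective C.subtype_injective]
    exact Nat.le_of_dvd Nat.card_pos (M.pow_dvd_card_of_pow_dvd_card (hcard ▸ hb ▸ Subgroup.card_dvd_of_le hle))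
  obtain ⟨g, hg, hgv⟩ : v ∈ M₀ := (Subgroup.eq_of_le_of_card_ge le_sup_right h2).ge
    (Subgroup.mem_sup_left (Subgroup.mem_zpowers v))
  exact hvn (hgv ▸ hcen g hg)

/-- The group is abelian. -/
theorem comm_of_sizes [Group.IsSolvable R] {k p q : ℕ} (hp : p.Prime) (hq : q.Prime) (hpq : p ≠ q) (hpk : p ∣ k)
    (hqk : q ∣ k) (h1 : ∀ (w : R) (l i : ℕ), l.Prime → orderOf w = l ^ i → cix w = 1 ∨ cix w = k)
    (h2 : ∀ (w : R) (l i : ℕ), l.Prime → orderOf w = l ^ i → cix w = k → l ∣ k → ∀ m : ℕ, m.Prime → m ∣ k → m ≠ l →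
      ∃ (u : R) (j : ℕ), orderOf u = m ^ j ∧ cix u = k ∧
        Subgroup.centralizer ({w} : Set R) ≤ Subgroup.centralizer ({u} : Set R)) :
    ∀ a b : R, a * b = b * a := by
  have hcore : ∀ l : ℕ, l.Prime → Cfsg.pCore l R ≤ Subgroup.center R := by
    intro l hl
    haveI := Fact.mk hl
    set U := Cfsg.pCore l R with hU
    haveI : U.Normal := Grp.pCore_isNormal
    have hUp : IsPGroup l U := Grp.pCore_isPGroup
    obtain ⟨S⟩ : Nonempty (Sylow l R) := inferInstance
    have hUS : ∀ S : Sylow l R, U ≤ (S : Subgroup R) := fun S =>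
      le_sup_right.trans (S.is_maximal' (S.isPGroup'.to_sup_of_normal_right hUp) le_sup_left).le
    by_cases hlk : l ∣ k
    · -- every `l`-element centralises `U`
      have key : ∀ (w : R) (i : ℕ), orderOf w = l ^ i → ∀ a ∈ U, Commute a w := by
        intro w i hw a ha
        rcases h1 w l i hl hw with e | e
        · exact Subgroup.mem_center_iff.1 (cix_eq_one.1 e) a
        obtain ⟨m, hm, hmk, hml⟩ : ∃ m, m.Prime ∧ m ∣ k ∧ m ≠ l := by
          by_cases hpl : p = l
          · exact ⟨q, hq, hqk, hpl ▸ hpq.symm⟩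
          · exact ⟨p, hp, hpk, hpl⟩
        obtain ⟨u, j, hu, huk, hle⟩ := h2 w l i hl hw e hlk m hm hmk hml
        have hQ : Subgroup.zpowers u ≤ Subgroup.centralizer (U : Set R) := by
          refine Cfsg.Agent.S0028.result l (Subgroup.zpowers w) (Subgroup.zpowers u) U
            (IsPGroup.of_card (n := i) (by rw [Nat.card_zpowers, hw]))
            (by rw [Nat.card_zpowers, hu]; exact ((Nat.coprime_primes hm hl).2 hml).pow_left j) hUp ?_
            (by rw [Subgroup.normalizer_eq_top]; exact le_top) (by rw [Subgroup.normalizer_eq_top]; exact le_top) ?_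
          · rw [Subgroup.zpowers_le]
            refine Subgroup.mem_centralizer_iff.2 ?_
            rintro _ ⟨t, rfl⟩
            exact (((mem_cent.1 (hle (self_mem w))).symm).zpow_left t).eq
          · intro c hc
            have hcw : c ∈ Subgroup.centralizer ({w} : Set R) :=
              mem_cent.2 (Subgroup.mem_centralizer_iff.1 hc.2 w (Subgroup.mem_zpowers w)).symm
            refine Subgroup.mem_centralizer_iff.2 ?_
            rintro _ ⟨t, rfl⟩
            exact ((mem_cent.1 (hle hcw)).symm.zpow_left t).eq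
        have hau : a ∈ Subgroup.centralizer ({u} : Set R) :=
          mem_cent.2 (Subgroup.mem_centralizer_iff.1 (hQ (Subgroup.mem_zpowers u)) a ha)
        rw [← eq_of_le_cix hle (e.trans huk.symm)] at hau
        exact mem_cent.1 hau
      intro a ha
      obtain ⟨i, hi⟩ := IsPGroup.iff_orderOf.1 hUp ⟨a, ha⟩
      rw [Subgroup.orderOf_mk] at hi
      refine cix_eq_one.1 ((h1 a l i hl hi).resolve_right fun e => S.not_dvd_index ((e ▸ hlk : l ∣ cix a).trans ?_))
      refine Subgroup.index_dvd_of_le fun g hg => mem_cent.2 ?_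
      obtain ⟨n, hn⟩ := IsPGroup.iff_orderOf.1 S.isPGroup' ⟨g, hg⟩
      rw [Subgroup.orderOf_mk] at hn
      exact (key g n hn a ha).symm
    · intro a ha
      refine Subgroup.mem_center_iff.2 fun c => ?_
      have hcent : c ∈ Subgroup.centralizer ({a} : Set R) := mem_of_primary _ fun j m i hm hjm => by
        rcases h1 (c ^ j) m i hm hjm with e | e
        · exact mem_cent.2 (Subgroup.mem_center_iff.1 (cix_eq_one.1 e) a).symm
        · obtain ⟨S', hS'⟩ := exists_sylow_le_centralizer (r := l) (u := c ^ j) (e.symm ▸ hlk)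
          exact mem_cent.2 (mem_cent.1 (hS' (hUS S' ha))).symm
      exact (mem_cent.1 hcent).eq
  set Fi := Cfsg.fittingSubgroup R with hFi
  haveI : Fi.Normal := Grp.fittingSubgroup_isNormal
  have hF : Fi ≤ Subgroup.center R := by
    rw [hFi, Grp.fittingSubgroup_eq_iSup_pCore]
    exact iSup_le fun l => hcore l l.2
  intro a b
  have htop : a ∈ Fi := Cfsg.Agent.S0044.result (G := R)
    (Subgroup.mem_centralizer_iff.2 fun f hf => (Subgroup.mem_center_iff.1 (hF hf) a).symm)
  exact (Subgroup.mem_center_iff.1 (hF htop) b).symm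

end Cfsg.Agent.Transfer.ConjRankFive
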