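import Cfsg.Agent.Lib.Transfer.ConjRankFive.Product
import Cfsg.Agent.Lib.Transfer.ConjRankFive.TwoPrime
import Cfsg.Agent.Lib.Transfer.ConjRankThree.Main

/-!
Five class sizes, two above `a` and one above `b`: the two sides, and good centralisers when `a` is even.
-/

set_option autoImplicit false
set_option linter.style.haveILetI false
set_option linter.unusedSectionVars false
set_option maxHeartbeats 1000000

universe u

namespace Cfsg.Agent.Transfer.ConjRankFive

open Cfsg Cfsg.Agent Cfsg.Agent.Transfer.ClassDisconnected Cfsg.Agent.Transfer.ConjRankThree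
  Cfsg.Agent.Transfer.ConjRankFour

variable {G : Type u} [Group G] [Finite G]

/-- A maximal `2`-element in an involution centraliser, the ratio of the sizes a power of two. -/
theorem hnc_of_max {t f : G} (ht : orderOf t = 2) (hfC : Commute f t) {i₀ j : ℕ} (hf : orderOf f = 2 ^ i₀)
    (hf1 : f ≠ 1) (hmax : MaxS f) (hj : cix f = cix t * 2 ^ j)
    (hs : Group.IsSolvable ↥(Subgroup.centralizer ({t} : Set G))) :
    HasNormalPComplement 2 ↥(Subgroup.centralizer ({t} : Set G)) := by
  haveI := Fact.mk Nat.prime_two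
  have htf : t ∈ Subgroup.centralizer ({f} : Set G) := mem_cent.2 hfC.symm
  have hcen : ∀ u ∈ Subgroup.centralizer ({f} : Set G), (orderOf u).Coprime 2 →
      Subgroup.centralizer ({f} : Set G) ≤ Subgroup.centralizer ({u} : Set G) := fun u hu hu2 =>
    hmax.le hf1 (mem_cent.1 hu).symm (by rw [hf]; exact hu2.symm.pow_left i₀)
  obtain ⟨N, -, hNodd, i, hi⟩ := Transfer.hasNormalPComplement_iff_exists.1
    (hnc_of_central fun x hx => central_of_max hmax hf1 hf x hx)
  set H := N.map (Subgroup.centralizer ({f} : Set G)).subtype with hH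
  have hHodd : ∀ u ∈ H, (orderOf u).Coprime 2 := by
    rintro _ ⟨n, hn, rfl⟩
    rw [Subgroup.coe_subtype, Subgroup.orderOf_coe]
    exact Nat.Coprime.coprime_dvd_left (N.orderOf_dvd_natCard hn)
      ((Nat.prime_two.coprime_iff_not_dvd).2 hNodd).symm
  have hHf : H ≤ Subgroup.centralizer ({f} : Set G) := Subgroup.map_subtype_le N
  have hHC : H ≤ Subgroup.centralizer ({t} : Set G) := fun u hu =>
    mem_cent.2 (mem_cent.1 (hcen u (hHf hu) (hHodd u hu) htf)).symm
  set C := Subgroup.centralizer ({t} : Set G)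
  set H' := H.subgroupOf C with hH'
  have hidx : H'.index = 2 ^ (i + j) := by
    have h1 : H.relIndex C * C.index = H.index := Subgroup.relIndex_mul_index hHC
    have h3 : H.index = 2 ^ i * cix f := by rw [hH, Subgroup.index_map_subtype, hi]
    refine Nat.eq_of_mul_eq_mul_right (cix_pos t) ?_
    rw [show H'.index * cix t = H.index from h1, h3, hj]
    ring
  have hodd : ¬ 2 ∣ Nat.card H' := by
    rw [Nat.card_congr (Subgroup.subgroupOfEquivOfLe hHC).toEquiv, hH,
      Subgroup.card_map_of_injective (Subgroup.subtype_injective _)]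
    exact hNodd
  refine Transfer.hasNormalPComplement_iff_exists.2 ⟨H', ?_, hodd, i + j, hidx⟩
  haveI := hs
  refine normal_of_centralized (f := (⟨f, mem_cent.2 hfC⟩ : C)) (by rw [Subgroup.orderOf_mk, hf]) H' hodd hidx ?_
  intro c hc h hh
  rw [Subgroup.mem_subgroupOf] at hh
  have hcf : (c : G) ∈ Subgroup.centralizer ({f} : Set G) := mem_cent.2 (hc.map C.subtype)
  exact Subtype.ext (mem_cent.1 (hcen _ (hHf hh) (hHodd _ hh) hcf)).eq

theorem cix_congr {C D : Subgroup G} (h : C = D) {u : C} {v : D} (huv : (u : G) = v) : cix u = cix v := by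
  subst h
  rw [Subtype.ext huv]

/-- Two sizes above `a`, one above `b`. -/
structure Split (G : Type u) [Group G] (a b c d e : ℕ) : Prop where
  T : Two G a b c d e
  ac : a ∣ c
  ad : a ∣ d
  be : b ∣ e

namespace Split

variable [IsSimpleGroup G] {a b c d e : ℕ} (S : Split G a b c d e)

include S

theorem excl {w : G} (hw : w ≠ 1) : a ∣ cix w → ¬ b ∣ cix w := fun h h' =>
  S.T.not_ab_dvd hw (S.T.cop.mul_dvd_of_dvd_of_dvd h h')

theorem not_a_dvd_e : ¬ a ∣ e := by
  obtain ⟨w, hw, he⟩ := S.T.exE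
  exact fun h => S.excl hw (he ▸ h) (he ▸ S.be)

theorem not_b_dvd : ¬ b ∣ c ∧ ¬ b ∣ d := by
  obtain ⟨w, hw, hc⟩ := S.T.exC
  obtain ⟨v, hv, hd⟩ := S.T.exD
  exact ⟨fun h => S.excl hw (hc ▸ S.ac) (hc ▸ h), fun h => S.excl hv (hd ▸ S.ad) (hd ▸ h)⟩

theorem sizes_a {w : G} (hw : w ≠ 1) (h : a ∣ cix w) : cix w = a ∨ cix w = c ∨ cix w = d := by
  rcases S.T.mem w hw with h' | h' | h' | h' | h'
  exacts [Or.inl h', absurd (h' ▸ h) S.T.not_a_dvd_b, Or.inr (Or.inl h'), Or.inr (Or.inr h'),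
    absurd (h' ▸ h) S.not_a_dvd_e]

theorem sizes_b {w : G} (hw : w ≠ 1) (h : b ∣ cix w) : cix w = b ∨ cix w = e := by
  rcases S.T.mem w hw with h' | h' | h' | h' | h'
  exacts [absurd (h' ▸ h) S.T.not_b_dvd_a, Or.inl h', absurd (h' ▸ h) S.not_b_dvd.1,
    absurd (h' ▸ h) S.not_b_dvd.2, Or.inr h']

theorem maxE {w : G} (h : cix w = e) : MaxS w := fun z hz hd => by
  rcases S.sizes_b hz (S.be.trans (h ▸ hd)) with h' | h'
  · rw [h, h'] at hd
    have hne : b ≠ e := by
      have := S.T.nd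
      simp only [List.nodup_cons, List.mem_cons, List.not_mem_nil, or_false, not_or] at this
      exact this.2.1.2.2
    exact absurd (Nat.dvd_antisymm S.be hd) hne
  · rw [h', h]

theorem ne_one_e {w : G} (h : cix w = e) : w ≠ 1 := ne_one_of_cix (by
  rw [h]
  exact fun h' => S.T.hb.ne' (Nat.dvd_one.1 (h' ▸ S.be)))

/-- The ratio `k`. -/
theorem exists_k : ∃ k, e = b * k ∧ 1 < k ∧ k ∣ a := by
  obtain ⟨k, hk⟩ := S.be
  obtain ⟨w, -, hw⟩ := S.T.exE
  have h := card_mul_cix w
  rw [hw, hk, S.T.card_eq, ← mul_assoc, mul_comm _ b, mul_comm a b, mul_assoc] at h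
  have hka : k ∣ a := Dvd.intro_left _ (Nat.eq_of_mul_eq_mul_left (by have := S.T.hb; omega) h)
  refine ⟨k, hk, ?_, hka⟩
  have hnd := S.T.nd
  simp only [List.nodup_cons, List.mem_cons, List.not_mem_nil, or_false, not_or] at hnd
  rcases Nat.lt_or_ge 1 k with h1 | h1
  · exact h1
  interval_cases k
  · rw [mul_zero] at hk
    exact absurd (hw.trans hk) (cix_pos w).ne'
  · rw [mul_one] at hk
    exact absurd hk.symm hnd.2.1.2.2

/-- In the centraliser of an element `y` of class size `b`. -/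
theorem kappa {k : ℕ} (hk : e = b * k) {y : G} (hy : cix y = b) (g : Subgroup.centralizer ({y} : Set G))
    (hco : (orderOf y).Coprime (orderOf (g : G))) :
    (cix g = 1 ∧ cix (y * (g : G)) = b) ∨ (cix g = k ∧ cix (y * (g : G)) = e) := by
  have h := cix_sub_mul g hco
  have hd : b ∣ cix (y * (g : G)) := by rw [← h, hy]; exact dvd_mul_left b _
  rcases S.sizes_b (mul_ne_one' hco (S.T.swap.ne_one_a hy)) hd with h' | h' <;> rw [h', hy] at h
  · exact Or.inl ⟨(mul_eq_right₀ (by have := S.T.hb; omega)).1 h, h'⟩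
  · exact Or.inr ⟨Nat.eq_of_mul_eq_mul_left (n := b) (by have := S.T.hb; omega) (by rw [mul_comm, h, hk]), h'⟩

theorem prime_side {y : G} (hy : cix y = b) {r i : ℕ} (hr : r.Prime) (hyo : orderOf y = r ^ i) : r ∣ a := by
  have hi : i ≠ 0 := fun h => S.T.swap.ne_one_a hy (orderOf_eq_one_iff.1 (by rw [hyo, h, pow_zero]))
  exact (dvd_pow_self r hi).trans (hyo ▸ S.T.card_B hy ▸ Subgroup.orderOf_dvd_natCard _ (self_mem y))

/-- A prime of `k` has a central element in the centraliser of `y`. -/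
theorem central_of_dvd {k : ℕ} (hk : e = b * k) (hka : k ∣ a) {y : G} (hy : cix y = b) {r i : ℕ} (hr : r.Prime)
    (hyo : orderOf y = r ^ i) {m : ℕ} (hm : m.Prime) (hmk : m ∣ k) (hmr : m ≠ r) :
    ∃ z : G, orderOf z = m ∧ cix z = b ∧
      Subgroup.centralizer ({z} : Set G) = Subgroup.centralizer ({y} : Set G) := by
  haveI := Fact.mk hm
  set R := Subgroup.centralizer ({y} : Set G) with hR
  obtain ⟨M⟩ : Nonempty (Sylow m R) := inferInstance
  obtain ⟨z, -, hzo, -, hznd⟩ := exists_center m (G := R) (S.T.card_B hy ▸ hmk.trans hka) M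
  have hzo' : orderOf (z : G) = m := by rw [Subgroup.orderOf_coe, hzo]
  have hco : (orderOf y).Coprime (orderOf (z : G)) := by
    rw [hyo, hzo']; exact ((Nat.coprime_primes hr hm).2 hmr.symm).pow_left i
  rcases S.kappa hk hy z hco with ⟨h, -⟩ | ⟨h, -⟩
  swap
  · exact absurd (h ▸ hmk) hznd
  have hle : R ≤ Subgroup.centralizer ({(z : G)} : Set G) := fun u hu =>
    mem_cent.2 ((show Commute (⟨u, hu⟩ : R) z from Subgroup.mem_center_iff.1 (cix_eq_one.1 h) _).map R.subtype)
  have hzb : cix (z : G) = b := by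
    refine S.T.swap.of_dvd_a (fun h' => hm.ne_one (by rw [← hzo', h', orderOf_one])) ?_
    rw [← hy]
    exact Subgroup.index_dvd_of_le hle
  exact ⟨z, hzo', hzb, (eq_of_le_cix hle (hy.trans hzb.symm)).symm⟩

/-- No centraliser of class size `b` is abelian. -/
theorem not_comm {y : G} (hy : cix y = b) :
    ¬ ∀ p ∈ Subgroup.centralizer ({y} : Set G), ∀ q ∈ Subgroup.centralizer ({y} : Set G), Commute p q := by
  intro hab
  obtain ⟨w, hw1, hw⟩ := S.T.exE
  obtain ⟨j, s, i, hs, hjs, hjc⟩ := exists_primary_noncentral (not_mem_center S.T.hna hw1)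
  haveI := Fact.mk hs
  have hsa : s ∣ a := by
    have hC : Nat.card (Subgroup.centralizer ({w} : Set G)) ∣ a := S.T.swap.card_dvd (hw ▸ S.be)
    have hi : i ≠ 0 := fun h => hjc (by
      rw [h, pow_zero, orderOf_eq_one_iff] at hjs; rw [hjs]; exact one_mem _)
    exact (dvd_pow_self s hi).trans (hjs ▸ (orderOf_pow_dvd j).trans ((Subgroup.orderOf_dvd_natCard _ (self_mem w)).trans hC))
  obtain ⟨g, hg⟩ := exists_conj_mem hjs (x := y) (by
    rw [hy]; exact fun h => hs.ne_one (Nat.eq_one_of_dvd_coprimes S.T.cop hsa h))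
  have hle : Subgroup.centralizer ({y} : Set G) ≤ Subgroup.centralizer ({g * w ^ j * g⁻¹} : Set G) :=
    fun p hp => mem_cent.2 (hab p hp _ hg)
  have hgb : cix (g * w ^ j * g⁻¹) = cix y :=
    (S.T.swap.of_dvd_a (fun h => hjc (by rw [conj_eq_one_iff.1 h]; exact one_mem _))
      (hy ▸ Subgroup.index_dvd_of_le hle)).trans hy.symm
  have heq := eq_of_le_cix hle hgb.symm
  have hgw : g * w * g⁻¹ ∈ Subgroup.centralizer ({y} : Set G) := by
    rw [heq, mem_cent]
    show g * w * g⁻¹ * (g * w ^ j * g⁻¹) = g * w ^ j * g⁻¹ * (g * w * g⁻¹)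
    calc g * w * g⁻¹ * (g * w ^ j * g⁻¹) = g * (w * w ^ j) * g⁻¹ := by group
      _ = g * (w ^ j * w) * g⁻¹ := by rw [(Commute.self_pow w j).eq]
      _ = g * w ^ j * g⁻¹ * (g * w * g⁻¹) := by group
  have hd : cix (g * w * g⁻¹) ∣ cix y :=
    Subgroup.index_dvd_of_le fun p hp => mem_cent.2 (hab p hp _ hgw)
  rw [cix_conj, hw, hy] at hd
  have := S.T.nd
  simp only [List.nodup_cons, List.mem_cons, List.not_mem_nil, or_false, not_or] at this
  exact this.2.1.2.2 (Nat.dvd_antisymm S.be hd)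

/-- In a solvable centraliser of an element of prime power order and class size `b` the ratio has only
one prime divisor. -/
theorem no_two_primes {k : ℕ} (hk : e = b * k) (hka : k ∣ a) {y : G} (hy : cix y = b) {r i : ℕ} (hr : r.Prime)
    (hyo : orderOf y = r ^ i) [Group.IsSolvable ↥(Subgroup.centralizer ({y} : Set G))] {p q : ℕ} (hp : p.Prime)
    (hq : q.Prime) (hpq : p ≠ q) (hpk : p ∣ k) (hqk : q ∣ k) : False := by
  set R := Subgroup.centralizer ({y} : Set G) with hR
  -- for every prime a central element of order prime to it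
  have hpart : ∀ l : ℕ, l.Prime → ∃ (v : G) (q' n : ℕ), q'.Prime ∧ q' ≠ l ∧ orderOf v = q' ^ n ∧ cix v = b ∧
      Subgroup.centralizer ({v} : Set G) = R := by
    intro l hl
    by_cases h : l = r
    · obtain ⟨m, hm, hmk, hmr⟩ : ∃ m, m.Prime ∧ m ∣ k ∧ m ≠ r := by
        by_cases hpr : p = r
        · exact ⟨q, hq, hqk, hpr ▸ hpq.symm⟩
        · exact ⟨p, hp, hpk, hpr⟩
      obtain ⟨z, hzo, hz, hzC⟩ := S.central_of_dvd hk hka hy hr hyo hm hmk hmr
      exact ⟨z, m, 1, hm, h.symm ▸ hmr, by rw [hzo, pow_one], hz, hzC⟩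
    · exact ⟨y, r, i, hr, Ne.symm h, hyo, hy, rfl⟩
  have hval : ∀ (w : R) (l n : ℕ), l.Prime → orderOf w = l ^ n →
      ∃ v : G, Subgroup.centralizer ({v} : Set G) = R ∧ (orderOf v).Coprime (orderOf (w : G)) ∧
        ((cix w = 1 ∧ cix (v * (w : G)) = b) ∨ (cix w = k ∧ cix (v * (w : G)) = e)) := by
    intro w l n hl hw
    obtain ⟨v, q', n', hq', hql, hv, hvb, hvC⟩ := hpart l hl
    have hco : (orderOf v).Coprime (orderOf (w : G)) := by
      rw [hv, Subgroup.orderOf_coe, hw]; exact (((Nat.coprime_primes hq' hl).2 hql).pow_left n').pow_right n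
    have key : cix (⟨(w : G), hvC.symm ▸ w.2⟩ : Subgroup.centralizer ({v} : Set G)) = cix w := cix_congr hvC rfl
    refine ⟨v, hvC, hco, ?_⟩
    rw [← key]
    exact S.kappa hk hvb _ hco
  have h1 : ∀ (w : R) (l n : ℕ), l.Prime → orderOf w = l ^ n → cix w = 1 ∨ cix w = k := by
    intro w l n hl hw
    obtain ⟨v, -, -, h⟩ := hval w l n hl hw
    exact h.imp And.left And.left
  have hk1 : 1 < k := hp.one_lt.trans_le (Nat.le_of_dvd (Nat.pos_of_dvd_of_pos hka (by have := S.T.ha; omega)) hpk)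
  refine S.not_comm hy fun u hu v hv => congrArg Subtype.val (comm_of_sizes hp hq hpq hpk hqk h1 ?_ ⟨u, hu⟩ ⟨v, hv⟩)
  intro w l n hl hw hwk hlk m hm hmk hml
  obtain ⟨v, hvC, hco, h⟩ := hval w l n hl hw
  have hvw : cix (v * (w : G)) = e := (h.resolve_left fun h' => by omega).2
  have hw1 : (w : G) ≠ 1 := fun h' => by
    rw [show w = 1 from Subtype.ext h', cix_one] at hwk; omega
  have hwo : orderOf (w : G) = l ^ n := by rw [Subgroup.orderOf_coe, hw]
  have hn : n ≠ 0 := fun h' => hw1 (orderOf_eq_one_iff.1 (by rw [hwo, h', pow_zero]))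
  have hbw : b ∣ cix (w : G) := (S.T.b_side hw1 fun h' => hl.ne_one (Nat.eq_one_of_dvd_coprimes h'
    (hwo ▸ dvd_pow_self l hn) (hlk.trans hka))).1
  rcases S.sizes_b hw1 hbw with hwb | hwe
  · -- a central element at `m` with the same centraliser
    obtain ⟨z, hzo, -, hzC⟩ := S.central_of_dvd hk hka hwb hl hwo hm hmk hml
    have hzv : Commute z v := by
      have : v ∈ Subgroup.centralizer ({(w : G)} : Set G) :=
        mem_cent.2 (mem_cent.1 (hvC.symm ▸ w.2 : (w : G) ∈ Subgroup.centralizer ({v} : Set G))).symm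
      rw [← hzC] at this
      exact (mem_cent.1 this).symm
    have hzR : z ∈ R := hvC ▸ mem_cent.2 hzv
    refine ⟨⟨z, hzR⟩, 1, by rw [Subgroup.orderOf_mk, hzo, pow_one], ?_, ?_⟩
    · rw [← hwk]
      refine congrArg Subgroup.index (le_antisymm (fun g hg => ?_) fun g hg => ?_)
      · have := (mem_cent.1 hg).map R.subtype
        exact mem_cent.2 (Subtype.ext (mem_cent.1 (hzC ▸ mem_cent.2 this :
          (g : G) ∈ Subgroup.centralizer ({(w : G)} : Set G))).eq)
      · have := (mem_cent.1 hg).map R.subtype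
        exact mem_cent.2 (Subtype.ext (mem_cent.1 (hzC.symm ▸ mem_cent.2 this :
          (g : G) ∈ Subgroup.centralizer ({z} : Set G))).eq)
    · intro g hg
      have := (mem_cent.1 hg).map R.subtype
      exact mem_cent.2 (Subtype.ext (mem_cent.1 (hzC.symm ▸ mem_cent.2 this :
          (g : G) ∈ Subgroup.centralizer ({z} : Set G))).eq)
  · refine partner_of_max h1 hl hw hwk (fun u hwu hcu g hg => ?_) hm hmk hml
    have h' := (S.maxE hwe).le hw1 (hwu.map R.subtype) (by rwa [← Subgroup.orderOf_coe, ← Subgroup.orderOf_coe] at hcu)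
      (mem_cent.2 ((mem_cent.1 hg).map R.subtype))
    exact mem_cent.2 (Subtype.ext (mem_cent.1 h').eq)

/-- Involution centralisers when `a` is even. -/
theorem good_of_even (h2 : 2 ∣ a) {t : G} (ht : orderOf t = 2) : Good t := by
  haveI := Fact.mk Nat.prime_two
  obtain ⟨k, hk, hk1, hka⟩ := S.exists_k
  have hinv : ∀ {i : G}, orderOf i = 2 → cix i = b ∨ cix i = e := fun {i} hi =>
    S.sizes_b (ne_one_of_two hi) (S.T.b_side (ne_one_of_two hi)
      fun h => Nat.prime_two.ne_one (Nat.eq_one_of_dvd_coprimes h (hi.symm ▸ dvd_rfl) h2)).1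
  rcases hinv ht with htb | hte
  swap
  · exact good_of_max ht (S.maxE hte)
  obtain ⟨v, -, hv⟩ := S.T.exE
  have V := vals_of ht (v := v) (by rw [hv, htb, hk]) hk1 fun w hw hd => by
    rw [htb, hv]; exact S.sizes_b hw (htb ▸ hd)
  refine ⟨V.solvable, ?_⟩
  by_cases hS : SAb G
  · exact Or.inr hS
  left
  by_cases hk2 : 2 ∣ k
  swap
  · exact V.hnc_of_odd hk2
  haveI := V.solvable
  have hpow : k = 2 ^ k.primeFactorsList.length := Nat.eq_prime_pow_of_unique_prime_dvd (by omega) fun {l} hl hlk => by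
    by_contra hne
    exact S.no_two_primes hk hka htb Nat.prime_two (i := 1) (by rw [ht, pow_one]) Nat.prime_two hl (Ne.symm hne) hk2 hlk
  obtain ⟨f₀, i₀, j, hf1, hfo, hio, -, hd, hne⟩ := exists_two_element hS
  have hfe : cix f₀ = e := by
    rcases hinv hio with h | h
    · exact (S.sizes_b hf1 (h ▸ hd)).resolve_left fun h' => hne (h.trans h'.symm)
    · exact absurd (S.maxE h f₀ hf1 hd).symm hne
  obtain ⟨g, hg⟩ := exists_conj_mem (r := 2) (x := t) hfo
    (htb ▸ fun h => Nat.prime_two.ne_one (Nat.eq_one_of_dvd_coprimes S.T.cop h2 h))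
  have hfe' : cix (g * f₀ * g⁻¹) = e := (cix_conj g f₀).trans hfe
  exact hnc_of_max ht (mem_cent.1 hg) (i₀ := j) (j := k.primeFactorsList.length)
    (by rw [← MulAut.conj_apply, MulEquiv.orderOf_eq, hfo]) (S.ne_one_e hfe') (S.maxE hfe')
    (by rw [hfe', htb, ← hpow, hk]) V.solvable

end Split

end Cfsg.Agent.Transfer.ConjRankFive
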