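import Cfsg.Agent.Lib.Transfer.ConjRankFive.Product
import Cfsg.Agent.Lib.Transfer.ConjRankFive.Isolated
import Cfsg.Agent.Lib.Transfer.ConjRankFour.TwoCase

/-!
Five class sizes, the three upper ones all multiples of `a`: involution centralisers are good, or every one
of them lies in the centraliser of an element of class size `a`.
-/

set_option autoImplicit false
set_option linter.style.haveILetI false
set_option linter.unusedSectionVars false
set_option maxHeartbeats 1000000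

open scoped Pointwise

universe u

namespace Cfsg.Agent.Transfer.ConjRankFive

open Cfsg Cfsg.Agent Cfsg.Agent.Transfer.ClassDisconnected Cfsg.Agent.Transfer.ConjRankThree
  Cfsg.Agent.Transfer.ConjRankFour

variable {G : Type u} [Group G] [Finite G]

theorem exists_conj_sylow {r : ℕ} [Fact r.Prime] {x : G} (hx : ¬ r ∣ cix x) {S : Subgroup G} (hS : IsPGroup r S) :
    ∃ g : G, S ≤ Subgroup.centralizer ({g * x * g⁻¹} : Set G) := by
  obtain ⟨Q, hQ⟩ := hS.exists_le_sylow
  obtain ⟨P, hP⟩ := exists_sylow_le_centralizer hx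
  obtain ⟨g, hg⟩ := MulAction.exists_smul_eq G P Q
  refine ⟨g, fun s hs => mem_cent.2 ?_⟩
  have h1 := hQ hs
  rw [← hg] at h1
  obtain ⟨s', hs', rfl⟩ := exists_of_mem_smul h1
  exact commute_conj (mem_cent.1 (hP hs')) g

/-- If every odd-order element of `C(t)` has, multiplied by `t`, an odd class size, `C(t)` has a normal
complement. -/
theorem good_of_odd_sizes {t : G} (ht : orderOf t = 2)
    (h : ∀ u : G, Commute t u → (orderOf u).Coprime 2 → ¬ 2 ∣ cix (t * u)) : Good t := by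
  refine good_of_hnc (hnc_of_regular fun u hu h2 => ?_)
  have hco : (orderOf t).Coprime (orderOf (u : G)) := by rw [ht, Subgroup.orderOf_coe]; exact hu.symm
  exact h u (mem_cent.1 u.2).symm (by rw [Subgroup.orderOf_coe]; exact hu) (cix_sub_mul u hco ▸ h2.mul_right _)

/-- The three upper sizes are multiples of `a`. -/
structure Up (G : Type u) [Group G] (a b c d e : ℕ) : Prop where
  T : Two G a b c d e
  ac : a ∣ c
  ad : a ∣ d
  ae : a ∣ e

namespace Up

variable [IsSimpleGroup G] {a b c d e : ℕ} (U : Up G a b c d e)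

include U

theorem a_dvd {w : G} (hw : w ≠ 1) (h : cix w ≠ b) : a ∣ cix w := by
  rcases U.T.mem w hw with e' | e' | e' | e' | e' <;> rw [e']
  exacts [absurd e' h, U.ac, U.ad, U.ae]

theorem typeB {w : G} (hw : w ≠ 1) (h : ¬ (orderOf w).Coprime a) : cix w = b := by
  by_contra hne
  exact (U.T.b_side hw h).2 (U.a_dvd hw hne)

theorem cB {y : G} (hy : cix y = b) :
    (∀ p ∈ Subgroup.centralizer ({y} : Set G), ∀ q ∈ Subgroup.centralizer ({y} : Set G), p * q = q * p) ∧
    ∀ w ∈ Subgroup.centralizer ({y} : Set G), w ≠ 1 →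
      Subgroup.centralizer ({w} : Set G) = Subgroup.centralizer ({y} : Set G) := by
  set R := Subgroup.centralizer ({y} : Set G) with hR
  have hRa : Nat.card R = a := U.T.card_B hy
  have htype : ∀ w ∈ R, w ≠ 1 → cix w = b := fun w hw hw1 => U.typeB hw1 fun h =>
    hw1 (orderOf_eq_one_iff.1 (Nat.Coprime.eq_one_of_dvd h (hRa ▸ R.orderOf_dvd_natCard hw)))
  have hy1 : y ≠ 1 := U.T.swap.ne_one_a hy
  obtain ⟨r, hr, hry⟩ := Nat.exists_prime_and_dvd (fun h => hy1 (orderOf_eq_one_iff.1 h) : orderOf y ≠ 1)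
  haveI := Fact.mk hr
  set y₀ := y ^ (orderOf y / r) with hy₀
  have hy₀o : orderOf y₀ = r := orderOf_pow_orderOf_div (orderOf_pos y).ne' hry
  have hy₀1 : y₀ ≠ 1 := fun h => hr.ne_one (by rw [← hy₀o, h, orderOf_one])
  have hy₀R : y₀ ∈ R := pow_mem (self_mem y) _
  have hC₀ : Subgroup.centralizer ({y₀} : Set G) = R :=
    (eq_of_le_cix (centralizer_le_pow y _) (hy.trans (htype _ hy₀R hy₀1).symm)).symm
  have key : ∀ p q : G, p ≠ 1 → q ≠ 1 → Subgroup.centralizer ({p} : Set G) = R → q ∈ R →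
      (orderOf p).Coprime (orderOf q) → Subgroup.centralizer ({q} : Set G) = R := by
    intro p q hp hq hpR hqR hc
    have hpm : p ∈ R := hpR ▸ self_mem p
    have hcom : Commute p q := (mem_cent.1 (hpR.symm ▸ hqR)).symm
    have hpq : cix (p * q) = b := htype _ (mul_mem hpm hqR) (mul_ne_one' hc hp)
    rw [← eq_of_le_cix (centralizer_mul_le' hcom hc) (hpq.trans (htype q hqR hq).symm),
      eq_of_le_cix (centralizer_mul_le hcom hc) (hpq.trans (htype p hpm hp).symm), hpR]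
  obtain ⟨s, hs, hsa, hsr⟩ := U.T.exists_prime_ne r
  haveI := Fact.mk hs
  obtain ⟨⟨w₀, hw₀R⟩, hw₀o⟩ := exists_prime_orderOf_dvd_card' (G := R) s (hRa.symm ▸ hsa)
  rw [Subgroup.orderOf_mk] at hw₀o
  have hw₀1 : w₀ ≠ 1 := fun h => hs.ne_one (by rw [← hw₀o, h, orderOf_one])
  have hCw : Subgroup.centralizer ({w₀} : Set G) = R := key y₀ w₀ hy₀1 hw₀1 hC₀ hw₀R
    (by rw [hy₀o, hw₀o]; exact (Nat.coprime_primes hr hs).2 hsr.symm)
  have hcentral : ∀ g ∈ R, g ∈ Subgroup.centralizer (R : Set G) := by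
    intro g hg
    refine mem_of_primary _ fun j q k hq hjk => ?_
    by_cases h1 : g ^ j = 1
    · rw [h1]; exact one_mem _
    have hgR : g ^ j ∈ R := pow_mem hg j
    have hCg : Subgroup.centralizer ({g ^ j} : Set G) = R := by
      by_cases hqr : q = r
      · refine key w₀ _ hw₀1 h1 hCw hgR ?_
        rw [hw₀o, hjk, hqr]
        exact ((Nat.coprime_primes hs hr).2 hsr).pow_right k
      · refine key y₀ _ hy₀1 h1 hC₀ hgR ?_
        rw [hy₀o, hjk]
        exact ((Nat.coprime_primes hr hq).2 (Ne.symm hqr)).pow_right k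
    refine Subgroup.mem_centralizer_iff.2 fun p hp => ?_
    exact (mem_cent.1 (hCg.symm ▸ hp : p ∈ Subgroup.centralizer ({g ^ j} : Set G))).eq
  have hab : ∀ p ∈ R, ∀ q ∈ R, p * q = q * p := fun p hp q hq =>
    (Subgroup.mem_centralizer_iff.1 (hcentral p hp) q hq).symm
  refine ⟨hab, fun w hw hw1 => (Subgroup.eq_of_le_of_card_ge (fun p hp => mem_cent.2 (hab p hp w hw)) ?_).symm⟩
  rw [hRa, U.T.card_B (htype w hw hw1)]

theorem isolated {x : G} (hx : cix x = a) {u : G}
    (hu : u⁻¹ * x * u ∈ Subgroup.centralizer ({x} : Set G)) : u ∈ Subgroup.centralizer ({x} : Set G) := by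
  letI := Fintype.ofFinite G
  obtain ⟨y, -, hy⟩ := U.T.exB
  refine ConjRankThree.isolated U.T.hna (Subgroup.centralizer ({y} : Set G)) (U.T.ne_one_a hx) (U.cB hy).1
    (fun w hw hw1 => (U.cB hy).2 w hw hw1) ?_ ?_ hu
  · rw [U.T.card_B hy, U.T.card_A hx, U.T.card_eq]
  · rw [U.T.card_B hy, U.T.card_A hx]
    exact U.T.cop

theorem iso {x : G} {p : ℕ} (hp : p.Prime) (hxo : orderOf x = p) (hx : cix x = a) : Iso p x :=
  ⟨hp, ⟨1, by rw [hxo, pow_one]⟩, fun _ hu => U.isolated hx hu⟩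

theorem good_of_even_a (h2 : 2 ∣ a) {t : G} (ht : orderOf t = 2) : Good t := by
  refine good_of_hnc (hnc_of_central fun u _ => Subgroup.mem_center_iff.2 fun v => Subtype.ext ?_)
  exact (U.cB (U.typeB (ne_one_of_two ht)
    (by rw [ht, Nat.Prime.coprime_iff_not_dvd Nat.prime_two]; exact not_not.2 h2))).1 v v.2 u u.2

theorem cix_involution (h2 : ¬ 2 ∣ a) {t : G} (ht : orderOf t = 2) : cix t ≠ a ∧ cix t ≠ b := by
  haveI : Fact (Nat.Prime 2) := ⟨Nat.prime_two⟩
  refine ⟨fun h => ?_, fun h => h2 ?_⟩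
  · obtain ⟨P, hP⟩ := exists_sylow_le_centralizer (r := 2) (u := t) (fun h' => h2 (h ▸ h'))
    obtain ⟨N, hN, hNodd, hNc⟩ := Cfsg.Agent.S0215.result P t ht (mem_sylow_of_le ht hP) fun g hg => by
      have hg' : g⁻¹ ∈ Subgroup.centralizer ({t} : Set G) := U.isolated h (by rw [inv_inv]; exact hP hg)
      have := mem_cent.1 (inv_mem hg')
      rw [inv_inv] at this
      rw [this.eq, mul_inv_cancel_right]
    rcases hN.eq_bot_or_eq_top with hb | htop
    · refine not_mem_center U.T.hna (ne_one_of_two ht) (Subgroup.mem_center_iff.2 fun g => ?_)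
      have h1 := Subgroup.mem_bot.1 (hb ▸ hNc g)
      exact (mul_inv_eq_iff_eq_mul.1 (mul_inv_eq_one.1 h1)).symm
    · rw [htop, Subgroup.card_top, Nat.odd_iff] at hNodd
      have : 2 ∣ Nat.card G := ht ▸ orderOf_dvd_natCard t
      omega
  · exact U.T.card_B h ▸ ht ▸ Subgroup.orderOf_dvd_natCard _ (self_mem t)

omit U in
theorem mem_sylow_center {t : G} (ht : orderOf t = 2) (S : Sylow 2 ↥(Subgroup.centralizer ({t} : Set G))) :
    (⟨t, self_mem t⟩ : Subgroup.centralizer ({t} : Set G)) ∈ (S : Subgroup _) := by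
  refine mem_sylow_of_le (by rw [Subgroup.orderOf_mk, ht]) fun g _ => mem_cent.2 (Subtype.ext ?_)
  exact (mem_cent.1 g.2).eq

/-- The class size of an involution times a commuting element of odd order. -/
theorem upper_mul (h2 : ¬ 2 ∣ a) {t u : G} (ht : orderOf t = 2) (h : Commute t u) (hu : (orderOf u).Coprime 2) :
    cix (t * u) = c ∨ cix (t * u) = d ∨ cix (t * u) = e := by
  have hco : (orderOf t).Coprime (orderOf u) := ht.symm ▸ hu.symm
  have hd := Subgroup.index_dvd_of_le (centralizer_mul_le h hco)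
  obtain ⟨ha, hb⟩ := U.cix_involution h2 ht
  have hat : a ∣ cix t := U.a_dvd (ne_one_of_two ht) hb
  exact U.T.upper_cases (mul_ne_one' hco (ne_one_of_two ht))
    (fun h' => ha (Nat.dvd_antisymm (h' ▸ hd) hat)) fun h' => U.T.not_a_dvd_b (hat.trans (h' ▸ hd))

theorem good_of_odd (h2 : ¬ 2 ∣ a) (hc : ¬ 2 ∣ c) (hd : ¬ 2 ∣ d) (he : ¬ 2 ∣ e) {t : G} (ht : orderOf t = 2) :
    Good t :=
  good_of_odd_sizes ht fun u h hu => by
    rcases U.upper_mul h2 ht h hu with e' | e' | e' <;> rw [e'] <;> assumption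

/-- Three different upper sizes exhaust them. -/
theorem three {u₁ u₂ u₃ m : ℕ} (h₁ : u₁ = c ∨ u₁ = d ∨ u₁ = e) (h₂ : u₂ = c ∨ u₂ = d ∨ u₂ = e)
    (h₃ : u₃ = c ∨ u₃ = d ∨ u₃ = e) (n₁ : u₁ ≠ u₂) (n₂ : u₁ ≠ u₃) (n₃ : u₂ ≠ u₃)
    (hm : m = c ∨ m = d ∨ m = e) : m = u₁ ∨ m = u₂ ∨ m = u₃ := by
  omega

theorem exists_odd (h2 : ¬ 2 ∣ a) {t : G} (ht : orderOf t = 2) :
    ∃ m, (m = c ∨ m = d ∨ m = e) ∧ ¬ 2 ∣ m := by
  haveI : Fact (Nat.Prime 2) := ⟨Nat.prime_two⟩
  obtain ⟨-, z, -, hzo, -, hz⟩ := exists_central (G := G) 2 (ht ▸ orderOf_dvd_natCard t)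
  obtain ⟨ha, hb⟩ := U.cix_involution h2 hzo
  exact ⟨cix z, U.T.upper_cases (ne_one_of_two hzo) ha hb, hz⟩

theorem exists_conj_commute (h2 : ¬ 2 ∣ a) {x v : G} (hx : cix x = a) {k : ℕ} (hv : orderOf v = 2 ^ k) :
    ∃ g : G, Commute (g * v * g⁻¹) x := by
  haveI : Fact (Nat.Prime 2) := ⟨Nat.prime_two⟩
  obtain ⟨g, hg⟩ := exists_conj_mem (r := 2) (x := x) hv (hx ▸ h2)
  exact ⟨g, mem_cent.1 hg⟩

/-- Unless all sizes are odd, centralisers of involutions centralising `x` lie in that of `x`. -/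
theorem cent_le (h2 : ¬ 2 ∣ a) (hev : 2 ∣ c ∨ 2 ∣ d ∨ 2 ∣ e) {x : G} {p : ℕ} (hp : p.Prime) (hxo : orderOf x = p)
    (hx : cix x = a) {t : G} (ht : orderOf t = 2) (htx : Commute t x) :
    Subgroup.centralizer ({t} : Set G) ≤ Subgroup.centralizer ({x} : Set G) := by
  haveI : Fact (Nat.Prime 2) := ⟨Nat.prime_two⟩
  haveI := Fact.mk hp
  by_contra hle
  have I := U.iso hp hxo hx
  set K := Subgroup.centralizer ({t} : Set G) with hK
  set H := Subgroup.centralizer ({x} : Set G) with hH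
  have hxK : x ∈ K := mem_cent.2 htx.symm
  have hp2 : p ≠ 2 := fun e' => (U.cix_involution h2 (e' ▸ hxo)).1 hx
  have hcox : (orderOf t).Coprime (orderOf x) := by
    rw [ht, hxo]; exact (Nat.coprime_primes Nat.prime_two hp).2 hp2.symm
  -- a Sylow subgroup of `K` in some stabiliser
  obtain ⟨S⟩ : Nonempty (Sylow 2 K) := inferInstance
  obtain ⟨g₀, hg₀⟩ := exists_conj_sylow (x := x) (hx ▸ h2) (S.isPGroup'.map K.subtype)
  have hg₀K : g₀ * x * g₀⁻¹ ∈ K :=
    mem_cent.2 (mem_cent.1 (hg₀ ⟨⟨t, self_mem t⟩, mem_sylow_center ht S, rfl⟩)).symm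
  have hf2 : ¬ 2 ∣ H.relIndex K := by
    intro h
    refine S.not_dvd_index (h.trans ?_)
    have e1 : H.relIndex K = (Subgroup.centralizer ({g₀ * x * g₀⁻¹} : Set G)).relIndex K := by
      rw [← Subgroup.inf_relIndex_left K H, ← Subgroup.inf_relIndex_left K (Subgroup.centralizer _)]
      have a1 := (K ⊓ H).card_mul_index
      have b1 := Subgroup.relIndex_mul_index (inf_le_left : K ⊓ H ≤ K)
      have b2 := Subgroup.relIndex_mul_index
        (inf_le_left : K ⊓ Subgroup.centralizer ({g₀ * x * g₀⁻¹} : Set G) ≤ K)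
      refine Nat.eq_of_mul_eq_mul_right (cix_pos t) (b1.trans (Eq.trans ?_ b2.symm))
      rw [← (K ⊓ Subgroup.centralizer ({g₀ * x * g₀⁻¹} : Set G)).card_mul_index, I.card_stab hxK hg₀K] at a1
      exact Nat.eq_of_mul_eq_mul_left Nat.card_pos a1
    rw [e1]
    exact Subgroup.index_dvd_of_le fun s hs => Subgroup.mem_subgroupOf.2 (hg₀ ⟨s, hs, rfl⟩)
  obtain ⟨q, hq, hqd⟩ := Nat.exists_prime_and_dvd (fun h => hle (Subgroup.relIndex_eq_one.1 h) : H.relIndex K ≠ 1)
  haveI := Fact.mk hq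
  have hq2 : q ≠ 2 := fun h => hf2 (h ▸ hqd)
  obtain ⟨u, Q, huK, ⟨j, huo⟩, hux, hQp, hQle, hQn⟩ := I.exists_mover hxK hqd
  have htu : Commute t u := (mem_cent.1 huK).symm
  have hu2 : (orderOf u).Coprime 2 := huo ▸ ((Nat.coprime_primes hq Nat.prime_two).2 hq2).pow_left j
  have hcou : (orderOf t).Coprime (orderOf u) := ht.symm ▸ hu2.symm
  have hu1 : u ≠ 1 := fun h => hux (h ▸ Commute.one_left x)
  have htu1 : t * u ≠ 1 := mul_ne_one' hcou (ne_one_of_two ht)
  obtain ⟨hta, htb⟩ := U.cix_involution h2 ht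
  have hU1 := U.T.upper_cases (ne_one_of_two ht) hta htb
  have hU2 := U.upper_mul h2 ht htx (by rw [hxo]; exact (Nat.coprime_primes hp Nat.prime_two).2 hp2)
  have hU3 := U.upper_mul h2 ht htu hu2
  have hd2 : cix t ∣ cix (t * x) := Subgroup.index_dvd_of_le (centralizer_mul_le htx hcox)
  have hd3 : cix t ∣ cix (t * u) := Subgroup.index_dvd_of_le (centralizer_mul_le htu hcou)
  have n12 : cix t ≠ cix (t * x) := fun h => hle
    ((eq_of_le_cix (centralizer_mul_le htx hcox) h.symm).ge.trans (centralizer_mul_le' htx hcox))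
  have n13 : cix t ≠ cix (t * u) := fun h => hux
    (mem_cent.1 ((eq_of_le_cix (centralizer_mul_le htu hcou) h.symm).ge.trans (centralizer_mul_le' htu hcou) hxK)).symm
  have hQtu : Q ≤ Subgroup.centralizer ({t * u} : Set G) := fun w hw =>
    mem_cent.2 ((mem_cent.1 (hQle hw).1).mul_right (mem_cent.1 (hQle hw).2))
  have hKH : Subgroup.centralizer ({t * x} : Set G) = K ⊓ H := inf_eq_centralizer_mul htx hcox
  have hbad : ∀ {L : Subgroup G}, L ≤ K ⊓ H → Q ≤ L → False := fun {L} hL hQL =>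
    hQn (Subgroup.card_dvd_of_le (hQL.trans hL))
  have n23 : cix (t * x) ≠ cix (t * u) := fun h => hQn (by
    have h1 := card_mul_cix (t * x)
    rw [h, ← card_mul_cix (t * u)] at h1
    rw [← hKH, Nat.eq_of_mul_eq_mul_right (cix_pos _) h1]
    exact Subgroup.card_dvd_of_le hQtu)
  have hall : ∀ m, (m = c ∨ m = d ∨ m = e) → m = cix t ∨ m = cix (t * x) ∨ m = cix (t * u) := fun _ hm =>
    U.three hU1 hU2 hU3 n12 n13 n23 hm
  -- parities
  have hc0 : ¬ 2 ∣ cix t := by
    intro h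
    obtain ⟨m, hm, hmo⟩ := U.exists_odd h2 ht
    rcases hall m hm with e' | e' | e' <;> rw [e'] at hmo
    exacts [hmo h, hmo (h.trans hd2), hmo (h.trans hd3)]
  have hd0 : ¬ 2 ∣ cix (t * x) := by
    rw [cix, hKH, ← Subgroup.relIndex_mul_index (inf_le_left : K ⊓ H ≤ K), Subgroup.inf_relIndex_left,
      Nat.prime_two.dvd_mul]
    exact fun h => h.elim hf2 hc0
  have he2 : 2 ∣ cix (t * u) := by
    rcases hev with h | h | h
    · rcases hall c (Or.inl rfl) with e' | e' | e' <;> rw [e'] at h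
      exacts [absurd h hc0, absurd h hd0, h]
    · rcases hall d (Or.inr (Or.inl rfl)) with e' | e' | e' <;> rw [e'] at h
      exacts [absurd h hc0, absurd h hd0, h]
    · rcases hall e (Or.inr (Or.inr rfl)) with e' | e' | e' <;> rw [e'] at h
      exacts [absurd h hc0, absurd h hd0, h]
  have hat : a ∣ cix t := U.a_dvd (ne_one_of_two ht) htb
  have hmax : MaxS (t * u) := by
    intro w hw hdw
    have hb' : cix w ≠ b := fun h' => U.T.not_a_dvd_b (hat.trans ((hd3.trans hdw).trans h'.dvd))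
    have ha' : cix w ≠ a := fun h' => hta (Nat.dvd_antisymm ((hd3.trans hdw).trans h'.dvd) hat)
    rcases hall _ (U.T.upper_cases hw ha' hb') with e' | e' | e'
    exacts [absurd (he2.trans (e' ▸ hdw)) hc0, absurd (he2.trans (e' ▸ hdw)) hd0, e']
  have hMw : ∀ {w : G}, cix w = cix (t * u) → MaxS w := fun {w} hw z hz hd =>
    (hmax z hz (hw ▸ hd)).trans hw.symm
  -- a full Sylow subgroup in `K` and its stabiliser
  obtain ⟨g₁, hg₁⟩ := I.conj_in hxK hg₀K
  by_cases hv : ∃ (v : G) (k : ℕ), orderOf v = 2 ^ k ∧ 2 ∣ cix v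
  · obtain ⟨v₀, k, hv₀, hv2⟩ := hv
    obtain ⟨P, hP⟩ := exists_sylow_le_centralizer hc0
    obtain ⟨P₀, hvP₀⟩ := exists_sylow_mem hv₀
    obtain ⟨g, hg⟩ := MulAction.exists_smul_eq G P₀ P
    obtain ⟨g₂, hg₂⟩ := exists_conj_sylow (x := x) (hx ▸ h2) P.isPGroup'
    set v := g * v₀ * g⁻¹ with hvdef
    have hvP : v ∈ (P : Subgroup G) := by
      rw [← hg]
      show v ∈ MulAut.conj g • (P₀ : Subgroup G)
      exact ⟨v₀, hvP₀, rfl⟩
    have hvo : orderOf v = 2 ^ k := by rw [hvdef, ← MulAut.conj_apply, MulEquiv.orderOf_eq, hv₀]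
    have hvt : Commute v t := mem_cent.1 (hP hvP)
    have hvx : Commute v (g₂ * x * g₂⁻¹) := mem_cent.1 (hg₂ hvP)
    have hv1 : v ≠ 1 := fun h => by
      rw [conj_eq_one_iff] at h
      rw [h, cix_one] at hv2
      omega
    have hx₂K : g₂ * x * g₂⁻¹ ∈ K := mem_cent.2 (mem_cent.1 (hg₂ (mem_sylow_of_le ht hP))).symm
    have hve : cix v = cix (t * u) := by
      have hv2' : 2 ∣ cix v := by rw [hvdef, cix_conj]; exact hv2
      rcases hall (cix v) (U.T.upper_cases hv1 (fun h => h2 (h ▸ hv2')) fun h =>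
        U.T.ncomm ((cix_conj g₂ x).trans hx) h hvx.symm) with e' | e' | e'
      exacts [absurd (e' ▸ hv2') hc0, absurd (e' ▸ hv2') hd0, e']
    have hM : ∀ w : G, Commute v w → (orderOf v).Coprime (orderOf w) →
        Subgroup.centralizer ({v} : Set G) ≤ Subgroup.centralizer ({w} : Set G) :=
      fun w h hc => (hMw hve).le hv1 h hc
    have hCv := (I.conj_iso g₂).max_le Nat.prime_two hvo hvx hM
    obtain ⟨R⟩ : Nonempty (Sylow q (Subgroup.centralizer ({v} : Set G))) := inferInstance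
    set R' := (R : Subgroup (Subgroup.centralizer ({v} : Set G))).map (Subgroup.subtype _) with hR'
    have hRle : R' ≤ K ⊓ Subgroup.centralizer ({g₂ * x * g₂⁻¹} : Set G) := by
      rintro _ ⟨r, hr, rfl⟩
      obtain ⟨m, hm⟩ := IsPGroup.iff_orderOf.1 R.isPGroup' ⟨r, hr⟩
      rw [Subgroup.orderOf_mk, ← Subgroup.orderOf_coe] at hm
      refine ⟨mem_cent.2 (mem_cent.1 (hM r (mem_cent.1 r.2).symm ?_ (mem_cent.2 hvt.symm))).symm, hCv r.2⟩
      rw [hvo, hm]
      exact (((Nat.coprime_primes Nat.prime_two hq).2 hq2.symm).pow_left k).pow_right m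
    refine hQn ?_
    rw [← I.card_stab hxK hx₂K]
    refine Dvd.dvd.trans ?_ (Subgroup.card_dvd_of_le hRle)
    obtain ⟨i, hi⟩ := IsPGroup.iff_card.1 hQp
    rw [hR', Subgroup.card_map_of_injective (Subgroup.subtype_injective _), hi]
    refine R.pow_dvd_card_of_pow_dvd_card ?_
    have h1 := card_mul_cix v
    rw [hve, ← card_mul_cix (t * u)] at h1
    rw [Nat.eq_of_mul_eq_mul_right (cix_pos _) h1, ← hi]
    exact Subgroup.card_dvd_of_le hQtu
  · push Not at hv
    have hSab : SAb G := fun P => Cfsg.Agent.S4355.result (fun w ⟨l, hl⟩ => hv w l hl) P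
    have hqb : q ∣ b := (hqd.trans (Subgroup.relIndex_dvd_card _ _)).trans (U.T.card_dvd hat)
    have hqa : ¬ q ∣ cix x := hx ▸ fun h => hq.ne_one (Nat.eq_one_of_dvd_coprimes U.T.cop h hqb)
    obtain ⟨g, hg⟩ := exists_conj_mem huo hqa
    have hux₂ : Commute u (g⁻¹ * x * g⁻¹⁻¹) := by
      have h := commute_conj (mem_cent.1 hg) g⁻¹
      rwa [show g⁻¹ * (g * u * g⁻¹) * g⁻¹⁻¹ = u by group] at h
    have hub : cix u ≠ b := fun h => U.T.ncomm ((cix_conj g⁻¹ x).trans hx) h hux₂.symm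
    have hdu : cix u ∣ cix (t * u) := Subgroup.index_dvd_of_le (centralizer_mul_le' htu hcou)
    -- an odd size of `u` lets `t` into an abelian Sylow subgroup
    have hodd : ¬ 2 ∣ cix u → False := by
      intro hn
      obtain ⟨S', htS'⟩ := exists_sylow_mem (G := Subgroup.centralizer ({u} : Set G)) (r := 2) (k := 1)
        (f := ⟨t, mem_cent.2 htu⟩) (by rw [Subgroup.orderOf_mk, ht, pow_one])
      have hsp : IsPGroup 2 ((S' : Subgroup _).map (Subgroup.centralizer ({u} : Set G)).subtype) := S'.isPGroup'.map _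
      set S'' := (S' : Subgroup _).map (Subgroup.centralizer ({u} : Set G)).subtype with hS''
      have hi : ¬ 2 ∣ S''.index := by
        rw [hS'', Subgroup.index_map_subtype, Nat.prime_two.dvd_mul]
        exact fun h => h.elim S'.not_dvd_index hn
      have hcom := hSab (hsp.toSylow hi)
      refine hi (he2.trans (Subgroup.index_dvd_of_le fun s hs => mem_cent.2 (Commute.mul_right ?_ ?_)))
      · exact congrArg Subtype.val (hcom.is_comm.comm (⟨s, hs⟩ : ↥((hsp.toSylow hi) : Subgroup G))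
          ⟨t, ⟨⟨t, mem_cent.2 htu⟩, htS', rfl⟩⟩)
      · obtain ⟨s', -, rfl⟩ := hs
        exact mem_cent.1 s'.2
    by_cases hua : cix u = a
    · exact hodd (hua ▸ h2)
    rcases hall (cix u) (U.T.upper_cases hu1 hua hub) with e' | e' | e'
    · exact hodd (e' ▸ hc0)
    · exact hodd (e' ▸ hd0)
    · have hM : ∀ w : G, Commute u w → (orderOf u).Coprime (orderOf w) →
          Subgroup.centralizer ({u} : Set G) ≤ Subgroup.centralizer ({w} : Set G) :=
        fun w h hc => (hMw e').le hu1 h hc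
      have hCu := (I.conj_iso g⁻¹).max_le hq huo hux₂ hM
      have heq := eq_of_le_cix (centralizer_mul_le' htu hcou) e'.symm
      have hx₂K : g⁻¹ * x * g⁻¹⁻¹ ∈ K :=
        centralizer_mul_le htu hcou (heq ▸ mem_cent.2 hux₂.symm)
      refine hQn ?_
      rw [← I.card_stab hxK hx₂K]
      exact Subgroup.card_dvd_of_le fun w hw => ⟨(hQle hw).1, hCu (hQle hw).2⟩

end Up

end Cfsg.Agent.Transfer.ConjRankFive
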