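import Cfsg.Agent.Lib.Transfer.ConjRankFive.Builder
import Cfsg.Agent.Lib.Transfer.ConjRankFive.CCChar
import Cfsg.Agent.Lib.Transfer.ConjRankFive.Up
import Cfsg.Agent.Lib.Transfer.ConjRankFour.TwoCase
import Cfsg.Agent.Lib.Transfer.WielandtDPi
import Cfsg.Agent.S0035

/-!
Two sizes above `a`, one above `b`, `a` odd: isolation, and good involutions.
-/

set_option autoImplicit false
set_option linter.style.haveILetI false
set_option linter.unusedSectionVars false
set_option maxHeartbeats 1000000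

open scoped Pointwise

universe u

namespace Cfsg.Agent.Transfer.ConjRankFive

open Cfsg Cfsg.Agent Cfsg.Agent.Transfer.ClassDisconnected Cfsg.Agent.Transfer.ConjRankThree
  Cfsg.Agent.Transfer.ConjRankFour Cfsg.Agent.Transfer.WielandtDPi

variable {G : Type u} [Group G] [Finite G] [IsSimpleGroup G]

omit [IsSimpleGroup G] in
theorem isDPi_empty : IsDPiGroup (∅ : Set ℕ) G := by
  intro H K hH hK
  have key : ∀ L : Subgroup G, IsPiSubgroup (∅ : Set ℕ) L → L = ⊥ := fun L hL => by
    by_contra h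
    obtain ⟨l, hl, hld⟩ := Nat.exists_prime_and_dvd fun e => h (Subgroup.card_eq_one.1 e)
    exact hL l hl hld
  exact ⟨1, by rw [key H hH.1, key K hK.1, Subgroup.map_bot]⟩

namespace Split

variable {a b c d e : ℕ} (S : Split G a b c d e)

include S

theorem ne_ac : a ≠ c := by have := S.T.nd; simp at this; omega

theorem ne_ad : a ≠ d := by have := S.T.nd; simp at this; omega

theorem ne_cd : c ≠ d := by have := S.T.nd; simp at this; omega

theorem ne_one_d : d ≠ 1 := fun h => by
  have := S.T.ha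
  have := Nat.dvd_one.1 (h ▸ S.ad)
  omega

/-- No class size other than `c` and `d` is a multiple of `c`. -/
theorem of_c_dvd {w : G} (hw : w ≠ 1) (h : c ∣ cix w) : cix w = c ∨ cix w = d := by
  rcases S.sizes_a hw (S.ac.trans h) with e' | e' | e'
  · exact absurd (Nat.dvd_antisymm S.ac (e' ▸ h)) S.ne_ac
  · exact Or.inl e'
  · exact Or.inr e'

theorem ncomm_e {x v : G} (hx : cix x = a) (hv : cix v = e) : ¬ Commute v x := by
  intro h
  have h1 : orderOf x ∣ a :=
    (Subgroup.orderOf_dvd_natCard _ (mem_cent.2 h.symm)).trans (S.T.swap.card_dvd (hv ▸ S.be))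
  have h2 : orderOf x ∣ b := S.T.card_A hx ▸ Subgroup.orderOf_dvd_natCard _ (self_mem x)
  exact S.T.ne_one_a hx (orderOf_eq_one_iff.1 (Nat.eq_one_of_dvd_coprimes S.T.cop h1 h2))

/-- `π(a)`-subgroups are conjugate into a nilpotent centraliser of class size `b`. -/
theorem conj_into {y : G} (hy : cix y = b) (hnil : Group.IsNilpotent (Subgroup.centralizer ({y} : Set G)))
    {K : Subgroup G} (hK : Nat.card K ∣ a) :
    ∃ g : G, ∀ v ∈ K, g * v * g⁻¹ ∈ Subgroup.centralizer ({y} : Set G) := by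
  have hD : Data (primesOf a) ∅ (primesOf a) (Subgroup.centralizer ({y} : Set G))
      (Subgroup.centralizer ({y} : Set G)) ⊥ :=
    { union := (Set.union_empty _).symm
      disj := Set.disjoint_empty _
      hall := by
        refine ⟨fun l _ hl => hl.trans (S.T.card_B hy).dvd, fun l hl hla hd => ?_⟩
        exact S.coprime_b hl hla (hy ▸ hd)
      hs := fun l _ hl => hl.trans (S.T.card_B hy).dvd
      ht := fun l hl hld => absurd (Nat.dvd_one.1 (Subgroup.card_bot (G := G) ▸ hld)) hl.ne_one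
      nilp := hnil
      sup := sup_bot_eq _
      comm := fun p _ q hq => by rw [Subgroup.mem_bot.1 hq, mul_one, one_mul] }
  exact hD.conj_le isDPi_empty fun l _ hl => hl.trans hK

/-- A central element of prime order in a nilpotent centraliser of class size `b`. -/
theorem exists_z {y : G} (hy : cix y = b) (hnil : Group.IsNilpotent (Subgroup.centralizer ({y} : Set G)))
    {s : ℕ} (hs : s.Prime) (hsa : s ∣ a) :
    ∃ z ∈ Subgroup.centralizer ({y} : Set G), orderOf z = s ∧
      Subgroup.centralizer ({z} : Set G) = Subgroup.centralizer ({y} : Set G) := by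
  haveI := Fact.mk hs
  set R := Subgroup.centralizer ({y} : Set G) with hR
  obtain ⟨P⟩ : Nonempty (Sylow s R) := inferInstance
  obtain ⟨z, -, hzo, hzc, -⟩ := ConjRankFour.exists_center s (S.T.card_B hy ▸ hsa) P
  have hPn : (P : Subgroup R).Normal := (Grp.isNilpotent_iff_sylow_normal).1 hnil s inferInstance P
  have hall : ∀ q : R, q ∈ Subgroup.centralizer ({z} : Set R) := fun q =>
    mem_of_primary _ fun n l i hl hn => mem_cent.2 (by
      by_cases hls : l = s
      · subst hls
        obtain ⟨Q, hQ⟩ := (IsPGroup.of_card (n := i) (by rw [Nat.card_zpowers, hn]) :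
          IsPGroup l (Subgroup.zpowers (q ^ n))).exists_le_sylow
        haveI := Sylow.unique_of_normal P hPn
        exact hzc _ (Subsingleton.elim Q P ▸ hQ (Subgroup.mem_zpowers _))
      · haveI : Group.IsNilpotent R := hnil
        exact commute_of_nilpotent (⊤ : Subgroup R) inferInstance (Subgroup.mem_top _) (Subgroup.mem_top _) hl hs
          hls hn (j := 1) (by rw [hzo, pow_one]))
  have hz1 : (z : G) ≠ 1 := fun h => hs.ne_one (by rw [← hzo, ← Subgroup.orderOf_coe, h, orderOf_one])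
  refine ⟨z, z.2, (Subgroup.orderOf_coe z).trans hzo, ?_⟩
  have hle : R ≤ Subgroup.centralizer ({(z : G)} : Set G) := fun q hq =>
    mem_cent.2 ((mem_cent.1 (hall ⟨q, hq⟩)).map R.subtype)
  refine (Subgroup.eq_of_le_of_card_ge hle (Nat.le_of_dvd Nat.card_pos ?_)).symm
  rw [S.T.card_B hy]
  refine S.T.swap.card_dvd (S.T.b_side hz1 fun h => ?_).1
  rw [Subgroup.orderOf_coe, hzo] at h
  exact hs.ne_one (Nat.eq_one_of_dvd_coprimes h dvd_rfl hsa)

/-- The nilpotent centraliser contains the centralisers of its nontrivial elements. -/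
theorem cc {y : G} (hy : cix y = b) (hnil : Group.IsNilpotent (Subgroup.centralizer ({y} : Set G)))
    {w : G} (hw : w ∈ Subgroup.centralizer ({y} : Set G)) (hw1 : w ≠ 1) :
    Subgroup.centralizer ({w} : Set G) ≤ Subgroup.centralizer ({y} : Set G) := by
  set R := Subgroup.centralizer ({y} : Set G) with hR
  obtain ⟨s, hs, hsw⟩ := Nat.exists_prime_and_dvd (fun h => hw1 (orderOf_eq_one_iff.1 h) : orderOf w ≠ 1)
  refine (centralizer_le_pow w (orderOf w / s)).trans ?_
  have hwR : w ^ (orderOf w / s) ∈ R := pow_mem hw _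
  have hwo := orderOf_pow_orderOf_div (orderOf_pos w).ne' hsw
  generalize w ^ (orderOf w / s) = v at hwR hwo ⊢
  clear hw hw1 hsw
  have hv1 : v ≠ 1 := fun h => hs.ne_one (by rw [← hwo, h, orderOf_one])
  have hsa : s ∣ a := hwo ▸ S.T.card_B hy ▸ R.orderOf_dvd_natCard hwR
  have hb : b ∣ cix v := (S.T.b_side hv1 fun h => hs.ne_one (Nat.eq_one_of_dvd_coprimes h (hwo ▸ dvd_rfl) hsa)).1
  set K := Subgroup.centralizer ({v} : Set G) with hK
  rcases S.sizes_b hv1 hb with h | h
  · -- a nilpotent conjugate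
    obtain ⟨g, hg⟩ := S.conj_into hy hnil (S.T.card_B h).dvd
    have hKn : Group.IsNilpotent K := by
      haveI : Group.IsNilpotent R := hnil
      have hle : K.map (MulAut.conj g).toMonoidHom ≤ R := by
        rintro _ ⟨u, hu, rfl⟩
        exact hg u hu
      haveI : Group.IsNilpotent ((K.map (MulAut.conj g).toMonoidHom).subgroupOf R) := inferInstance
      haveI : Group.IsNilpotent (K.map (MulAut.conj g).toMonoidHom) :=
        nilpotent_of_mulEquiv (Subgroup.subgroupOfEquivOfLe hle)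
      exact nilpotent_of_mulEquiv (Subgroup.equivMapOfInjective K (MulAut.conj g).toMonoidHom (MulAut.conj g).injective).symm
    refine fun u hu => mem_of_primary R fun n l i hl hn => ?_
    obtain ⟨l', hl', hl'a, hne⟩ := S.T.exists_prime_ne l
    obtain ⟨z, hzR, hzo, hzC⟩ := S.exists_z hy hnil hl' hl'a
    have hzK : z ∈ K := mem_cent.2 (mem_cent.1 (hzC.symm ▸ hwR : v ∈ Subgroup.centralizer ({z} : Set G))).symm
    rw [show R = _ from hzC.symm]
    exact mem_cent.2 (commute_of_nilpotent K hKn (pow_mem hu n) hzK hl hl' hne.symm hn (j := 1)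
      (by rw [hzo, pow_one]))
  · -- a maximal class size
    obtain ⟨l', hl', hl'a, hne⟩ := S.T.exists_prime_ne s
    obtain ⟨z, hzR, hzo, hzC⟩ := S.exists_z hy hnil hl' hl'a
    rw [show R = _ from hzC.symm]
    exact (S.maxE h).le hv1 (mem_cent.1 (hzC.symm ▸ hwR))
      (by rw [hwo, hzo]; exact (Nat.coprime_primes hs hl').2 hne.symm)

theorem isolated (hodd : ¬ 2 ∣ a) {x : G} (hx : cix x = a) {u : G}
    (hu : u⁻¹ * x * u ∈ Subgroup.centralizer ({x} : Set G)) : u ∈ Subgroup.centralizer ({x} : Set G) := by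
  letI := Fintype.ofFinite G
  obtain ⟨y, hy, hnil⟩ := S.exists_nilpotent hodd
  obtain ⟨s, hs, hsa⟩ := Nat.exists_prime_and_dvd S.T.ha.ne'
  obtain ⟨z, hzR, hzo, hzC⟩ := S.exists_z hy hnil hs hsa
  have hz1 : z ≠ 1 := fun h => hs.ne_one (by rw [← hzo, h, orderOf_one])
  set R := Subgroup.centralizer ({y} : Set G) with hR
  have hRa : Nat.card R = a := S.T.card_B hy
  have hR1 : R ≠ ⊥ := fun h => hz1 (Subgroup.mem_bot.1 (h ▸ hzR))
  have hC : ∀ w ∈ R, w ≠ 1 → Subgroup.centralizer ({w} : Set G) ≤ R := fun w hw hw1 => S.cc hy hnil hw hw1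
  have hTI : ∀ g : G, g ∉ Subgroup.normalizer (R : Set G) → ∀ k ∈ R, g * k * g⁻¹ ∈ R → k = 1 := by
    intro g hg k hk hgk
    by_contra hk1
    have h1 : g * z * g⁻¹ ∈ R := hC _ hgk (fun h => hk1 (by simpa using h))
      (mem_cent.2 (commute_conj (mem_cent.1 (hzC.symm ▸ hk : k ∈ Subgroup.centralizer ({z} : Set G))).symm g))
    refine hg (Subgroup.mem_normalizer_fintype fun q hq => hC _ h1 (fun h => hz1 (by simpa using h)) ?_)
    exact mem_cent.2 (commute_conj (mem_cent.1 (hzC.symm ▸ hq)) g)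
  have hodd' : ¬ 2 ∣ Nat.card ↥(Subgroup.normalizer (R : Set G)) :=
    S.odd_norm hodd hRa.dvd (self_mem y) hy
  refine cc_isolated S.T.hna R (S.T.ne_one_a hx) hR1 hnil hC hTI ?_
    (Nat.not_even_iff_odd.1 fun h => hodd' h.two_dvd) ?_ ?_ hu
  · refine lt_of_le_of_ne Subgroup.le_normalizer fun hN => ?_
    have hRtop : R ≠ ⊤ := fun h => by
      have h1 : b = 1 := by rw [← hy]; show R.index = 1; rw [h, Subgroup.index_top]
      exact S.T.hb.ne' h1
    have hF : IsFrobeniusComplement R := by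
      refine ⟨hR1, hRtop, fun g hg => (Subgroup.eq_bot_iff_forall _).2 fun v hv => ?_⟩
      obtain ⟨hvR, k, hk, hkv⟩ := hv
      have : k = 1 := hTI g (hN ▸ hg) k hk (by simpa [← hkv] using hvR)
      simp [← hkv, this]
    obtain ⟨N, -, hNn, hNc⟩ := Cfsg.Agent.S0035.result R hF
    rcases hNn.eq_bot_or_eq_top with h | h
    · subst h
      exact hRtop (Subgroup.isComplement'_bot_left.1 hNc)
    · subst h
      exact hR1 (Subgroup.isComplement'_top_left.1 hNc)
  · rw [hRa, S.T.card_A hx, S.T.card_eq]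
  · rw [hRa, S.T.card_A hx]; exact S.T.cop

theorem cix_involution (hodd : ¬ 2 ∣ a) {t : G} (ht : orderOf t = 2) : cix t = c ∨ cix t = d := by
  haveI : Fact (Nat.Prime 2) := ⟨Nat.prime_two⟩
  have hb : ¬ b ∣ cix t := fun h => hodd ((ht ▸ Subgroup.orderOf_dvd_natCard _ (self_mem t)).trans
    (S.T.swap.card_dvd h))
  rcases S.T.mem t (ne_one_of_two ht) with h | h | h | h | h
  · exfalso
    obtain ⟨P, hP⟩ := exists_sylow_le_centralizer (r := 2) (u := t) (fun h' => hodd (h ▸ h'))
    obtain ⟨N, hN, hNodd, hNc⟩ := Cfsg.Agent.S0215.result P t ht (mem_sylow_of_le ht hP) fun g hg => by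
      have hg' : g⁻¹ ∈ Subgroup.centralizer ({t} : Set G) := S.isolated hodd h (by rw [inv_inv]; exact hP hg)
      have := mem_cent.1 (inv_mem hg')
      rw [inv_inv] at this
      rw [this.eq, mul_inv_cancel_right]
    rcases hN.eq_bot_or_eq_top with hb | htop
    · refine not_mem_center S.T.hna (ne_one_of_two ht) (Subgroup.mem_center_iff.2 fun g => ?_)
      have h1 := Subgroup.mem_bot.1 (hb ▸ hNc g)
      exact (mul_inv_eq_iff_eq_mul.1 (mul_inv_eq_one.1 h1)).symm
    · rw [htop, Subgroup.card_top, Nat.odd_iff] at hNodd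
      have : 2 ∣ Nat.card G := ht ▸ orderOf_dvd_natCard t
      omega
  · exact absurd h.symm.dvd hb
  · exact Or.inl h
  · exact Or.inr h
  · exact absurd (h ▸ S.be) hb

/-- Both kinds of involution-like sizes have even centralisers: impossible. -/
theorem false_of_even (hodd : ¬ 2 ∣ a) (hcd : c ∣ d) (hc : ¬ 2 ∣ c) (hd : 2 ∣ d)
    {w₀ : G} {k : ℕ} (hw₀ : orderOf w₀ = 2 ^ k) (hw₀d : cix w₀ = d) : False := by
  classical
  haveI := Fact.mk Nat.prime_two
  obtain ⟨x, p, hp, hxo, hx⟩ := S.T.exists_x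
  set H := Subgroup.centralizer ({x} : Set G) with hH
  have hp2 : p ≠ 2 := fun e => by
    rcases S.cix_involution hodd (hxo.trans e) with h | h <;> rw [hx] at h
    exacts [S.ne_ac h, S.ne_ad h]
  have hcox : ∀ {u : G} {j : ℕ}, orderOf u = 2 ^ j → (orderOf u).Coprime (orderOf x) := fun {u j} hu => by
    rw [hu, hxo]; exact ((Nat.coprime_primes Nat.prime_two hp).2 hp2.symm).pow_left j
  have hd_max : ∀ {u : G}, u ≠ 1 → d ∣ cix u → cix u = d := fun {u} hu h => by
    rcases S.of_c_dvd hu (hcd.trans h) with e | e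
    · exact absurd (Nat.dvd_antisymm hcd (e ▸ h)) S.ne_cd
    · exact e
  -- with a Sylow subgroup in its centraliser a product keeps the size `c`
  have hkeep : ∀ {u v : G}, u ≠ 1 → cix u = c → Commute u v → (orderOf u).Coprime (orderOf v) →
      ∀ P : Sylow 2 G, (P : Subgroup G) ≤ Subgroup.centralizer ({u} : Set G) →
        (P : Subgroup G) ≤ Subgroup.centralizer ({v} : Set G) →
        Subgroup.centralizer ({u} : Set G) ≤ Subgroup.centralizer ({v} : Set G) := by
    intro u v hu huc huv hco P hPu hPv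
    have hle := centralizer_mul_le huv hco
    rcases S.of_c_dvd (mul_ne_one' hco hu) (huc ▸ Subgroup.index_dvd_of_le hle) with e | e
    · rw [← eq_of_le_cix hle (e.trans huc.symm)]
      exact centralizer_mul_le' huv hco
    · exfalso
      refine P.not_dvd_index ((hd.trans e.symm.dvd).trans (Subgroup.index_dvd_of_le fun g hg => ?_))
      exact mem_cent.2 ((mem_cent.1 (hPu hg)).mul_right (mem_cent.1 (hPv hg)))
  obtain ⟨Px, hPx⟩ := exists_sylow_le_centralizer (r := 2) (u := x) (fun h => hodd (hx ▸ h))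
  -- centralisers of involutions of `H` lie in `H`
  have hin : ∀ w ∈ H, orderOf w = 2 → Subgroup.centralizer ({w} : Set G) ≤ H := by
    intro w hwH hwo
    have hw1 := ne_one_of_two hwo
    have hwx : Commute w x := mem_cent.1 hwH
    have hco := hcox (j := 1) (by rw [hwo, pow_one])
    rcases S.cix_involution hodd hwo with hw | hw
    · obtain ⟨P, hP⟩ := exists_sylow_le_centralizer (r := 2) (u := w) (hw.symm ▸ hc)
      obtain ⟨g, hg⟩ := MulAction.exists_smul_eq G Px P
      have hx1 : (P : Subgroup G) ≤ Subgroup.centralizer ({g * x * g⁻¹} : Set G) := by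
        intro q hq
        rw [← hg] at hq
        obtain ⟨q', hq', rfl⟩ := exists_of_mem_smul hq
        refine mem_cent.2 ?_
        show g * q' * g⁻¹ * (g * x * g⁻¹) = g * x * g⁻¹ * (g * q' * g⁻¹)
        calc g * q' * g⁻¹ * (g * x * g⁻¹) = g * (q' * x) * g⁻¹ := by group
          _ = g * (x * q') * g⁻¹ := by rw [(mem_cent.1 (hPx hq')).eq]
          _ = g * x * g⁻¹ * (g * q' * g⁻¹) := by group
      have hle := hkeep hw1 hw (mem_cent.1 (hx1 (mem_sylow_of_le hwo hP)))
        (by rw [hwo, ← MulAut.conj_apply, MulEquiv.orderOf_eq, ← hwo]; exact hco) P hP hx1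
      have hg' : g⁻¹ ∈ H := S.isolated hodd hx (u := g⁻¹) (by
        rw [inv_inv, mem_cent]
        exact (mem_cent.1 (hle (mem_cent.2 hwx.symm))).symm)
      have hgx : g * x * g⁻¹ = x := by
        have := mem_cent.1 (inv_mem hg')
        rw [inv_inv] at this
        rw [this.eq, mul_inv_cancel_right]
      rwa [hgx] at hle
    · have hle := centralizer_mul_le hwx hco
      rw [← eq_of_le_cix hle ((hd_max (mul_ne_one' hco hw1) (hw ▸ Subgroup.index_dvd_of_le hle)).trans hw.symm)]
      exact centralizer_mul_le' hwx hco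
  -- an involution of size `c` in `H`
  have h2G : 2 ∣ Nat.card G := hd.trans (hw₀d ▸ cix_dvd_card w₀)
  obtain ⟨t, htP, hto, -, htnd⟩ := exists_center 2 h2G Px
  have htH : t ∈ H := hPx htP
  have htc : cix t = c := (S.cix_involution hodd hto).resolve_right fun e => htnd (e ▸ hd)
  have hCt := hin t htH hto
  set t' : H := ⟨t, htH⟩
  have hJH : cl t ∩ (H : Set G) = H.subtype '' cl t' := by
    ext j
    constructor
    · rintro ⟨hj, hjH⟩
      obtain ⟨g, rfl⟩ := isConj_iff.1 hj
      have h1 : g⁻¹ * x * g ∈ Subgroup.centralizer ({t} : Set G) := by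
        have h2 := mem_cent.1 hjH
        rw [mem_cent]
        show g⁻¹ * x * g * t = t * (g⁻¹ * x * g)
        calc g⁻¹ * x * g * t = g⁻¹ * (x * (g * t * g⁻¹)) * g := by group
          _ = g⁻¹ * (g * t * g⁻¹ * x) * g := by rw [h2.eq]
          _ = t * (g⁻¹ * x * g) := by group
      have hg : g ∈ H := S.isolated hodd hx (hCt h1)
      exact ⟨⟨g * t * g⁻¹, hjH⟩, isConj_iff.2 ⟨⟨g, hg⟩, Subtype.ext rfl⟩, rfl⟩
    · rintro ⟨j', hj', rfl⟩
      obtain ⟨g, rfl⟩ := isConj_iff.1 hj'
      exact ⟨isConj_iff.2 ⟨(g : G), rfl⟩, (g * t' * g⁻¹).2⟩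
  set n := (cl t ∩ (H : Set G)).ncard with hn
  have hn' : n * a = c := by
    have h1 : n = cix t' := by rw [hn, hJH, Set.ncard_image_of_injective _ H.subtype_injective, ncard_cl]
    have h2 := cix_sub H t'
    rw [← h1, show H.index = a from hx, inf_eq_right.2 hCt] at h2
    exact h2.trans htc
  have hn2 : 2 ≤ n := by
    have hc0 : c ≠ 0 := htc ▸ (cix_pos t).ne'
    by_contra hlt
    rcases (by omega : n = 0 ∨ n = 1) with h | h
    · rw [h, zero_mul] at hn'
      exact hc0 hn'.symm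
    · rw [h, one_mul] at hn'
      exact S.ne_ac hn'
  set J := cl t \ (H : Set G) with hJ
  have hJc : J.ncard + n = c := by
    rw [hJ, hn, add_comm, Set.ncard_inter_add_ncard_diff_eq_ncard _ _ (Set.toFinite _), ncard_cl, htc]
  have hmaps : ∀ s ∈ J, ((s : G ⧸ H)) ∈ (Set.univ \ {((1 : G) : G ⧸ H)} : Set (G ⧸ H)) := by
    intro s hs
    refine ⟨Set.mem_univ _, fun h1 => hs.2 ?_⟩
    have := QuotientGroup.eq.1 (Set.mem_singleton_iff.1 h1)
    simpa using H.inv_mem this
  have hlt : (Set.univ \ {((1 : G) : G ⧸ H)} : Set (G ⧸ H)).ncard < J.ncard := by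
    rw [Set.ncard_diff (Set.subset_univ _) (Set.toFinite _), Set.ncard_univ, Set.ncard_singleton,
      ← Subgroup.index_eq_card, show H.index = a from hx]
    obtain ⟨a', rfl⟩ : ∃ a', a = a' + 2 := ⟨a - 2, by have := S.T.ha; omega⟩
    have h5 : 2 * (a' + 1) ≤ n * (a' + 1) := Nat.mul_le_mul_right _ hn2
    have h6 : n * (a' + 2) = n * (a' + 1) + n := by ring
    omega
  obtain ⟨s, hs, s', hs', hne, hss⟩ := Set.exists_ne_map_eq_of_ncard_lt_of_maps_to hlt hmaps (Set.toFinite _)
  have hso : ∀ {r : G}, r ∈ J → orderOf r = 2 := fun {r} hr => by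
    obtain ⟨g, rfl⟩ := isConj_iff.1 hr.1
    rw [show g * t * g⁻¹ = MulAut.conj g t from rfl, MulEquiv.orderOf_eq, hto]
  have hsi : s⁻¹ = s := inv_eq_of_mul_eq_one_right (by rw [← pow_two, ← hso hs, pow_orderOf_eq_one])
  have hs'i : s'⁻¹ = s' := inv_eq_of_mul_eq_one_right (by rw [← pow_two, ← hso hs', pow_orderOf_eq_one])
  have hdH : s * s' ∈ H := by
    have := QuotientGroup.eq.1 hss
    rwa [hsi] at this
  set e₀ := s * s' with he₀
  have he1 : e₀ ≠ 1 := fun h1 => hne (by
    have := eq_inv_of_mul_eq_one_left h1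
    rwa [hs'i] at this)
  have hsd : s * e₀ * s⁻¹ = e₀⁻¹ := by
    rw [he₀, mul_inv_rev, hs'i, hsi, ← mul_assoc s s s', show s * s = 1 from by
      rw [← pow_two, ← hso hs, pow_orderOf_eq_one], one_mul]
  have hex : Commute e₀ x := mem_cent.1 hdH
  -- the centraliser of `e₀` is in `H`
  suffices hle : Subgroup.centralizer ({e₀} : Set G) ≤ H by
    have h1 : s * x * s⁻¹ ∈ Subgroup.centralizer ({e₀} : Set G) := by
      have h2 : s * e₀⁻¹ * s⁻¹ = e₀ := by rw [← conj_inv, hsd, inv_inv]
      refine mem_cent.2 ?_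
      show s * x * s⁻¹ * e₀ = e₀ * (s * x * s⁻¹)
      nth_rewrite 1 [← h2]
      nth_rewrite 2 [← h2]
      calc s * x * s⁻¹ * (s * e₀⁻¹ * s⁻¹) = s * (x * e₀⁻¹) * s⁻¹ := by group
        _ = s * (e₀⁻¹ * x) * s⁻¹ := by rw [(hex.symm.inv_right).eq]
        _ = s * e₀⁻¹ * s⁻¹ * (s * x * s⁻¹) := by group
    have h3 : s⁻¹ ∈ H := S.isolated hodd hx (u := s⁻¹) (by rw [inv_inv]; exact hle h1)
    exact hs.2 (inv_inv s ▸ inv_mem h3)
  have hcd' : cix e₀ = c ∨ cix e₀ = d := by
    rcases S.T.mem e₀ he1 with h | h | h | h | h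
    · exfalso
      have h1 : s ∈ Subgroup.centralizer ({e₀} : Set G) := by
        refine S.isolated hodd h ?_
        rw [hsi]
        nth_rewrite 2 [← hsi]
        rw [hsd, mem_cent]
        exact (Commute.refl e₀).inv_left
      have h2 : e₀⁻¹ = e₀ := by rw [← hsd, (mem_cent.1 h1).eq, mul_inv_cancel_right]
      have h3 : orderOf e₀ = 2 := orderOf_eq_prime (by
        rw [pow_two]
        nth_rewrite 1 [← h2]
        exact inv_mul_cancel e₀) he1
      rcases S.cix_involution hodd h3 with h4 | h4 <;> rw [h] at h4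
      exacts [S.ne_ac h4, S.ne_ad h4]
    · exact absurd hex.symm (S.T.ncomm hx h)
    · exact Or.inl h
    · exact Or.inr h
    · exact (S.ncomm_e hx h hex).elim
  -- it is enough to find an involution centralised by `C(e₀)`
  suffices hw : ∃ w, orderOf w = 2 ∧ Subgroup.centralizer ({e₀} : Set G) ≤ Subgroup.centralizer ({w} : Set G) by
    obtain ⟨w, hwo, hle⟩ := hw
    exact hle.trans (hin w (mem_cent.2 (mem_cent.1 (hle (mem_cent.2 hex.symm))).symm) hwo)
  by_cases h2 : 2 ∣ orderOf e₀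
  · exact ⟨_, orderOf_pow_orderOf_div (orderOf_pos e₀).ne' h2, centralizer_le_pow e₀ _⟩
  have hco : ∀ {w : G}, orderOf w = 2 → (orderOf e₀).Coprime (orderOf w) := fun {w} hw => by
    rw [hw]; exact ((Nat.prime_two.coprime_iff_not_dvd).2 h2).symm
  rcases hcd' with h | h
  · obtain ⟨P, hP⟩ := exists_sylow_le_centralizer (r := 2) (u := e₀) (h.symm ▸ hc)
    obtain ⟨z, hzP, hzo, hzc, -⟩ := exists_center 2 h2G P
    exact ⟨z, hzo, hkeep he1 h (mem_cent.1 (hP hzP)).symm (hco hzo) P hP fun q hq => mem_cent.2 (hzc q hq)⟩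
  · obtain ⟨w, hw, hwo⟩ := exists_involution_mem (K := Subgroup.centralizer ({e₀} : Set G)) (by
      have h1 := card_mul_cix e₀
      rw [h, ← card_mul_cix w₀, hw₀d] at h1
      rw [Nat.eq_of_mul_eq_mul_right (hw₀d ▸ cix_pos w₀) h1]
      have hw₀1 : w₀ ≠ 1 := ne_one_of_cix (hw₀d ▸ S.ne_one_d)
      exact (dvd_pow_self 2 fun e => hw₀1 (orderOf_eq_one_iff.1 (by rw [hw₀, e, pow_zero]))).trans
        (hw₀ ▸ Subgroup.orderOf_dvd_natCard _ (self_mem w₀)))
    have hle := centralizer_mul_le (mem_cent.1 hw).symm (hco hwo)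
    refine ⟨w, hwo, ?_⟩
    rw [← eq_of_le_cix hle ((hd_max (mul_ne_one' (hco hwo) he1) (h ▸ Subgroup.index_dvd_of_le hle)).trans h.symm)]
    exact centralizer_mul_le' (mem_cent.1 hw).symm (hco hwo)

theorem good_c (hodd : ¬ 2 ∣ a) {t : G} (ht : orderOf t = 2) (htc : cix t = c) : Good t := by
  haveI := Fact.mk Nat.prime_two
  have ht1 := ne_one_of_two ht
  by_cases hcd : c ∣ d
  swap
  · refine good_of_max ht fun w hw hd => ?_
    rw [htc] at hd ⊢
    exact (S.of_c_dvd hw hd).resolve_right fun e => hcd (e ▸ hd)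
  obtain ⟨v, -, hv⟩ := S.T.exD
  obtain ⟨k, hk⟩ := hcd
  have hk1 : 1 < k := by
    rcases Nat.lt_or_ge 1 k with h | h
    · exact h
    interval_cases k
    · exact absurd (hk.trans (mul_zero _)) (hv ▸ (cix_pos v).ne')
    · exact absurd (hk.trans (mul_one _)).symm S.ne_cd
  have V := vals_of ht (v := v) (by rw [hv, htc, hk]) hk1 fun w hw hd => by
    rw [htc, hv]; exact S.of_c_dvd hw (htc ▸ hd)
  refine ⟨V.solvable, ?_⟩
  by_cases hd : 2 ∣ d
  swap
  · exact Or.inl (V.hnc_of_odd fun h => hd (hk ▸ h.mul_left c))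
  -- the size `c` is odd
  have hc : ¬ 2 ∣ c := by
    obtain ⟨P, z, -, hzo, -, hznd⟩ := exists_central (G := G) 2 (ht ▸ orderOf_dvd_natCard t)
    exact fun h => hznd (((S.cix_involution hodd hzo).resolve_right fun e => hznd (e ▸ hd)) ▸ h)
  by_cases hw : ∃ (w : G) (j : ℕ), orderOf w = 2 ^ j ∧ cix w = d
  · obtain ⟨w, j, hw, hwd⟩ := hw
    exact (S.false_of_even hodd (Dvd.intro k hk.symm) hc hd hw hwd).elim
  push Not at hw
  refine Or.inr fun P => Cfsg.Agent.S4355.result (fun w ⟨j, hj⟩ => ?_) P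
  show ¬ 2 ∣ cix w
  by_cases hw1 : w = 1
  · rw [hw1, cix_one]; omega
  obtain ⟨i, hio, -, hle⟩ := exists_root Nat.prime_two hw1 hj
  have hdv : cix i ∣ cix w := Subgroup.index_dvd_of_le hle
  have hci : c ∣ cix i := by
    rcases S.cix_involution hodd hio with e | e <;> rw [e]
    exact Dvd.intro k hk.symm
  rw [(S.of_c_dvd hw1 (hci.trans hdv)).resolve_right (hw w j hj)]
  exact hc

theorem perm_cd : Split G a b d c e where
  T := S.T.perm
  ac := S.ad
  ad := S.ac
  be := S.be

theorem good {t : G} (ht : orderOf t = 2) : Good t := by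
  by_cases h2 : 2 ∣ a
  · exact S.good_of_even h2 ht
  rcases S.cix_involution h2 ht with h | h
  · exact S.good_c h2 ht h
  · exact S.perm_cd.good_c h2 ht h

end Split

end Cfsg.Agent.Transfer.ConjRankFive
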